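import Groth.Agent.H12Pic.PicCurve.CechTwo
import Groth.Agent.S15747
import Groth.Agent.H7Flat.PowerRoot
import Groth.Agent.H12Pic.PicSeparated

/-!
# Invertible modules along square-zero thickenings

`H²(X, I) = 0`: invertible modules on the thickened subscheme lift; `H¹(X, I) = 0`: lifts are unique.
-/

set_option autoImplicit false
set_option backward.isDefEq.respectTransparency.types false

noncomputable section

universe u

open CategoryTheory CategoryTheory.Limits AlgebraicGeometry Opposite TopologicalSpace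

namespace Groth.Agent.H12Pic.PicCurve.SqZeroPic

open Groth.Agent.H11Tilde Groth.Agent.H7Flat Groth.Agent.H7Flat.LineCocycle

attribute [local instance 10000] H10Coh.hasSheafifyAb H10Coh.hasWeakSheafifyAb H10Coh.hasExtAb H10Coh.enoughInjAb

variable {X : Scheme.{u}}

theorem isGen_app_iso {M N : X.Modules} (φ : M ≅ N) {V : X.Opens} {e : Γ(M, V)} (he : IsGen M e) :
    IsGen N (φ.hom.app V e) := by
  refine isGen_of_bijective fun W hW => ?_
  have h : (fun r : Γ(X, W) => r • N.presheaf.map (homOfLE hW).op (φ.hom.app V e)) =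
      (φ.hom.app W) ∘ (fun r : Γ(X, W) => r • M.presheaf.map (homOfLE hW).op e) := funext fun r => by
    simp only [Function.comp_apply, Scheme.Modules.Hom.app_smul, H11Tilde.app_map_apply]
  rw [h]
  exact (ConcreteCategory.bijective_of_isIso (φ.hom.app W)).comp (he.bijective hW)

theorem isGen_smul {M : X.Modules} {V : X.Opens} {e : Γ(M, V)} (he : IsGen M e) {c : Γ(X, V)}
    (hc : IsUnit c) : IsGen M (c • e) := by
  refine isGen_of_bijective fun W hW => ?_
  have h : (fun r : Γ(X, W) => r • M.presheaf.map (homOfLE hW).op (c • e)) =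
      (fun r : Γ(X, W) => r • M.presheaf.map (homOfLE hW).op e) ∘ (fun r => r * rr hW c) := funext fun r => by
    simp only [Function.comp_apply, Scheme.Modules.map_smul, mul_smul]
  rw [h]
  exact (he.bijective hW).comp (IsUnit.isUnit_iff_mulRight_bijective.1 (hc.map (rr hW)))

theorem res_rel {M : X.Modules} {U T : X.Opens} (h : T ≤ U) {c : Γ(X, U)} {e e' : Γ(M, U)}
    (he : e' = c • e) :
    M.presheaf.map (homOfLE h).op e' = rr h c • M.presheaf.map (homOfLE h).op e := by
  rw [he, Scheme.Modules.map_smul]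

theorem gen_inj {M : X.Modules} {U : X.Opens} {e : Γ(M, U)} (he : IsGen M e) {c c' : Γ(X, U)}
    (h : c • e = c' • e) : c = c' :=
  (he.bijective le_rfl).1 (by beta_reduce; rw [H10Coh.mres_self]; exact h)

/-- Modules with generators having the same transition functions are isomorphic. -/
theorem iso_of_transition {P Q : X.Modules} {J : Type*} (V : J → X.Opens) (hV : ∀ x, ∃ j, x ∈ V j)
    (e : ∀ j, Γ(P, V j)) (he : ∀ j, IsGen P (e j)) (e' : ∀ j, Γ(Q, V j)) (he' : ∀ j, IsGen Q (e' j))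
    (h : ∀ a b, ∃ g : Γ(X, V a ⊓ V b),
      P.presheaf.map (homOfLE inf_le_left).op (e a) = g • P.presheaf.map (homOfLE inf_le_right).op (e b) ∧
      Q.presheaf.map (homOfLE inf_le_left).op (e' a) = g • Q.presheaf.map (homOfLE inf_le_right).op (e' b)) :
    Nonempty (P ≅ Q) := by
  obtain ⟨φ, -⟩ := H11Ample.exists_iso_of_gen V hV e he e' he' fun i j u hu => by
    obtain ⟨g, hg, hg'⟩ := h i j
    rw [hg] at hu
    rw [← gen_inj ((he j).res inf_le_right) hu]
    exact hg'
  exact ⟨φ⟩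

variable (I : X.IdealSheafData)

/-- the value of a section of the units sheaf -/
abbrev uv {U : X.Opens} (z : (UnitsSh.unitsAb X).obj.obj (op U)) : Γ(X, U) :=
  (UnitsSh.unitOfSect (O := X.presheaf) (U := op U) z).val

/-- the value of a section of the units sheaf of the subscheme -/
abbrev uw {U : X.Opens}
    (z : ((CohTop.push I.subschemeι.base).obj (UnitsSh.unitsAb I.subscheme)).obj.obj (op U)) :
    Γ(I.subscheme, I.subschemeι ⁻¹ᵁ U) :=
  (UnitsSh.unitOfSect (O := I.subscheme.presheaf) (U := op (I.subschemeι ⁻¹ᵁ U)) z).val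

theorem surjective_ι {I : X.IdealSheafData} (hI : I * I = ⊥) : Function.Surjective I.subschemeι := by
  intro x
  have h : (I * I).support = ⊤ := by rw [hI]; rfl
  rw [Scheme.IdealSheafData.support_mul, sup_idem] at h
  have : x ∈ Set.range I.subschemeι := by
    rw [Scheme.IdealSheafData.range_subschemeι, h]
    trivial
  exact this

/-- generators on preimages of opens of the thickening -/
theorem exists_gen_preimage {I : X.IdealSheafData} (hI : I * I = ⊥) {L : I.subscheme.Modules}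
    (hL : PicF.IsInvertible L) :
    ∃ (U : X → X.Opens) (e : ∀ x, Γ(L, I.subschemeι ⁻¹ᵁ U x)),
      (∀ x, x ∈ U x) ∧ ∀ x, IsGen L (e x) := by
  have : ∀ x : X, ∃ (U : X.Opens) (e : Γ(L, I.subschemeι ⁻¹ᵁ U)), x ∈ U ∧ IsGen L e := fun x => by
    obtain ⟨y, rfl⟩ := surjective_ι hI x
    obtain ⟨V, e, hy, he⟩ := H11Ample.exists_gen hL y
    obtain ⟨U, hU, hUV⟩ := I.subschemeι.isEmbedding.isInducing.isOpen_iff.1 V.isOpen
    let U' : X.Opens := ⟨U, hU⟩
    have hle : I.subschemeι ⁻¹ᵁ U' ≤ V := fun z hz => (Set.ext_iff.1 hUV z).1 hz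
    exact ⟨U', L.presheaf.map (homOfLE hle).op e, (Set.ext_iff.1 hUV y).2 hy, he.res hle⟩
  choose U e hx he using this
  exact ⟨U, e, hx, he⟩

/-- surjectivity -/
theorem exists_lift {I : X.IdealSheafData} (hI : I * I = ⊥)
    (h2 : Subsingleton (Coh.HH X (ClSub.idealMod I) 2)) (L₀ : I.subscheme.Modules)
    (hL₀ : PicF.IsInvertible L₀) :
    ∃ L : X.Modules, PicF.IsInvertible L ∧
      Nonempty ((Scheme.Modules.pullback I.subschemeι).obj L ≅ L₀) := by
  obtain ⟨φ, -, hw, hS⟩ := S15747.result X I hI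
  let i := I.subschemeι
  obtain ⟨U, e, hxU, he⟩ := exists_gen_preimage hI hL₀
  have hg : ∀ a b, ∃ g : Γ(I.subscheme, i ⁻¹ᵁ (U a ⊓ U b)), IsUnit g ∧
      L₀.presheaf.map (homOfLE (i.preimage_mono inf_le_right)).op (e b) =
        g • L₀.presheaf.map (homOfLE (i.preimage_mono inf_le_left)).op (e a) := fun a b => by
    obtain ⟨c, hc⟩ := H11Ample.exists_coeff ((he a).res (i.preimage_mono (inf_le_left : U a ⊓ U b ≤ U a)))
      (L₀.presheaf.map (homOfLE (i.preimage_mono inf_le_right)).op (e b))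
    exact ⟨c, PowerRoot.isUnit_coeff ((he a).res _) ((he b).res _) hc, hc⟩
  choose g hgu hge using hg
  have hgT : ∀ a b (T : X.Opens) (ha : T ≤ U a) (hb : T ≤ U b),
      L₀.presheaf.map (homOfLE (i.preimage_mono hb)).op (e b) =
        rr (i.preimage_mono (le_inf ha hb)) (g a b) • L₀.presheaf.map (homOfLE (i.preimage_mono ha)).op (e a) :=
    fun a b T ha hb => by
      have := res_rel (i.preimage_mono (le_inf ha hb)) (hge a b)
      rwa [H10Coh.mres_mres, H10Coh.mres_mres] at this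
  let v : ∀ a b, ((CohTop.push i.base).obj (UnitsSh.unitsAb I.subscheme)).obj.obj (op (U a ⊓ U b)) :=
    fun a b => UnitsSh.sectOfUnit (O := I.subscheme.presheaf) (U := op (i ⁻¹ᵁ (U a ⊓ U b))) (hgu a b).unit
  have hv : CechTwo.IsCocycle ((CohTop.push i.base).obj (UnitsSh.unitsAb I.subscheme)) U v := by
    intro a b c T ha hb hc
    refine Units.ext ?_
    change rr (i.preimage_mono (le_inf ha hb)) (g a b) * rr (i.preimage_mono (le_inf hb hc)) (g b c) =
      rr (i.preimage_mono (le_inf ha hc)) (g a c)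
    refine gen_inj ((he a).res (i.preimage_mono ha)) ?_
    rw [mul_comm, mul_smul, ← hgT a b T ha hb, ← hgT b c T hb hc, ← hgT a c T ha hc]
  have h2' : Subsingleton (H10Coh.Hn (Coh.toAb (ClSub.idealMod I)) 2 (⊤ : Opens X.toTopCat)) :=
    (H10Coh.topEquiv _ 2).symm.toEquiv.subsingleton
  obtain ⟨κ, W, r, hW, w, hcov, hwc, hgw⟩ :=
    CechTwo.exists_lift_cocycle hS h2' U (fun x => ⟨x, hxU x⟩) v hv
  let D : LineCocycle.Data X :=
    { J := κ, V := W, g := fun k l => uv (w k l)
      isUnit := fun k l => Units.isUnit _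
      cocycle := fun a b c T ha hb hc =>
        congrArg (fun z : (UnitsSh.unitsAb X).obj.obj (op T) => uv z) (hwc a b c T ha hb hc)
      cover := hcov }
  refine ⟨line D, isInvertible_line D, ?_⟩
  refine iso_of_transition (fun k => i ⁻¹ᵁ W k) (fun x => ?_)
    (fun k => OmegaSh.pullSect i (line D) (W k) (gen D k)) (fun k => (isGen_gen D k).pullSect i)
    (fun k => L₀.presheaf.map (homOfLE (i.preimage_mono (hW k))).op (e (r k)))
    (fun k => (he _).res _) fun a b => ?_
  · obtain ⟨k, hk⟩ := hcov (i.base x)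
    exact ⟨k, hk⟩
  · refine ⟨i.app (W a ⊓ W b) (rr (inf_comm _ _).le (uv (w b a))), ?_, ?_⟩
    · have h1 := congrArg (OmegaSh.pullSect i (line D) (W a ⊓ W b))
        (gen_trans D b a (W a ⊓ W b) inf_le_right inf_le_left)
      rw [OmegaSh.pullSect_map, OmegaSh.pullSect_smul, OmegaSh.pullSect_map] at h1
      exact h1
    · have h3 : i.app (W a ⊓ W b) (rr (inf_comm _ _).le (uv (w b a))) =
          rr (i.preimage_mono (le_inf (inf_le_right.trans (hW b)) (inf_le_left.trans (hW a))))
            (g (r b) (r a)) := by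
        have h4 := congrArg (fun z => uw I z) (hgw b a)
        change i.app (W b ⊓ W a) (uv (w b a)) = rr (i.preimage_mono (inf_le_inf (hW b) (hW a))) (g (r b) (r a)) at h4
        refine (ConcreteCategory.congr_hom (i.naturality (homOfLE (inf_comm (W a) (W b)).le).op) (uv (w b a))).trans ?_
        refine (congrArg _ h4).trans ?_
        exact H10Coh.rres_rres _ _ _
      rw [h3, H10Coh.mres_mres, H10Coh.mres_mres]
      exact hgT (r b) (r a) (W a ⊓ W b) (inf_le_right.trans (hW b)) (inf_le_left.trans (hW a))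

/-- injectivity -/
theorem iso_of_iso {I : X.IdealSheafData} (hI : I * I = ⊥)
    (h1 : Subsingleton (Coh.HH X (ClSub.idealMod I) 1)) (L M : X.Modules)
    (hL : PicF.IsInvertible L) (hM : PicF.IsInvertible M)
    (φ : (Scheme.Modules.pullback I.subschemeι).obj L ≅ (Scheme.Modules.pullback I.subschemeι).obj M) :
    Nonempty (L ≅ M) := by
  obtain ⟨f, -, hw, hS⟩ := S15747.result X I hI
  let i := I.subschemeι
  have hloc : ∀ x : X, ∃ (V : X.Opens) (eL : Γ(L, V)) (eM : Γ(M, V)), x ∈ V ∧ IsGen L eL ∧ IsGen M eM ∧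
      φ.hom.app (i ⁻¹ᵁ V) (OmegaSh.pullSect i L V eL) = OmegaSh.pullSect i M V eM := fun x => by
    obtain ⟨U₁, e₁, hx₁, he₁⟩ := H11Ample.exists_gen hL x
    obtain ⟨U₂, e₂, hx₂, he₂⟩ := H11Ample.exists_gen hM x
    let U := U₁ ⊓ U₂
    let eL := L.presheaf.map (homOfLE (inf_le_left : U ≤ U₁)).op e₁
    let eM := M.presheaf.map (homOfLE (inf_le_right : U ≤ U₂)).op e₂
    have heL : IsGen L eL := he₁.res _
    have heM : IsGen M eM := he₂.res _
    obtain ⟨c, hc⟩ := H11Ample.exists_coeff (heM.pullSect i)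
      (φ.hom.app (i ⁻¹ᵁ U) (OmegaSh.pullSect i L U eL))
    have hcu : IsUnit c := PowerRoot.isUnit_coeff (heM.pullSect i) (isGen_app_iso φ (heL.pullSect i)) hc
    have hls := (TopCat.Sheaf.isLocallySurjective_iff_epi (UnitsSh.comap i)).mpr hS.epi_g
    obtain ⟨V, hV, ⟨z, hz⟩, hxV⟩ := (TopCat.Presheaf.isLocallySurjective_iff _).mp hls U
      (UnitsSh.sectOfUnit (O := I.subscheme.presheaf) (U := op (i ⁻¹ᵁ U)) hcu.unit) x ⟨hx₁, hx₂⟩
    have hz' : i.app V (uv z) = rr (i.preimage_mono hV) c := congrArg (fun s => uw I s) hz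
    let eM' : Γ(M, V) := M.presheaf.map (homOfLE hV).op eM
    refine ⟨V, L.presheaf.map (homOfLE hV).op eL, uv z • eM', hxV,
      heL.res hV, isGen_smul (heM.res hV) (Units.isUnit _), ?_⟩
    dsimp only [eM']
    rw [OmegaSh.pullSect_smul, OmegaSh.pullSect_map i M hV eM, OmegaSh.pullSect_map i L hV eL, hz',
      H11Tilde.app_map_apply]
    exact res_rel (i.preimage_mono hV) hc
  choose V eL eM hxV heL heM hφ using hloc
  have hg : ∀ (P : X.Modules) (e : ∀ x, Γ(P, V x)), (∀ x, IsGen P (e x)) → ∀ a b,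
      ∃ z : (UnitsSh.unitsAb X).obj.obj (op (V a ⊓ V b)),
        P.presheaf.map (homOfLE inf_le_right).op (e b) =
          uv z • P.presheaf.map (homOfLE inf_le_left).op (e a) := fun P e he a b => by
    obtain ⟨c, hc⟩ := H11Ample.exists_coeff ((he a).res (inf_le_left : V a ⊓ V b ≤ V a))
      (P.presheaf.map (homOfLE inf_le_right).op (e b))
    exact ⟨UnitsSh.sectOfUnit (O := X.presheaf) (U := op (V a ⊓ V b))
      (PowerRoot.isUnit_coeff ((he a).res _) ((he b).res _) hc).unit, hc⟩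
  choose zL hzL using hg L eL heL
  choose zM hzM using hg M eM heM
  have hT : ∀ (P : X.Modules) (e : ∀ x, Γ(P, V x))
      (z : ∀ a b, (UnitsSh.unitsAb X).obj.obj (op (V a ⊓ V b))),
      (∀ a b, P.presheaf.map (homOfLE inf_le_right).op (e b) =
          uv (z a b) • P.presheaf.map (homOfLE inf_le_left).op (e a)) →
      (∀ x, IsGen P (e x)) → CechTwo.IsCocycle (UnitsSh.unitsAb X) V z := by
    intro P e z hz he a b c T ha hb hc
    refine Units.ext ?_
    change rr (le_inf ha hb) (uv (z a b)) * rr (le_inf hb hc) (uv (z b c)) = rr (le_inf ha hc) (uv (z a c))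
    have k1 := res_rel (le_inf ha hb) (hz a b)
    have k2 := res_rel (le_inf hb hc) (hz b c)
    have k3 := res_rel (le_inf ha hc) (hz a c)
    rw [H10Coh.mres_mres, H10Coh.mres_mres] at k1 k2 k3
    refine gen_inj ((he a).res ha) ?_
    rw [mul_comm, mul_smul, ← k1, ← k2, ← k3]
  have hsame : ∀ a b, i.app (V a ⊓ V b) (uv (zL a b)) = i.app (V a ⊓ V b) (uv (zM a b)) := fun a b => by
    refine gen_inj (((heM a).res inf_le_left).pullSect i) ?_
    rw [← OmegaSh.pullSect_smul, ← OmegaSh.pullSect_smul, ← hzM]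
    have key : ∀ c (h : V a ⊓ V b ≤ V c), φ.hom.app (i ⁻¹ᵁ (V a ⊓ V b))
        (OmegaSh.pullSect i L _ (L.presheaf.map (homOfLE h).op (eL c))) =
        OmegaSh.pullSect i M _ (M.presheaf.map (homOfLE h).op (eM c)) := fun c h => by
      rw [OmegaSh.pullSect_map, OmegaSh.pullSect_map, H11Tilde.app_map_apply, hφ]
    have h4 := key b inf_le_right
    rw [hzL, OmegaSh.pullSect_smul, Scheme.Modules.Hom.app_smul, key a inf_le_left,
      ← OmegaSh.pullSect_smul] at h4
    exact h4
  have hker : ∀ a b, (UnitsSh.comap i).hom.app (op (V a ⊓ V b)) (zL a b - zM a b) = 0 := fun a b => by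
    rw [map_sub, sub_eq_zero]
    exact Units.ext (hsame a b)
  choose t ht using fun a b => CechTwo.exists_app_eq hS (V a ⊓ V b) _ (hker a b)
  have htc : CechTwo.IsCocycle (Coh.toAb (ClSub.idealMod I)) V t := fun a b c T ha hb hc => by
    refine CechTwo.app_injective hS T ?_
    have k1 := hT L eL zL hzL heL a b c T ha hb hc
    have k2 := hT M eM zM hzM heM a b c T ha hb hc
    simp only [map_add, ← CechTwo.app_rs]
    erw [ht, ht, ht]
    simp only [map_sub]
    rw [← k1, ← k2]
    abel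
  have h1' : Subsingleton (H10Coh.Hn (Coh.toAb (ClSub.idealMod I)) 1 (⊤ : Opens X.toTopCat)) :=
    (H10Coh.topEquiv _ 1).symm.toEquiv.subsingleton
  obtain ⟨y, hy⟩ := CechTwo.exists_coboundary _ h1' V (fun x => ⟨x, hxV x⟩) t htc
  let p : ∀ a, (UnitsSh.unitsAb X).obj.obj (op (V a)) := fun a => f.hom.app (op (V a)) (y a)
  have hp : ∀ a b, CechTwo.rs (UnitsSh.unitsAb X) inf_le_left (p a) + zL a b =
      CechTwo.rs (UnitsSh.unitsAb X) inf_le_right (p b) + zM a b := fun a b => by
    have h5 := (congrArg (f.hom.app (op (V a ⊓ V b))) (hy a b)).trans (ht a b)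
    rw [map_sub, ← CechTwo.app_rs, ← CechTwo.app_rs] at h5
    rw [eq_comm, ← sub_eq_zero]
    linear_combination (norm := abel) h5
  refine iso_of_transition V (fun x => ⟨x, hxV x⟩) eL heL
    (fun a => uv (p a) • eM a) (fun a => isGen_smul (heM a) (Units.isUnit _)) fun a b => ?_
  refine ⟨rr (inf_comm _ _).le (uv (zL b a)), ?_, ?_⟩
  · have := res_rel (inf_comm (V a) (V b)).le (hzL b a)
    rwa [H10Coh.mres_mres, H10Coh.mres_mres] at this
  · have h6 := congrArg (rr (inf_comm (V a) (V b)).le) (congrArg (fun z : (UnitsSh.unitsAb X).obj.obj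
      (op (V b ⊓ V a)) => uv z) (hp b a))
    have h8 : rr (inf_comm (V a) (V b)).le (rr (inf_le_left : V b ⊓ V a ≤ V b) (uv (p b))) *
          rr (inf_comm (V a) (V b)).le (uv (zL b a)) =
        rr (inf_comm (V a) (V b)).le (rr (inf_le_right : V b ⊓ V a ≤ V a) (uv (p a))) *
          rr (inf_comm (V a) (V b)).le (uv (zM b a)) :=
      ((map_mul _ _ _).symm.trans h6).trans (map_mul _ _ _)
    rw [rr_rr, rr_rr] at h8
    have h7 := res_rel (inf_comm (V a) (V b)).le (hzM b a)
    rw [H10Coh.mres_mres, H10Coh.mres_mres] at h7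
    refine (res_rel inf_le_left (e := eM a) rfl).trans ?_
    refine Eq.trans ?_ (congrArg _ (res_rel inf_le_right (e := eM b) rfl)).symm
    rw [h7, smul_smul, smul_smul]
    congr 1
    exact h8.symm.trans (mul_comm _ _)

theorem pullCl_surjective {I : X.IdealSheafData} (hI : I * I = ⊥)
    (h2 : Subsingleton (Coh.HH X (ClSub.idealMod I) 2)) (c : PicF.Cl I.subscheme)
    (hc : PicF.IsInvertibleCl c) :
    ∃ d : PicF.Cl X, PicF.IsInvertibleCl d ∧ PicF.pullCl I.subschemeι d = c := by
  obtain ⟨L₀, rfl, hL₀⟩ := hc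
  obtain ⟨L, hL, ⟨ψ⟩⟩ := exists_lift hI h2 L₀ hL₀
  exact ⟨PicF.cl L, ⟨L, rfl, hL⟩, Quot.sound ⟨ψ⟩⟩

theorem pullCl_injective {I : X.IdealSheafData} (hI : I * I = ⊥)
    (h1 : Subsingleton (Coh.HH X (ClSub.idealMod I) 1)) (c d : PicF.Cl X)
    (hc : PicF.IsInvertibleCl c) (hd : PicF.IsInvertibleCl d)
    (h : PicF.pullCl I.subschemeι c = PicF.pullCl I.subschemeι d) : c = d := by
  obtain ⟨L, rfl, hL⟩ := hc
  obtain ⟨M, rfl, hM⟩ := hd
  exact Quot.sound (iso_of_iso hI h1 L M hL hM (Sep.iso_of_cl_eq h).some)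

end Groth.Agent.H12Pic.PicCurve.SqZeroPic
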