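import Groth.Agent.S1216
import Groth.Agent.H3CAlg.ValPd
import Groth.Agent.H02CA.PicValGeneric
import Groth.Agent.H11Tilde.AffineInvertible
import Mathlib.RingTheory.Flat.Localization

/-!
# Flat algebras over valuation rings: units and invertible modules on the generic fibre
-/

set_option autoImplicit false
set_option linter.style.haveILetI false
set_option linter.unusedSectionVars false
set_option maxHeartbeats 800000

noncomputable section

universe u

open scoped TensorProduct nonZeroDivisors

namespace Groth.Agent.H12Pic.PicCurve.ValUnits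

variable {V B C : Type u} [CommRing V] [IsDomain V] [ValuationRing V] [CommRing B] [Algebra V B]
  [Module.Flat V B] [Algebra.EssFiniteType V B] [CommRing C] [Algebra B C]
  [IsLocalization (Algebra.algebraMapSubmonoid B V⁰) C]

/-- A local algebra has the same content as the elements it contains. -/
theorem exists_content (A : Type u) [CommRing A] [IsLocalRing A] [Algebra V A] [IsLocalHom (algebraMap V A)]
    [Algebra.EssFiniteType V A] [Module.Flat V A] (a : A) (ha : a ≠ 0) :
    ∃ (c : V) (a₀ : A), a = algebraMap V A c * a₀ ∧ c ≠ 0 ∧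
      a₀ ∉ (IsLocalRing.maximalIdeal V).map (algebraMap V A) := by
  have mem : ∀ (I : Ideal V) (x : A), x ∈ I • (⊤ : Submodule V A) ↔ x ∈ I.map (algebraMap V A) := fun I x => by
    rw [Ideal.smul_top_eq_map]; rfl
  obtain ⟨I, ⟨c, rfl⟩, hI, hmin⟩ := S1216.result (A := V) (B := A) A a
  rw [mem, Ideal.submodule_span_eq, Ideal.map_span, Set.image_singleton, Ideal.mem_span_singleton] at hI
  obtain ⟨a₀, rfl⟩ := hI
  have hc : c ≠ 0 := fun h => ha (by rw [h, map_zero, zero_mul])
  refine ⟨c, a₀, rfl, hc, fun h => ?_⟩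
  have h' : algebraMap V A c * a₀ ∈ ((Ideal.span {c}) * IsLocalRing.maximalIdeal V).map (algebraMap V A) := by
    rw [Ideal.map_mul]
    exact Ideal.mul_mem_mul (Ideal.mem_map_of_mem _ (Ideal.mem_span_singleton_self c)) h
  obtain ⟨m, hm, hcm⟩ := Ideal.mem_span_singleton_mul.1
    (hmin _ ((mem _ _).2 h') (Ideal.mem_span_singleton_self c))
  have : m = 1 := mul_left_cancel₀ hc (hcm.trans (mul_one c).symm)
  exact (IsLocalRing.maximalIdeal.isMaximal V).ne_top ((Ideal.eq_top_iff_one _).2 (this ▸ hm))

theorem injective_algebraMap (V : Type u) {B C : Type u} [CommRing V] [CommRing B] [Algebra V B]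
    [Module.Flat V B] [CommRing C] [Algebra B C] [IsLocalization (Algebra.algebraMapSubmonoid B V⁰) C] :
    Function.Injective (algebraMap B C) :=
  IsLocalization.injective C (M := Algebra.algebraMapSubmonoid B V⁰) fun x hx => by
    obtain ⟨s, hs, rfl⟩ := Submonoid.mem_map.1 hx
    refine mem_nonZeroDivisors_iff_right.2 fun y hy => ?_
    have hreg : IsSMulRegular B s := Module.Flat.isSMulRegular_of_nonZeroDivisors hs
    refine hreg ?_
    show s • y = s • (0 : B)
    rw [smul_zero, Algebra.smul_def, mul_comm]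
    exact hy

/-- A unit on the generic fibre is a scalar times a unit near every point. -/
theorem exists_scalar_mul_unit (q : Ideal B) [q.IsPrime]
    (hfib : (((q.comap (algebraMap V B)).map (algebraMap V B)).map (algebraMap B (Localization.AtPrime q))).IsPrime)
    {w : C} (hw : IsUnit w) :
    ∃ c r : V, c ≠ 0 ∧ r ≠ 0 ∧ ∃ a t : B, a ∉ q ∧ t ∉ q ∧
      algebraMap B C (algebraMap V B r * t) * w = algebraMap B C (algebraMap V B c * a) := by
  let p : Ideal V := q.comap (algebraMap V B)
  let V' := Localization.AtPrime p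
  let A := Localization.AtPrime q
  haveI : IsDomain V' := IsLocalization.isDomain_localization (Ideal.primeCompl_le_nonZeroDivisors p)
  haveI : ValuationRing V' := H3CAlg.ValPd.valuationRing_localization p
  let φ : V' →+* A := Localization.localRingHom p q (algebraMap V B) rfl
  letI : Algebra V' A := φ.toAlgebra
  haveI : IsLocalHom (algebraMap V' A) := Localization.isLocalHom_localRingHom p q (algebraMap V B) rfl
  haveI : IsScalarTower V V' A := IsScalarTower.of_algebraMap_eq fun v => by
    show algebraMap V A v = φ (algebraMap V V' v)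
    rw [Localization.localRingHom_to_map, ← IsScalarTower.algebraMap_apply]
  haveI : Algebra.EssFiniteType B A := Algebra.EssFiniteType.of_isLocalization A q.primeCompl
  haveI : Algebra.EssFiniteType V A := Algebra.EssFiniteType.comp V B A
  haveI : Algebra.EssFiniteType V' A := Algebra.EssFiniteType.of_comp V V' A
  haveI : Module.Flat V A := Module.Flat.trans V B A
  haveI : Module.Flat V' A := (Module.flat_iff_of_isLocalization V' p.primeCompl A).2 inferInstance
  have hP : ((IsLocalRing.maximalIdeal V').map (algebraMap V' A)).IsPrime := by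
    rw [← IsLocalization.AtPrime.map_eq_maximalIdeal p V', Ideal.map_map, ← IsScalarTower.algebraMap_eq,
      IsScalarTower.algebraMap_eq V B A, ← Ideal.map_map]
    exact hfib
  obtain ⟨⟨b, ⟨_, r, hr, rfl⟩⟩, hb⟩ := IsLocalization.surj (Algebra.algebraMapSubmonoid B V⁰) w
  obtain ⟨⟨b', ⟨_, r', hr', rfl⟩⟩, hb'⟩ :=
    IsLocalization.surj (Algebra.algebraMapSubmonoid B V⁰) (hw.unit⁻¹ : Cˣ).1
  change w * algebraMap B C (algebraMap V B r) = algebraMap B C b at hb
  change (hw.unit⁻¹ : Cˣ).1 * algebraMap B C (algebraMap V B r') = algebraMap B C b' at hb'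
  have hinj : Function.Injective (algebraMap B C) := injective_algebraMap V
  have hprod : b * b' = algebraMap V B (r * r') := hinj (by
    rw [map_mul, ← hb, ← hb', map_mul, map_mul]
    linear_combination (algebraMap B C (algebraMap V B r) * algebraMap B C (algebraMap V B r')) * hw.mul_val_inv)
  have hrr : algebraMap V V' r * algebraMap V V' r' ≠ 0 := by
    refine mul_ne_zero ?_ ?_ <;>
    · rw [Ne, ← map_zero (algebraMap V V'), (IsLocalization.injective V' p.primeCompl_le_nonZeroDivisors).eq_iff]
      exact nonZeroDivisors.ne_zero ‹_›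
  have hA : algebraMap B A b * algebraMap B A b' = algebraMap V' A (algebraMap V V' r * algebraMap V V' r') := by
    rw [← map_mul, hprod, ← map_mul, ← IsScalarTower.algebraMap_apply V B A, ← IsScalarTower.algebraMap_apply V V' A]
  have hinj' : Function.Injective (algebraMap V' A) := by
    haveI : Module.FaithfullyFlat V' A := Module.FaithfullyFlat.of_flat_of_isLocalHom
    exact FaithfulSMul.algebraMap_injective V' A
  have hne : algebraMap V' A (algebraMap V V' r * algebraMap V V' r') ≠ 0 := fun h => hrr
    (hinj' (h.trans (map_zero _).symm))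
  have hb0 : algebraMap B A b ≠ 0 := fun h => hne (by rw [← hA, h, zero_mul])
  have hb0' : algebraMap B A b' ≠ 0 := fun h => hne (by rw [← hA, h, mul_zero])
  obtain ⟨c, a₀, e, hc, ha₀⟩ := exists_content (V := V') A _ hb0
  obtain ⟨c', a₀', e', hc', ha₀'⟩ := exists_content (V := V') A _ hb0'
  have hnot : a₀ * a₀' ∉ (IsLocalRing.maximalIdeal V').map (algebraMap V' A) := fun h =>
    (hP.mem_or_mem h).elim ha₀ ha₀'
  have hA' : algebraMap V' A (c * c') * (a₀ * a₀') = algebraMap V' A (algebraMap V V' r * algebraMap V V' r') := by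
    rw [← hA, e, e', map_mul]; ring
  have hregA : ∀ {v : V'}, v ≠ 0 → ∀ {x y : A}, algebraMap V' A v * x = algebraMap V' A v * y → x = y := by
    intro v hv x y h
    refine Module.Flat.isSMulRegular_of_nonZeroDivisors (M := A) (mem_nonZeroDivisors_of_ne_zero hv) ?_
    show v • x = v • y
    rwa [Algebra.smul_def, Algebra.smul_def]
  have hunit : IsUnit a₀ := by
    rcases ValuationRing.dvd_total (c * c') (algebraMap V V' r * algebraMap V V' r') with ⟨v, hv⟩ | ⟨v, hv⟩
    · have h1 : a₀ * a₀' = algebraMap V' A v := hregA (mul_ne_zero hc hc') (hA'.trans (by rw [hv, map_mul]))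
      have hvu : IsUnit v := by
        by_contra hvn
        exact hnot (h1 ▸ Ideal.mem_map_of_mem _ ((IsLocalRing.mem_maximalIdeal v).2 hvn))
      exact isUnit_of_mul_isUnit_left (h1 ▸ hvu.map (algebraMap V' A))
    · have h1 : algebraMap V' A v * (a₀ * a₀') = 1 := hregA hrr (by
        rw [mul_one, ← mul_assoc, ← map_mul, ← hv]
        exact hA')
      exact isUnit_of_mul_isUnit_left (isUnit_of_mul_isUnit_right
        (show IsUnit (algebraMap V' A v * (a₀ * a₀')) from h1 ▸ isUnit_one))
  obtain ⟨⟨c₁, c₂⟩, hcs⟩ := IsLocalization.surj p.primeCompl (S := V') c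
  obtain ⟨⟨a₁, t₁⟩, hat⟩ := IsLocalization.surj q.primeCompl a₀
  change c * algebraMap V V' c₂ = algebraMap V V' c₁ at hcs
  change a₀ * algebraMap B A t₁ = algebraMap B A a₁ at hat
  have hc₂ : algebraMap V B c₂.1 ∉ q := c₂.2
  have ha₁ : a₁ ∉ q := by
    have h : IsUnit (algebraMap B A a₁) := hat ▸ hunit.mul (IsLocalization.map_units A t₁)
    exact ((IsLocalization.AtPrime.isUnit_to_map_iff A q a₁).1 h :)
  have heq : algebraMap B A (b * (algebraMap V B c₂ * t₁)) = algebraMap B A (algebraMap V B c₁ * a₁) := by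
    rw [map_mul, map_mul, map_mul, e, ← hat, ← IsScalarTower.algebraMap_apply V B A,
      ← IsScalarTower.algebraMap_apply V B A, IsScalarTower.algebraMap_apply V V' A c₁, ← hcs, map_mul,
      ← IsScalarTower.algebraMap_apply V V' A]
    ring
  obtain ⟨⟨s, hs⟩, hseq⟩ := (IsLocalization.eq_iff_exists q.primeCompl A).1 heq
  have hc₁ : c₁ ≠ 0 := fun h => by
    rw [h, map_zero] at hcs
    exact mul_ne_zero hc (fun h' => c₂.2 (by
      rw [(IsLocalization.injective V' p.primeCompl_le_nonZeroDivisors) (h'.trans (map_zero _).symm)]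
      exact zero_mem p)) hcs
  refine ⟨c₁, r, hc₁, nonZeroDivisors.ne_zero hr, s * a₁, s * (algebraMap V B c₂ * t₁),
    fun h => (Ideal.IsPrime.mem_or_mem inferInstance h).elim hs ha₁,
    fun h => (Ideal.IsPrime.mem_or_mem inferInstance h).elim hs
      fun h => (Ideal.IsPrime.mem_or_mem inferInstance h).elim hc₂ t₁.2, ?_⟩
  change s * (b * (algebraMap V B c₂ * t₁)) = s * (algebraMap V B c₁ * a₁) at hseq
  calc algebraMap B C (algebraMap V B r * (s * (algebraMap V B c₂ * t₁))) * w
      = (w * algebraMap B C (algebraMap V B r)) * algebraMap B C (s * (algebraMap V B c₂ * t₁)) := by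
        rw [map_mul]; ring
    _ = algebraMap B C (s * (b * (algebraMap V B c₂ * t₁))) := by rw [hb, ← map_mul]; congr 1; ring
    _ = algebraMap B C (algebraMap V B c₁ * (s * a₁)) := by rw [hseq]; congr 1; ring

/-- A unit on the generic fibre which is a unit at a point meeting every fibre in its generic point is a unit. -/
theorem exists_unit_of_generic (ξ : Ideal B) [ξ.IsPrime]
    (hfib : ∀ (q : Ideal B) [q.IsPrime],
      (((q.comap (algebraMap V B)).map (algebraMap V B)).map (algebraMap B (Localization.AtPrime q))).IsPrime)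
    (hgen : ∀ (q : Ideal B), q.IsPrime →
      ∃ η : Ideal B, η.IsPrime ∧ η ≤ q ∧ η ≤ ξ ∧ η.comap (algebraMap V B) = q.comap (algebraMap V B))
    {w : C} (hw : IsUnit w) {a t : B} (ha : a ∉ ξ) (ht : t ∉ ξ)
    (hat : algebraMap B C t * w = algebraMap B C a) :
    ∃ u : Bˣ, algebraMap B C u = w := by
  obtain ⟨⟨b, ⟨_, r, hr, rfl⟩⟩, hb⟩ := IsLocalization.surj (Algebra.algebraMapSubmonoid B V⁰) w
  change w * algebraMap B C (algebraMap V B r) = algebraMap B C b at hb
  have hinj : Function.Injective (algebraMap B C) := injective_algebraMap V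
  have key : ∀ (q : Ideal B) [q.IsPrime], ∃ n d : B, n ∉ q ∧ d ∉ q ∧ d * b = algebraMap V B r * n := by
    intro q _
    obtain ⟨c, r', hc, hr', a', t', ha', ht', he⟩ := exists_scalar_mul_unit q (hfib q) hw
    obtain ⟨η, hη, hηq, hηξ, hηc⟩ := hgen q inferInstance
    have e1 : algebraMap V B r' * t' * a = algebraMap V B c * a' * t := hinj (by
      rw [map_mul, ← hat, map_mul (algebraMap B C) (algebraMap V B c * a'), ← he]; ring)
    obtain ⟨v, hv, hvp⟩ : ∃ v, (c = r' * v ∨ r' = c * v) ∧ algebraMap V B v ∉ q := by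
      have hreg : ∀ {v : V}, v ≠ 0 → ∀ {x y : B}, algebraMap V B v * x = algebraMap V B v * y → x = y := by
        intro v hv x y h
        refine Module.Flat.isSMulRegular_of_nonZeroDivisors (M := B) (mem_nonZeroDivisors_of_ne_zero hv) ?_
        show v • x = v • y
        rwa [Algebra.smul_def, Algebra.smul_def]
      have hnη : ∀ {x y : B}, x ∉ q → y ∉ ξ → x * y ∉ η := fun hx hy h =>
        (hη.mem_or_mem h).elim (fun h => hx (hηq h)) (fun h => hy (hηξ h))
      have hmem : ∀ {v : V}, algebraMap V B v ∈ q → algebraMap V B v ∈ η := fun {v} h =>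
        (show v ∈ η.comap (algebraMap V B) from hηc.symm ▸ h)
      rcases ValuationRing.dvd_total c r' with ⟨v, hv⟩ | ⟨v, hv⟩
      · refine ⟨v, Or.inr hv, fun h => hnη ha' ht ?_⟩
        rw [hv, map_mul, mul_assoc, mul_assoc, mul_assoc] at e1
        rw [← hreg hc e1]
        exact η.mul_mem_right _ (hmem h)
      · refine ⟨v, Or.inl hv, fun h => hnη ht' ha ?_⟩
        rw [hv, map_mul, mul_assoc, mul_assoc, mul_assoc] at e1
        rw [hreg hr' e1]
        exact η.mul_mem_right _ (hmem h)
    have e2 : algebraMap V B r' * t' * b = algebraMap V B c * a' * algebraMap V B r := hinj (by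
      rw [map_mul (algebraMap B C) _ b, ← hb, map_mul (algebraMap B C) _ (algebraMap V B r), ← he]; ring)
    have hregB : ∀ {v : V}, v ≠ 0 → ∀ {x y : B}, algebraMap V B v * x = algebraMap V B v * y → x = y := by
      intro v hv x y h
      refine Module.Flat.isSMulRegular_of_nonZeroDivisors (M := B) (mem_nonZeroDivisors_of_ne_zero hv) ?_
      show v • x = v • y
      rwa [Algebra.smul_def, Algebra.smul_def]
    rcases hv with rfl | rfl
    · refine ⟨algebraMap V B v * a', t', fun h => (Ideal.IsPrime.mem_or_mem inferInstance h).elim hvp ha', ht',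
        hregB hr' ?_⟩
      rw [map_mul] at e2
      linear_combination e2
    · refine ⟨a', algebraMap V B v * t', ha', fun h => (Ideal.IsPrime.mem_or_mem inferInstance h).elim hvp ht',
        hregB hc ?_⟩
      rw [map_mul] at e2
      linear_combination e2
  obtain ⟨u, rfl⟩ : algebraMap V B r ∣ b := by
    rw [← Ideal.mem_span_singleton]
    by_contra hnot
    let I : Ideal B := Submodule.comap (LinearMap.mulRight B b) (Ideal.span {algebraMap V B r})
    have hI : I ≠ ⊤ := fun h => hnot (by
      have h1 : (1 : B) ∈ I := h ▸ Submodule.mem_top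
      simpa [I, Ideal.mem_comap] using h1)
    obtain ⟨M, hM, hle⟩ := Ideal.exists_le_maximal I hI
    haveI := hM.isPrime
    obtain ⟨n, d, -, hd, e⟩ := key M
    exact hd (hle ((Submodule.mem_comap (p := Ideal.span {algebraMap V B r}) (f := LinearMap.mulRight B b)).2
      (show d * b ∈ Ideal.span {algebraMap V B r} from e ▸ Ideal.mem_span_singleton'.2 ⟨n, mul_comm _ _⟩)))
  have hru : IsUnit (algebraMap B C (algebraMap V B r)) :=
    IsLocalization.map_units C (⟨_, r, hr, rfl⟩ : Algebra.algebraMapSubmonoid B V⁰)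
  have hwu : algebraMap B C u = w := hru.mul_right_cancel (by
    rw [hb, map_mul, mul_comm])
  have huu : IsUnit u := by
    by_contra hnu
    obtain ⟨M, hM, hle⟩ := Ideal.exists_le_maximal (Ideal.span {u})
      (fun h => hnu (Ideal.span_singleton_eq_top.1 h))
    haveI := hM.isPrime
    obtain ⟨n, d, hn, -, e⟩ := key M
    have hn' : n = d * u := by
      refine Module.Flat.isSMulRegular_of_nonZeroDivisors (M := B) hr ?_
      show r • n = r • (d * u)
      rw [Algebra.smul_def, Algebra.smul_def, ← e]
      ring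
    exact hn (hn' ▸ M.mul_mem_left _ (hle (Ideal.mem_span_singleton_self u)))
  exact ⟨huu.unit, hwu⟩

variable {N : Type u} [AddCommGroup N] [Module C N] [Module.Finite C N] [Module.Projective C N]

/-- An invertible module on the generic fibre is free near every point with regular special fibre. -/
theorem exists_genOn [Algebra V C] [IsScalarTower V B C] [IsNoetherianRing C] (q : Ideal B) [q.IsPrime]
    (hq : q.comap (algebraMap V B) = IsLocalRing.maximalIdeal V)
    (hreg : IsRegularRing (TensorProduct V (IsLocalRing.ResidueField V) (Localization.AtPrime q)))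
    (hN : Module.Invertible C N) :
    ∃ (t : B) (m : N), t ∉ q ∧ H11Tilde.GenOn (algebraMap B C t) m := by
  classical
  let A := Localization.AtPrime q
  haveI : IsLocalHom (algebraMap V A) := ⟨fun v hv => by
    rw [IsScalarTower.algebraMap_apply V B A, IsLocalization.AtPrime.isUnit_to_map_iff A q] at hv
    have hv' : v ∉ IsLocalRing.maximalIdeal V := fun h => hv (show v ∈ q.comap (algebraMap V B) by rw [hq]; exact h)
    simpa using hv'⟩
  haveI : Algebra.EssFiniteType B A := Algebra.EssFiniteType.of_isLocalization A q.primeCompl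
  haveI : Algebra.EssFiniteType V A := Algebra.EssFiniteType.comp V B A
  haveI : Module.Flat V A := Module.Flat.trans V B A
  have hreg' : IsRegularRing (A ⧸ (IsLocalRing.maximalIdeal V).map (algebraMap V A)) := by
    haveI := hreg
    exact IsRegularRing.of_ringEquiv ((Algebra.TensorProduct.comm V (IsLocalRing.ResidueField V) A).toRingEquiv.trans
      (Algebra.TensorProduct.quotIdealMapEquivTensorQuot A (IsLocalRing.maximalIdeal V)).symm.toRingEquiv)
  haveI := H02CA.PicValGeneric.subsingleton_pic_localization (R := V) hreg'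
  let AK := Localization (Algebra.algebraMapSubmonoid A V⁰)
  let S : Submonoid C := q.primeCompl.map (algebraMap B C)
  let CS := Localization S
  -- the two localisations agree
  have hBS : ∀ y : q.primeCompl, IsUnit (((algebraMap C CS).comp (algebraMap B C)) y) := fun y =>
    IsLocalization.map_units CS (⟨algebraMap B C y, _, y.2, rfl⟩ : S)
  let φA : A →+* CS := IsLocalization.lift hBS
  have hφA : ∀ x, φA (algebraMap B A x) = algebraMap C CS (algebraMap B C x) := IsLocalization.lift_eq hBS
  have hAM : ∀ y : Algebra.algebraMapSubmonoid A V⁰, IsUnit (φA y) := fun ⟨_, v, hv, rfl⟩ => by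
    change IsUnit (φA (algebraMap V A v))
    rw [IsScalarTower.algebraMap_apply V B A, hφA]
    exact (IsLocalization.map_units C (⟨_, v, hv, rfl⟩ : Algebra.algebraMapSubmonoid B V⁰)).map _
  let φ : AK →+* CS := IsLocalization.lift hAM
  have hφ : ∀ x, φ (algebraMap A AK x) = φA x := IsLocalization.lift_eq hAM
  have hBM : ∀ y : Algebra.algebraMapSubmonoid B V⁰, IsUnit (((algebraMap A AK).comp (algebraMap B A)) y) :=
    fun ⟨_, v, hv, rfl⟩ => by
      change IsUnit (algebraMap A AK (algebraMap B A (algebraMap V B v)))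
      rw [← IsScalarTower.algebraMap_apply V B A]
      exact IsLocalization.map_units AK (⟨_, v, hv, rfl⟩ : Algebra.algebraMapSubmonoid A V⁰)
  let ψC : C →+* AK := IsLocalization.lift hBM
  have hψC : ∀ x, ψC (algebraMap B C x) = algebraMap A AK (algebraMap B A x) := IsLocalization.lift_eq hBM
  have hCS : ∀ y : S, IsUnit (ψC y) := fun ⟨_, x, hx, rfl⟩ => by
    change IsUnit (ψC (algebraMap B C x))
    rw [hψC]
    exact (IsLocalization.map_units A (⟨x, hx⟩ : q.primeCompl)).map _
  let ψ : CS →+* AK := IsLocalization.lift hCS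
  have hψ : ∀ x, ψ (algebraMap C CS x) = ψC x := IsLocalization.lift_eq hCS
  have hψφ : ψ.comp φ = RingHom.id AK :=
    IsLocalization.ringHom_ext (Algebra.algebraMapSubmonoid A V⁰) <|
      IsLocalization.ringHom_ext q.primeCompl <| RingHom.ext fun x => by
        simp only [RingHom.comp_apply, RingHom.id_apply, hφ, hφA, hψ, hψC]
  have hφψ : φ.comp ψ = RingHom.id CS :=
    IsLocalization.ringHom_ext S <|
      IsLocalization.ringHom_ext (Algebra.algebraMapSubmonoid B V⁰) <| RingHom.ext fun x => by
        simp only [RingHom.comp_apply, RingHom.id_apply, hψ, hψC, hφ, hφA]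
  haveI : Subsingleton (CommRing.Pic CS) := ⟨fun x y => by
    have h := congrArg (CommRing.Pic.mapRingHom φ)
      (Subsingleton.elim (CommRing.Pic.mapRingHom ψ x) (CommRing.Pic.mapRingHom ψ y))
    rwa [CommRing.Pic.mapRingHom_mapRingHom, CommRing.Pic.mapRingHom_mapRingHom, hφψ,
      CommRing.Pic.mapRingHom_id_apply, CommRing.Pic.mapRingHom_id_apply] at h⟩
  haveI := hN
  let NS := LocalizedModule S N
  haveI : Module.Invertible CS NS :=
    Module.Invertible.congr (IsLocalizedModule.isBaseChange S CS (LocalizedModule.mkLinearMap S N)).equiv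
  haveI : Module.Free CS NS := CommRing.Pic.mk_eq_one_iff_free.1 (Subsingleton.elim _ _)
  obtain ⟨θ⟩ := Module.Invertible.free_iff_linearEquiv.1 (inferInstance : Module.Free CS NS)
  obtain ⟨⟨m, s⟩, hms⟩ := IsLocalizedModule.surj S (LocalizedModule.mkLinearMap S N) (θ.symm 1)
  change (s : C) • θ.symm 1 = LocalizedModule.mkLinearMap S N m at hms
  have hgen : ∀ z : NS, ∃ c : CS, z = c • LocalizedModule.mkLinearMap S N m := fun z => by
    obtain ⟨si, hsi⟩ := IsLocalization.map_units CS s
    refine ⟨θ z * (si⁻¹ : CSˣ).1, ?_⟩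
    rw [← hms, ← algebraMap_smul CS (s : C), ← hsi, smul_smul, mul_assoc, Units.inv_mul, mul_one]
    exact θ.injective (by rw [map_smul, LinearEquiv.apply_symm_apply, smul_eq_mul, mul_one])
  have hker : ∀ c : C, c • m = 0 → ∃ y : S, (y : C) * c = 0 := fun c hc => by
    have h1 : algebraMap C CS c • LocalizedModule.mkLinearMap S N m = 0 := by
      rw [algebraMap_smul, ← map_smul, hc, map_zero]
    rw [← hms, ← algebraMap_smul CS (s : C), smul_smul] at h1
    have h2 := congrArg θ h1
    rw [map_smul, LinearEquiv.apply_symm_apply, map_zero, smul_eq_mul, mul_one, ← map_mul] at h2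
    obtain ⟨y, hy⟩ := (IsLocalization.map_eq_zero_iff S CS _).1 h2
    exact ⟨y * s, by rw [Submonoid.coe_mul, ← hy]; ring⟩
  have hsurj : ∀ n : N, ∃ y : S, (y : C) • n ∈ Submodule.span C {m} := fun n => by
    obtain ⟨c, hc⟩ := hgen (LocalizedModule.mkLinearMap S N n)
    obtain ⟨⟨c₁, c₂⟩, e⟩ := IsLocalization.surj S c
    change c * algebraMap C CS c₂ = algebraMap C CS c₁ at e
    have h : LocalizedModule.mkLinearMap S N ((c₂ : C) • n) = LocalizedModule.mkLinearMap S N (c₁ • m) := by
      rw [map_smul, map_smul, hc, ← algebraMap_smul CS (c₂ : C), smul_smul, mul_comm, e, algebraMap_smul]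
    obtain ⟨y, hy⟩ := (IsLocalizedModule.eq_iff_exists S (LocalizedModule.mkLinearMap S N)).1 h
    refine ⟨y * c₂, Submodule.mem_span_singleton.2 ⟨(y : C) * c₁, ?_⟩⟩
    rw [Submonoid.coe_mul, mul_smul, mul_smul]
    exact hy.symm
  choose ys hys using hsurj
  obtain ⟨G, hG⟩ := (Module.Finite.fg_top (R := C) (M := N))
  obtain ⟨G', hG'⟩ := (IsNoetherian.noetherian (LinearMap.ker (LinearMap.toSpanSingleton C N m)))
  have hker' : ∀ c : C, ∃ y : S, c • m = 0 → (y : C) * c = 0 := fun c => by
    by_cases h : c • m = 0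
    · obtain ⟨y, hy⟩ := hker c h; exact ⟨y, fun _ => hy⟩
    · exact ⟨1, fun h' => absurd h' h⟩
  choose zs hzs using hker'
  let y : S := (∏ n ∈ G, ys n) * ∏ c ∈ G', zs c
  obtain ⟨t, ht, hty⟩ := y.2
  refine ⟨t, m, ht, fun n => ?_, fun c hc => ?_⟩
  · have h1 : n ∈ (Submodule.span C {m}).comap (LinearMap.lsmul C N (y : C)) := by
      have hle : Submodule.span C (G : Set N) ≤ (Submodule.span C {m}).comap (LinearMap.lsmul C N (y : C)) := by
        refine Submodule.span_le.2 fun g hg => ?_
        obtain ⟨k, hk⟩ : (ys g : C) ∣ (y : C) :=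
          (map_dvd S.subtype ((Finset.dvd_prod_of_mem ys hg).trans (dvd_mul_right _ _)) :)
        show (y : C) • g ∈ Submodule.span C {m}
        rw [hk, mul_comm, mul_smul]
        exact Submodule.smul_mem _ _ (hys g)
      exact hle (hG.symm ▸ Submodule.mem_top)
    obtain ⟨a, ha⟩ := Submodule.mem_span_singleton.1 h1
    exact ⟨1, a, by rw [pow_one, hty]; exact ha.symm⟩
  · refine ⟨1, ?_⟩
    rw [pow_one, hty]
    have hle : Submodule.span C (G' : Set C) ≤ LinearMap.ker (LinearMap.lsmul C C (y : C)) := by
      refine Submodule.span_le.2 fun g hg => ?_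
      have hgm : g • m = 0 := by
        have : g ∈ LinearMap.ker (LinearMap.toSpanSingleton C N m) := hG' ▸ Submodule.subset_span hg
        simpa using this
      obtain ⟨k, hk⟩ : (zs g : C) ∣ (y : C) :=
        (map_dvd S.subtype ((Finset.dvd_prod_of_mem zs hg).trans (dvd_mul_left _ _)) :)
      show (y : C) * g = 0
      rw [hk, mul_comm (zs g : C), mul_assoc, hzs g hgm, mul_zero]
    exact hle (hG'.symm ▸ (show c ∈ LinearMap.ker (LinearMap.toSpanSingleton C N m) by simpa using hc))

/-- A module freely generated by one element near every prime is invertible. -/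
theorem finite_projective_invertible_of_genOn {R : Type u} [CommRing R] {Q : Type u} [AddCommGroup Q] [Module R Q]
    (hcov : ∀ p : PrimeSpectrum R, ∃ (b : R) (m : Q), b ∉ p.asIdeal ∧ H11Tilde.GenOn b m) :
    Module.Finite R Q ∧ Module.Projective R Q ∧ Module.Invertible R Q := by
  classical
  choose b m hbp hm using hcov
  have hs : Ideal.span (Set.range b) = ⊤ := by
    by_contra hne
    obtain ⟨M, hM, hle⟩ := Ideal.exists_le_maximal _ hne
    exact hbp ⟨M, hM.isPrime⟩ (hle (Ideal.subset_span ⟨_, rfl⟩))
  haveI hfin : Module.Finite R Q := by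
    obtain ⟨t, ht⟩ := (Ideal.span_eq_top_iff_finite _).1 hs
    choose pr hpr using fun r : (t : Set R) => ht.1 r.2
    refine ⟨⟨Finset.univ.image (fun r : (t : Set R) => m (pr r)), ?_⟩⟩
    refine eq_top_iff.2 fun q _ => ?_
    let S := Submodule.span R ((Finset.univ.image fun r : (t : Set R) => m (pr r) : Finset Q) : Set Q)
    let I : Ideal R := S.comap (LinearMap.toSpanSingleton R Q q)
    have hI : I.radical = ⊤ := by
      refine eq_top_iff.2 (ht.2.symm.le.trans (Ideal.span_le.2 fun r hr => ?_))
      obtain ⟨j, a, ha⟩ := (hm (pr ⟨r, hr⟩)).1 q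
      rw [hpr] at ha
      refine ⟨j, ?_⟩
      show r ^ j • q ∈ S
      rw [ha]
      exact S.smul_mem _ (Submodule.subset_span (by simp))
    have h1 : (1 : R) ∈ I := (Ideal.radical_eq_top.1 hI).ge Submodule.mem_top
    have h2 : q ∈ S := by simpa [I] using h1
    exact h2
  haveI hproj : Module.Projective R Q :=
    H11Tilde.projective_of_genOn fun p => ⟨b p, m p, hbp p, hm p⟩
  refine ⟨hfin, hproj, ⟨?_⟩⟩
  obtain ⟨n, π, σ, -, -, hπσ⟩ := Module.Finite.exists_comp_eq_id_of_projective R Q
  have hswap : ∀ (f : Module.Dual R Q) (x y : Q), f x • y = f y • x := fun f x y => by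
    by_contra hne
    let I : Ideal R := LinearMap.ker (LinearMap.toSpanSingleton R Q (f x • y - f y • x))
    have hI : I ≠ ⊤ := fun h => hne (by
      have h1 : (1 : R) ∈ I := h ▸ Submodule.mem_top
      simpa [I, sub_eq_zero] using h1)
    obtain ⟨M, hM, hle⟩ := Ideal.exists_le_maximal I hI
    let p : PrimeSpectrum R := ⟨M, hM.isPrime⟩
    obtain ⟨j, a, ha⟩ := (hm p).1 x
    obtain ⟨k, c, hc⟩ := (hm p).1 y
    refine hbp p (hM.isPrime.mem_of_pow_mem (j + k) (hle ?_))
    show b p ^ (j + k) • (f x • y - f y • x) = 0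
    have hfx : b p ^ j * f x = a * f (m p) := by simpa using congrArg f ha
    have hfy : b p ^ k * f y = c * f (m p) := by simpa using congrArg f hc
    have e1 : b p ^ (j + k) • f x • y = (a * f (m p) * c) • m p := by
      rw [smul_smul, show b p ^ (j + k) * f x = b p ^ j * f x * b p ^ k by rw [pow_add]; ring, hfx, mul_smul, hc,
        smul_smul]
    have e2 : b p ^ (j + k) • f y • x = (a * f (m p) * c) • m p := by
      rw [smul_smul, show b p ^ (j + k) * f y = b p ^ k * f y * b p ^ j by rw [pow_add]; ring, hfy, mul_smul, ha,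
        smul_smul]
      ring_nf
    rw [smul_sub, e1, e2, sub_self]
  let κ := contractLeft R Q
  have key : ∀ z ζ : TensorProduct R (Module.Dual R Q) Q, κ ζ • z = κ z • ζ := fun z ζ => by
    induction z with
    | zero => simp
    | add z z' h h' => rw [map_add, smul_add, add_smul, h, h']
    | tmul f x =>
      induction ζ with
      | zero => simp
      | add w w' h h' => rw [map_add, smul_add, add_smul, h, h']
      | tmul g y =>
        simp only [κ, contractLeft_apply]
        rw [← TensorProduct.tmul_smul, ← hswap g x y, ← TensorProduct.smul_tmul, TensorProduct.smul_tmul']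
        congr 1
        refine LinearMap.ext fun v => ?_
        show g x • f v = f x • g v
        have h := congrArg f (hswap g x v)
        rw [map_smul, map_smul] at h
        rw [h, smul_eq_mul, smul_eq_mul, mul_comm]
  have hsurj : Function.Surjective κ := by
    intro r
    suffices h : LinearMap.range κ = ⊤ from LinearMap.range_eq_top.1 h r
    by_contra hne
    obtain ⟨M, hM, hle⟩ := Ideal.exists_le_maximal _ hne
    let p : PrimeSpectrum R := ⟨M, hM.isPrime⟩
    choose jf af haf using fun i => (hm p).1 (π (Pi.single i 1))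
    let J := ∑ i, jf i
    let φ : Module.Dual R Q :=
      ∑ i, (b p ^ (J - jf i) * af i) • (LinearMap.proj i).comp σ
    have hφ : φ (m p) • m p = b p ^ J • m p := by
      have hx : ∑ i, σ (m p) i • π (Pi.single i 1) = m p := by
        refine Eq.trans ?_ (LinearMap.congr_fun hπσ (m p))
        simp_rw [← map_smul, ← map_sum, LinearMap.comp_apply]
        congr 1
        funext j
        simp [Finset.sum_apply, Pi.single_apply]
      conv_rhs => arg 2; rw [← hx]
      rw [Finset.smul_sum]
      simp only [φ, LinearMap.coe_sum, Finset.sum_apply, Finset.sum_smul]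
      refine Finset.sum_congr rfl fun i _ => ?_
      show ((b p ^ (J - jf i) * af i) * σ (m p) i) • m p = _
      rw [smul_smul (b p ^ J), show b p ^ J * σ (m p) i = σ (m p) i * b p ^ (J - jf i) * b p ^ jf i by
        rw [mul_assoc, ← pow_add, Nat.sub_add_cancel (Finset.single_le_sum (fun _ _ => Nat.zero_le _) (Finset.mem_univ i))]
        ring, mul_smul (σ (m p) i * b p ^ (J - jf i)), haf]
      simp only [smul_smul]
      congr 1
      ring
    obtain ⟨k, hk⟩ := (hm p).2 (φ (m p) - b p ^ J) (by rw [sub_smul, hφ, sub_self])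
    refine hbp p (hM.isPrime.mem_of_pow_mem (k + J) ?_)
    rw [mul_sub, sub_eq_zero, ← pow_add] at hk
    rw [← hk]
    exact M.mul_mem_left _ (hle ⟨φ ⊗ₜ m p, contractLeft_apply _ _⟩)
  refine ⟨fun z₁ z₂ h12 => ?_, hsurj⟩
  obtain ⟨ζ, hζ⟩ := hsurj 1
  change κ z₁ = κ z₂ at h12
  rw [← one_smul R z₁, ← one_smul R z₂, ← hζ, key z₁ ζ, key z₂ ζ, h12]

end Groth.Agent.H12Pic.PicCurve.ValUnits
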