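import Groth.Agent.S0042
import Groth.Agent.S2074
import Groth.Agent.H17.FPExt.Colimit
import Groth.Agent.H17.ConsModModels
import Groth.Agent.H17.Dim
import Groth.Agent.H10Coh.HigherDirect2
import Groth.Agent.H10Coh.BaseChange
import Groth.Agent.H10Coh.AffinePush
import Groth.Agent.H16Derived.ColimPush.Sheaf
import Groth.Agent.H7Lim.FPDescent.Noetherian
import Groth.Agent.H7Lim.FPDescent.Exists

/-!
# Vanishing of cohomology above the dimension of the closed fibre over a local ring

`X → Spec R` proper of finite presentation, `R` local (not necessarily Noetherian), closed fibre of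
dimension at most `d`: `H^p(X, M) = 0` for quasi-coherent `M` and `p > d`.
-/

set_option autoImplicit false
set_option linter.style.haveILetI false
set_option backward.isDefEq.respectTransparency.types false

noncomputable section

universe u

open CategoryTheory CategoryTheory.Limits AlgebraicGeometry Opposite TopologicalSpace

namespace Groth.Agent.H12Pic.PicCurve.VanishLocal

open Groth.Agent.H10Coh

attribute [local instance 10000] hasSheafifyAb hasWeakSheafifyAb hasExtAb enoughInjAb
attribute [local instance] enoughInjMod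

/-- A sheaf on the spectrum of a local ring with zero stalk at the closed point has no global sections. -/
theorem subsingleton_top_of_stalk {O : CommRingCat.{u}} [IsLocalRing O]
    (F : CohTop.Ab (Spec O).toTopCat)
    (h : IsZero (TopCat.Presheaf.stalk F.obj (IsLocalRing.closedPoint O : Spec O))) :
    Subsingleton (F.obj.obj (op (⊤ : (Spec O).Opens))) := by
  haveI := AddCommGrpCat.subsingleton_of_isZero h
  refine subsingleton_of_forall_eq 0 fun s => ?_
  obtain ⟨W, hxW, i, j, he⟩ := TopCat.Presheaf.germ_eq F.obj (IsLocalRing.closedPoint O : Spec O)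
    (U := (⊤ : (Spec O).Opens)) (V := (⊤ : (Spec O).Opens)) trivial trivial s 0 (Subsingleton.elim _ _)
  have hW : W = ⊤ := top_le_iff.1 fun x _ => (IsLocalRing.specializes_closedPoint x).mem_open W.2 hxW
  subst hW
  rwa [show i = 𝟙 _ from Subsingleton.elim _ _, show j = 𝟙 _ from Subsingleton.elim _ _, op_id,
    F.obj.map_id] at he

/-- coherent case over a Noetherian local ring -/
theorem subsingleton_HH_of_coh {O : CommRingCat.{u}} [IsLocalRing O] [IsNoetherianRing O]
    {X : Scheme.{u}} (π : X ⟶ Spec O) [IsProper π] (d : ℕ)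
    (hd : topologicalKrullDim ↥(π.fiber (IsLocalRing.closedPoint O : Spec O)) ≤ d)
    (M : X.Modules) (hM : Coh.IsCoh M) (p : ℕ) (hp : d < p) : Subsingleton (Coh.HH X M p) := by
  haveI : M.IsQuasicoherent := hM.1
  haveI : IsLocallyNoetherian (Spec O) := inferInstance
  have h0 := Groth.Agent.S0042.result π _ d hd M hM p hp
  obtain ⟨e⟩ := nonempty_sections_rpushAb π M (W := (⊤ : (Spec O).Opens)) (isAffineOpen_top _) p
  haveI := subsingleton_top_of_stalk _ h0
  have h1 : Subsingleton (HnM M p (π ⁻¹ᵁ ⊤)) := e.toEquiv.subsingleton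
  exact @Equiv.subsingleton _ _ (topEquiv (Coh.toAb M) p).toEquiv h1

/-- quasi-coherent case over a Noetherian local ring -/
theorem subsingleton_HH_of_qcoh {O : CommRingCat.{u}} [IsLocalRing O] [IsNoetherianRing O]
    {X : Scheme.{u}} (π : X ⟶ Spec O) [IsProper π] (d : ℕ)
    (hd : topologicalKrullDim ↥(π.fiber (IsLocalRing.closedPoint O : Spec O)) ≤ d)
    (M : X.Modules) (hM : Coh.IsQCoh M) (p : ℕ) (hp : d < p) : Subsingleton (Coh.HH X M p) := by
  haveI : IsLocallyNoetherian X := LocallyOfFiniteType.isLocallyNoetherian π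
  haveI : CompactSpace X := QuasiCompact.compactSpace_of_compactSpace π
  haveI : QuasiSeparatedSpace X := quasiSeparatedSpace_of_quasiSeparated π
  obtain ⟨I, _, _, D, c, hc, hD, rfl⟩ := H17.FPExt.exists_isColimit_fp M hM
  haveI : PrespectralSpace X.toTopCat := inferInstanceAs (PrespectralSpace X)
  haveI : QuasiSeparatedSpace X.toTopCat := inferInstanceAs (QuasiSeparatedSpace X)
  haveI : CompactSpace X.toTopCat := inferInstanceAs (CompactSpace X)
  refine subsingleton_of_forall_eq 0 fun x => (topEquiv _ p).injective ?_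
  obtain ⟨i, y, hy⟩ := (H15Site.QcColim.commutes p _ _
    (H16Derived.ColimPush.nonempty_isColimit_sh hc).some ⊤ isCompact_univ).1 (topEquiv _ p x)
  haveI : Subsingleton (Coh.HH X (D.obj i) p) :=
    subsingleton_HH_of_coh π d hd _ (H17.ConsProp.isCoh_of_isFP (hD i)) p hp
  haveI : Subsingleton (Hn (Coh.toAb (D.obj i)) p (⊤ : Opens X.toTopCat)) :=
    (topEquiv (Coh.toAb (D.obj i)) p).symm.toEquiv.subsingleton
  refine hy.symm.trans (Eq.trans ?_ (map_zero _).symm)
  refine (congrArg _ (Subsingleton.elim (α := Hn (Coh.toAb (D.obj i)) p (⊤ : Opens X.toTopCat)) y 0)).trans ?_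
  exact H15Site.QcColim.push_zero _

/-- A base change of a flat surjective morphism does not lower the dimension. -/
theorem krullDim_le_of_isPullback {A B A' B' : Scheme.{u}} {q : A' ⟶ A} {a' : A' ⟶ B'} {a : A ⟶ B}
    {b : B' ⟶ B} (h : IsPullback q a' a b) [Flat b] [Surjective b] :
    topologicalKrullDim A ≤ topologicalKrullDim A' := by
  haveI : Flat q := MorphismProperty.of_isPullback h.flip inferInstance
  haveI : Surjective q := MorphismProperty.of_isPullback h.flip inferInstance
  exact H17.topologicalKrullDim_le_of_generalizingMap _ (Flat.generalizingMap q) q.surjective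

/-- The dimension of a fibre does not grow when going down along a base change. -/
theorem krullDim_fiber_le_of_isPullback {X Y X' Y' : Scheme.{u}} {qX : X' ⟶ X} {f' : X' ⟶ Y'}
    {f : X ⟶ Y} {j : Y' ⟶ Y} (h : IsPullback qX f' f j) (s : Y') :
    topologicalKrullDim ↥(f.fiber (j s)) ≤ topologicalKrullDim ↥(f'.fiber s) := by
  have hc := isPullback_fiberToSpecResidueField_of_isPullback h s
  haveI : Flat (Spec.map (j.residueFieldMap s)) := by
    rw [HasRingHomProperty.Spec_iff (P := @Flat)]
    letI := (j.residueFieldMap s).hom.toAlgebra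
    show Module.Flat (Y.residueField (j s)) (Y'.residueField s)
    infer_instance
  haveI : Surjective (Spec.map (j.residueFieldMap s)) :=
    ⟨fun x => ⟨IsLocalRing.closedPoint (Y'.residueField s), Subsingleton.elim _ _⟩⟩
  exact krullDim_le_of_isPullback hc

/-- `H^p` of quasi-coherent modules vanishes above the dimension of the closed fibre. -/
theorem subsingleton_HH {R : CommRingCat.{u}} [IsLocalRing R] {X : Scheme.{u}} (f : X ⟶ Spec R)
    [IsProper f] [LocallyOfFinitePresentation f] (d : ℕ)
    (hd : topologicalKrullDim ↥(f.fiber (IsLocalRing.closedPoint R : Spec R)) ≤ d)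
    (M : X.Modules) (hM : Coh.IsQCoh M) (p : ℕ) (hp : d < p) : Subsingleton (Coh.HH X M p) := by
  let c : Cone ((H7Lim.FPDescent.subringFunctor R).op ⋙ Scheme.Spec) :=
    Scheme.Spec.mapCone (H7Lim.FPDescent.subringCocone R).op
  let hc : IsLimit c := isLimitOfPreserves Scheme.Spec (H7Lim.FPDescent.subringIsColimit R).op
  haveI : ∀ (i j : (Finset R)ᵒᵖ) (φ : i ⟶ j),
      IsAffineHom (((H7Lim.FPDescent.subringFunctor R).op ⋙ Scheme.Spec).map φ) := fun i j φ =>
    inferInstanceAs (IsAffineHom (Spec.map _))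
  haveI : ∀ i, CompactSpace (((H7Lim.FPDescent.subringFunctor R).op ⋙ Scheme.Spec).obj i) := fun i =>
    inferInstanceAs (CompactSpace ↥(Spec _))
  haveI : ∀ i, QuasiSeparatedSpace (((H7Lim.FPDescent.subringFunctor R).op ⋙ Scheme.Spec).obj i) := fun i =>
    inferInstanceAs (QuasiSeparatedSpace ↥(Spec _))
  haveI : Nonempty (Finset R) := ⟨∅⟩
  let f' : X ⟶ c.pt := f
  haveI : IsProper f' := ‹IsProper f›
  haveI : LocallyOfFinitePresentation f' := ‹LocallyOfFinitePresentation f›
  obtain ⟨i₀, ⟨N⟩⟩ := H7Lim.FPDescent.exists_model hc (X := X) f'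
  haveI := N.compactSpace
  haveI := N.quasiSeparatedSpace
  haveI := N.lfp
  obtain ⟨i, φ, Xi, Yi, fi, gi, pY, pX, hpY, hpX, hfi⟩ :=
    Groth.Agent.S2074.result _ c hc i₀ N.p (𝟙 _) f' (𝟙 _) (c.π.app i₀) N.g
      (IsPullback.of_vert_isIso ⟨by simp⟩) N.hpb
  haveI := hfi
  have hgi : IsIso gi :=
    MorphismProperty.of_isPullback (P := MorphismProperty.isomorphisms _) hpY
      (show IsIso (𝟙 _) from inferInstance)
  haveI := hgi
  let j : c.pt ⟶ Yi := c.π.app i ≫ inv gi
  have hj : j ≫ pY = c.π.app i₀ := by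
    have h : inv gi ≫ pY = ((H7Lim.FPDescent.subringFunctor R).op ⋙ Scheme.Spec).map φ := by
      rw [IsIso.inv_comp_eq]
      have := hpY.w
      rwa [Category.comp_id] at this
    show (c.π.app i ≫ inv gi) ≫ pY = _
    rw [Category.assoc, h, c.w]
  let qX : X ⟶ Xi := hpX.lift N.g (f' ≫ j) (by rw [Category.assoc, hj]; exact N.hpb.w)
  have hX : IsPullback qX f' fi j := by
    refine IsPullback.of_right ?_ (hpX.lift_snd _ _ _) hpX
    rw [hpX.lift_fst, hj]
    exact N.hpb
  haveI : IsAffineHom j := by
    haveI : IsAffineHom (c.π.app i) := inferInstanceAs (IsAffineHom (Spec.map _))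
    show IsAffineHom (c.π.app i ≫ inv gi)
    infer_instance
  haveI : IsLocallyNoetherian (((H7Lim.FPDescent.subringFunctor R).op ⋙ Scheme.Spec).obj i) := by
    show IsLocallyNoetherian (Spec ((H7Lim.FPDescent.subringFunctor R).obj i.unop))
    haveI : Algebra.FiniteType ℤ (Algebra.adjoin ℤ ((i.unop : Finset R) : Set R)) :=
      (Algebra.adjoin ℤ ((i.unop : Finset R) : Set R)).fg_iff_finiteType.1 ⟨i.unop, rfl⟩
    haveI : IsNoetherianRing (H7Lim.FPDescent.subringFunctor R |>.obj i.unop) :=
      Algebra.FiniteType.isNoetherianRing ℤ (Algebra.adjoin ℤ ((i.unop : Finset R) : Set R))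
    infer_instance
  haveI : IsLocallyNoetherian Yi := LocallyOfFiniteType.isLocallyNoetherian gi
  let j' : Spec R ⟶ Yi := j
  let y : Yi := j' (IsLocalRing.closedPoint R : Spec R)
  let O := Yi.presheaf.stalk y
  let ψ : Spec R ⟶ Spec O := Spec.map (Scheme.stalkClosedPointTo j')
  have hψ : ψ ≫ Yi.fromSpecStalk y = j' := Scheme.Spec_stalkClosedPointTo_fromSpecStalk _
  let π := pullback.snd fi (Yi.fromSpecStalk y)
  haveI : IsProper π := MorphismProperty.pullback_snd _ _ inferInstance
  let g : X ⟶ pullback fi (Yi.fromSpecStalk y) :=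
    pullback.lift qX (f ≫ ψ) (by rw [Category.assoc, hψ]; exact hX.w)
  have hg : IsPullback g f π ψ := by
    refine IsPullback.of_right ?_ (pullback.lift_snd _ _ _) (IsPullback.of_hasPullback _ _)
    rw [pullback.lift_fst, hψ]
    exact hX
  haveI : IsAffineHom g := MorphismProperty.of_isPullback hg.flip (inferInstanceAs (IsAffineHom (Spec.map _)))
  haveI : M.IsQuasicoherent := hM
  have hψc : ψ (IsLocalRing.closedPoint R : Spec R) = (IsLocalRing.closedPoint O : Spec O) :=
    IsLocalRing.comap_closedPoint (Scheme.stalkClosedPointTo j').hom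
  have hd' : topologicalKrullDim ↥(π.fiber (IsLocalRing.closedPoint O : Spec O)) ≤ d := by
    rw [← hψc]
    exact (krullDim_fiber_le_of_isPullback hg _).trans hd
  haveI : Subsingleton (Coh.HH (pullback fi (Yi.fromSpecStalk y)) ((Coh.push g).obj M) p) :=
    subsingleton_HH_of_qcoh π d hd' _ (isQuasicoherent_pushforward_of_isAffineHom g M) p hp
  have h1 : Subsingleton (HnM ((Coh.push g).obj M) p ⊤) :=
    @Equiv.subsingleton _ _ (topEquiv (Coh.toAb ((Coh.push g).obj M)) p).symm.toEquiv inferInstance
  have h2 : Subsingleton (HnM M p (g ⁻¹ᵁ ⊤)) :=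
    @Equiv.subsingleton _ _ (affineLerayEquiv g M p ⊤).symm.toEquiv h1
  exact @Equiv.subsingleton _ _ (topEquiv (Coh.toAb M) p).toEquiv h2

end Groth.Agent.H12Pic.PicCurve.VanishLocal
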