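import Groth.Agent.H10Coh.SheafH
import Groth.Agent.H15Site.CechFlasque

/-!
# One-cocycles and vanishing of `H¹`, lifting of one-cocycles and vanishing of `H²`

For abelian sheaves on a topological space: if `H¹(X, F) = 0` every cocycle on an open cover is a
coboundary; if `0 → K → E → G → 0` is exact and `H²(X, K) = 0`, every cocycle with values in `G`
lifts to a cocycle with values in `E` on a refinement.
-/

universe u

open CategoryTheory CategoryTheory.Limits Opposite TopologicalSpace Abelian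

namespace Groth.Agent.H12Pic.PicCurve.CechTwo

open Groth.Agent.H10Coh Groth.Agent.H15Site

attribute [local instance 10000] hasSheafifyAb hasWeakSheafifyAb hasExtAb enoughInjAb

variable {X : TopCat.{u}}

/-- restriction of sections -/
noncomputable abbrev rs (F : CohTop.Ab X) {V W : Opens X} (h : W ≤ V) :
    F.obj.obj (op V) →+ F.obj.obj (op W) := CechTop.res F.obj h

/-- One-cocycles on a family of opens. -/
def IsCocycle {ι : Type u} (F : CohTop.Ab X) (U : ι → Opens X)
    (v : ∀ i j, F.obj.obj (op (U i ⊓ U j))) : Prop :=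
  ∀ i j k (T : Opens X) (hi : T ≤ U i) (hj : T ≤ U j) (hk : T ≤ U k),
    rs F (le_inf hi hj) (v i j) + rs F (le_inf hj hk) (v j k) = rs F (le_inf hi hk) (v i k)

/-- Sections are left exact. -/
theorem exists_app_eq {S : ShortComplex (CohTop.Ab X)} (hS : S.ShortExact) (U : Opens X)
    (z : S.X₂.obj.obj (op U)) (hz : S.g.hom.app (op U) z = 0) :
    ∃ y, S.f.hom.app (op U) y = z := by
  haveI := hS.mono_f
  have h0 : (sect U S.X₂).symm z ≫ S.g = 0 := by
    apply (sect U S.X₃).injective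
    rw [sect_comp, AddEquiv.apply_symm_apply, map_zero]
    exact hz
  refine ⟨sect U S.X₁ (hS.exact.lift ((sect U S.X₂).symm z) h0), ?_⟩
  rw [← sect_comp, hS.exact.lift_f, AddEquiv.apply_symm_apply]

theorem app_injective {S : ShortComplex (CohTop.Ab X)} (hS : S.ShortExact) (U : Opens X) :
    Function.Injective (S.f.hom.app (op U)) := by
  haveI := hS.mono_f
  intro a b h
  have key : (sect U S.X₁).symm a ≫ S.f = (sect U S.X₁).symm b ≫ S.f := by
    apply (sect U S.X₂).injective
    rw [sect_comp, sect_comp, AddEquiv.apply_symm_apply, AddEquiv.apply_symm_apply]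
    exact h
  exact (sect U S.X₁).symm.injective ((cancel_mono S.f).1 key)

theorem app_rs {F G : CohTop.Ab X} (f : F ⟶ G) {V W : Opens X} (h : W ≤ V) (x : F.obj.obj (op V)) :
    rs G h (f.hom.app (op V) x) = f.hom.app (op W) (rs F h x) :=
  CechTop.res_map F.obj f.hom h x

/-- A cocycle with values in a flasque sheaf is a coboundary. -/
theorem exists_coboundary_flasque {ι : Type u} {F : CohTop.Ab X} (hF : Flasque F) (U : ι → Opens X)
    (v : ∀ i j, F.obj.obj (op (U i ⊓ U j))) (hv : IsCocycle F U v) :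
    ∃ y : ∀ i, F.obj.obj (op (U i)), ∀ i j,
      rs F inf_le_right (y j) - rs F inf_le_left (y i) = v i j := by
  obtain ⟨x, hx⟩ := CechTop.exists_proj_eq U F.obj (n := 1) fun a =>
    rs F (le_inf (iInf_le _ 0) (iInf_le _ 1)) (v (a 0) (a 1))
  have hd : (CechTop.d U F.obj 1).hom x = 0 := by
    refine CechTop.hom_ext U F.obj fun c => ?_
    rw [CechTop.proj_d, map_zero, Fin.sum_univ_three, hx, hx, hx]
    simp only [CechTop.res_res, Fin.val_zero, Fin.val_one, Fin.val_two, pow_zero, pow_one, one_smul,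
      neg_smul, neg_one_sq]
    have h := hv (c 0) (c 1) (c 2) (CechTop.cap U c) (iInf_le _ 0) (iInf_le _ 1) (iInf_le _ 2)
    change rs F _ (v (c 1) (c 2)) + -(rs F _ (v (c 0) (c 2))) + rs F _ (v (c 0) (c 1)) = 0
    rw [← h]
    abel
  obtain ⟨y, hy⟩ := CechTop.exists_of_isZero_cechH_succ U F.obj (CechFlasque.isZero_cechH U F (fun n b J => hF _) 0) x hd
  have hcap : ∀ i, U i ≤ CechTop.cap U (fun _ : Fin 1 => i) := fun i => le_iInf fun _ => le_rfl
  refine ⟨fun i => rs F (hcap i) ((CechTop.proj U F.obj (fun _ : Fin 1 => i)).hom y), fun i j => ?_⟩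
  have hcap2 : U i ⊓ U j ≤ CechTop.cap U (![i, j] : Fin 2 → ι) := le_iInf fun k => by
    fin_cases k
    · exact inf_le_left
    · exact inf_le_right
  have h := congrArg (fun z => rs F hcap2 ((CechTop.proj U F.obj ![i, j]).hom z)) hy
  simp only [hx, CechTop.proj_d] at h
  erw [Fin.sum_univ_two] at h
  simp only [map_add, map_neg, CechTop.res_res, Fin.val_zero,
    Fin.val_one, pow_zero, pow_one, one_smul, neg_smul] at h
  refine Eq.trans ?_ (h.trans (CechTop.res_self F.obj le_rfl (v i j)))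
  simp only [CechTop.res_res]
  rw [sub_eq_add_neg]
  refine congrArg₂ (fun p q => p + -q)
    (CechTop.res_proj_congr U F.obj (a := fun _ => j) (a' := ![i, j] ∘ (0 : Fin 2).succAbove)
      (funext fun k => by fin_cases k; rfl) y _ _)
    (CechTop.res_proj_congr U F.obj (a := fun _ => i) (a' := ![i, j] ∘ (1 : Fin 2).succAbove)
      (funext fun k => by fin_cases k; rfl) y _ _)

/-- If `H¹(X, F) = 0`, every section of the cokernel of a flasque embedding lifts. -/
theorem exists_lift_top {S : ShortComplex (CohTop.Ab X)} (hS : S.ShortExact)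
    (h : Subsingleton (Hn S.X₁ 1 ⊤)) (s : S.X₃.obj.obj (op ⊤)) :
    ∃ t, S.g.hom.app (op ⊤) t = s := by
  obtain ⟨j, hj⟩ := Ext.covariant_sequence_exact₃ _ hS (Ext.mk₀ ((sect ⊤ S.X₃).symm s)) rfl
    (h.elim _ _)
  obtain ⟨φ, rfl⟩ := (Ext.mk₀_bijective _ _).2 j
  rw [Ext.mk₀_comp_mk₀] at hj
  refine ⟨sect ⊤ S.X₂ φ, ?_⟩
  rw [← sect_comp, (Ext.mk₀_bijective _ _).1 hj, AddEquiv.apply_symm_apply]

/-- If `H¹(X, F) = 0`, every cocycle is a coboundary. -/
theorem exists_coboundary {ι : Type u} (F : CohTop.Ab X) (h : Subsingleton (Hn F 1 ⊤))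
    (U : ι → Opens X) (hU : ∀ x, ∃ i, x ∈ U i)
    (v : ∀ i j, F.obj.obj (op (U i ⊓ U j))) (hv : IsCocycle F U v) :
    ∃ y : ∀ i, F.obj.obj (op (U i)), ∀ i j,
      rs F inf_le_right (y j) - rs F inf_le_left (y i) = v i j := by
  let S := injSeq F
  have hS : S.ShortExact := injSeq_shortExact F
  have hv' : IsCocycle S.X₂ U (fun i j => S.f.hom.app (op (U i ⊓ U j)) (v i j)) :=
    fun i j k T hi hj hk => by
      simp only [app_rs, ← map_add]
      exact congrArg _ (hv i j k T hi hj hk)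
  obtain ⟨a, ha⟩ := exists_coboundary_flasque (flasque_of_injective S.X₂) U _ hv'
  obtain ⟨s, hs, -⟩ := TopCat.Sheaf.existsUnique_gluing'
    (S.X₃ : TopCat.Sheaf AddCommGrpCat.{u} X) U ⊤ (fun i => homOfLE le_top)
    (fun x _ => Opens.mem_iSup.2 (hU x)) (fun i => S.g.hom.app (op (U i)) (a i)) (fun i j => by
      change rs S.X₃ inf_le_left (S.g.hom.app _ (a i)) = rs S.X₃ inf_le_right (S.g.hom.app _ (a j))
      rw [eq_comm, ← sub_eq_zero, app_rs, app_rs, ← map_sub, ha]
      exact ConcreteCategory.congr_hom (congrArg (fun φ => φ.hom.app (op (U i ⊓ U j))) S.zero) (v i j))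
  obtain ⟨t, ht⟩ := exists_lift_top hS h s
  have hmem : ∀ i, S.g.hom.app (op (U i)) (a i - rs S.X₂ le_top t) = 0 := fun i => by
    rw [map_sub, ← app_rs, ht, sub_eq_zero]
    exact (hs i).symm
  choose y hy using fun i => exists_app_eq hS (U i) _ (hmem i)
  refine ⟨y, fun i j => app_injective hS _ ?_⟩
  rw [map_sub, ← app_rs, ← app_rs, hy, hy, map_sub, map_sub, CechTop.res_res, CechTop.res_res,
    sub_sub_sub_cancel_right]
  exact ha i j

/-- If `H²(X, K) = 0`, cocycles with values in the quotient lift to a refinement. -/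
theorem exists_lift_cocycle {ι : Type u} {S : ShortComplex (CohTop.Ab X)} (hS : S.ShortExact)
    (h : Subsingleton (Hn S.X₁ 2 ⊤)) (U : ι → Opens X) (hU : ∀ x, ∃ i, x ∈ U i)
    (v : ∀ i j, S.X₃.obj.obj (op (U i ⊓ U j))) (hv : IsCocycle S.X₃ U v) :
    ∃ (κ : Type u) (W : κ → Opens X) (r : κ → ι) (hW : ∀ k, W k ≤ U (r k))
      (w : ∀ k l, S.X₂.obj.obj (op (W k ⊓ W l))),
      (∀ x, ∃ k, x ∈ W k) ∧ IsCocycle S.X₂ W w ∧
        ∀ k l, S.g.hom.app (op (W k ⊓ W l)) (w k l) =
          rs S.X₃ (inf_le_inf (hW k) (hW l)) (v (r k) (r l)) := by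
  let SE := injSeq S.X₂
  have hSE : SE.ShortExact := injSeq_shortExact S.X₂
  haveI := hS.mono_f
  haveI := hS.epi_g
  haveI : Mono SE.f := hSE.mono_f
  let fK : S.X₁ ⟶ SE.X₂ := S.f ≫ SE.f
  let SM : ShortComplex (CohTop.Ab X) := ShortComplex.mk fK (cokernel.π fK) (cokernel.condition _)
  have hSM : SM.ShortExact :=
    { exact := ShortComplex.exact_of_g_is_cokernel _ (cokernelIsCokernel _)
      mono_f := show Mono (S.f ≫ SE.f) from mono_comp _ _
      epi_g := show Epi (cokernel.π fK) from inferInstance }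
  haveI : Injective SM.X₂ := injSeq_injective S.X₂
  haveI : Subsingleton (Ext.{u} (Zsh (⊤ : Opens X)) SM.X₂ 1) :=
    subsingleton_of_forall_eq 0 fun x => Ext.eq_zero_of_injective x
  have hM : Subsingleton (Hn SM.X₃ 1 ⊤) :=
    subsingleton_of_forall_eq 0 fun q => comp_extClass_injective hSM (h.elim _ _)
  let q : SM.X₃ ⟶ SE.X₃ := cokernel.desc fK SE.g (by
    simp [fK, Category.assoc, SE.zero])
  let m : S.X₃ ⟶ SM.X₃ := hS.exact.desc (SE.f ≫ SM.g) (by
    rw [← Category.assoc]; exact cokernel.condition fK)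
  have hm : S.g ≫ m = SE.f ≫ SM.g := hS.exact.g_desc _ _
  have hmq : m ≫ q = 0 := by
    rw [← cancel_epi S.g, ← Category.assoc, hm, Category.assoc, comp_zero]
    change SE.f ≫ cokernel.π fK ≫ cokernel.desc fK SE.g _ = 0
    rw [cokernel.π_desc]
    exact SE.zero
  have hv' : IsCocycle SM.X₃ U (fun i j => m.hom.app (op (U i ⊓ U j)) (v i j)) :=
    fun i j k T hi hj hk => by
      simp only [app_rs, ← map_add]
      exact congrArg _ (hv i j k T hi hj hk)
  obtain ⟨a, ha⟩ := exists_coboundary SM.X₃ hM U hU _ hv'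
  -- local lifts
  let κ : Type u := Σ i : ι, {x : X // x ∈ U i}
  have hloc : ∀ k : κ, ∃ (V : Opens X) (hV : V ≤ U k.1), k.2.1 ∈ V ∧
      ∃ b, SM.g.hom.app (op V) b = rs SM.X₃ hV (a k.1) := fun k => by
    have := (TopCat.Sheaf.isLocallySurjective_iff_epi SM.g).mpr hSM.epi_g
    obtain ⟨V, hV, ⟨b, hb⟩, hxV⟩ :=
      (TopCat.Presheaf.isLocallySurjective_iff SM.g.hom).mp this (U k.1) (a k.1) k.2.1 k.2.2
    exact ⟨V, hV, hxV, b, hb⟩
  choose W hW hxW b hb using hloc
  have hker : ∀ k l, SE.g.hom.app (op (W k ⊓ W l))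
      (rs SE.X₂ inf_le_right (b l) - rs SE.X₂ inf_le_left (b k)) = 0 := fun k l => by
    have e : ∀ z, SE.g.hom.app (op (W k ⊓ W l)) z = q.hom.app _ (SM.g.hom.app (op (W k ⊓ W l)) z) :=
      fun z => (ConcreteCategory.congr_hom
        (congrArg (fun φ => φ.hom.app (op (W k ⊓ W l)))
          (show SM.g ≫ q = SE.g from cokernel.π_desc _ _ _)) z).symm
    rw [e, map_sub, ← app_rs, ← app_rs, hb, hb, CechTop.res_res, CechTop.res_res,
      ← CechTop.res_res SM.X₃.obj inf_le_right (inf_le_inf (hW k) (hW l)),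
      ← CechTop.res_res SM.X₃.obj inf_le_left (inf_le_inf (hW k) (hW l)), ← map_sub, ha, app_rs]
    exact ConcreteCategory.congr_hom (congrArg (fun φ => φ.hom.app (op (W k ⊓ W l))) hmq) _
  choose w hw using fun k l => exists_app_eq hSE _ _ (hker k l)
  refine ⟨κ, W, fun k => k.1, hW, w, fun x => ?_, fun i j k T hi hj hk => app_injective hSE _ ?_,
    fun k l => ?_⟩
  · obtain ⟨i, hi⟩ := hU x
    exact ⟨⟨i, x, hi⟩, hxW ⟨i, x, hi⟩⟩
  · have key : ∀ k l (hk : T ≤ W k) (hl : T ≤ W l),
        SE.f.hom.app (op T) (rs SE.X₁ (le_inf hk hl) (w k l)) =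
          rs SE.X₂ hl (b l) - rs SE.X₂ hk (b k) := fun k l hk hl => by
      rw [← app_rs, hw, map_sub, CechTop.res_res, CechTop.res_res]
    refine (map_add _ _ _).trans ?_
    refine (congrArg₂ (· + ·) (key i j hi hj) (key j k hj hk)).trans ?_
    refine Eq.trans ?_ (key i k hi hk).symm
    abel
  · have hinj : Function.Injective (m.hom.app (op (W k ⊓ W l))) := by
      refine (injective_iff_map_eq_zero _).2 fun z hz => ?_
      have hls := (TopCat.Sheaf.isLocallySurjective_iff_epi S.g).mpr hS.epi_g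
      choose V hV he hxV using fun x : (W k ⊓ W l : Opens X) =>
        (TopCat.Presheaf.isLocallySurjective_iff S.g.hom).mp hls (W k ⊓ W l) z x.1 x.2
      refine TopCat.Sheaf.eq_of_locally_eq' (S.X₃ : TopCat.Sheaf AddCommGrpCat.{u} X) V _
        (fun x => homOfLE (hV x)) (fun x hx => Opens.mem_iSup.2 ⟨⟨x, hx⟩, hxV ⟨x, hx⟩⟩) z 0
        fun x => ?_
      obtain ⟨e, he'⟩ := he x
      rw [map_zero]
      refine he'.symm.trans ?_
      have h1 : SM.g.hom.app (op (V x)) (SE.f.hom.app (op (V x)) e) = 0 := by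
        refine ((ConcreteCategory.congr_hom
          (congrArg (fun φ => φ.hom.app (op (V x))) hm) e).symm.trans ?_)
        refine (congrArg (fun t => m.hom.app (op (V x)) t) he').trans ?_
        change m.hom.app (op (V x)) (rs S.X₃ (hV x) z) = 0
        rw [← app_rs, hz, map_zero]
      obtain ⟨y, hy⟩ := exists_app_eq hSM (V x) _ h1
      rw [← app_injective hSE _ hy]
      exact ConcreteCategory.congr_hom (congrArg (fun φ => φ.hom.app (op (V x))) S.zero) y
    apply hinj
    refine (ConcreteCategory.congr_hom (congrArg (fun φ => φ.hom.app (op (W k ⊓ W l))) hm) (w k l)).trans ?_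
    change SM.g.hom.app _ (SE.f.hom.app _ (w k l)) = _
    rw [hw, map_sub, ← app_rs, ← app_rs, hb, hb, CechTop.res_res, CechTop.res_res, ← app_rs, ← ha,
      map_sub, CechTop.res_res, CechTop.res_res]

end Groth.Agent.H12Pic.PicCurve.CechTwo
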