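import Groth.Agent.H28Mero.ZeroScheme
import Groth.Agent.H11Div.AmpleDiff
import Groth.Agent.H12Pic.InvDesc.Trivial
import Groth.Agent.H17.KoszTwist.Unit
import Groth.Agent.H29Blow.Basic

/-!
# Zero ideals of sections of invertible modules, and effective Cartier divisors
-/

set_option autoImplicit false
set_option linter.style.haveILetI false
set_option linter.unusedSectionVars false
set_option backward.isDefEq.respectTransparency.types false

noncomputable section

universe u

open CategoryTheory CategoryTheory.Limits AlgebraicGeometry TopologicalSpace Opposite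

namespace Groth.Agent.H12Pic.PicCurve

open Groth.Agent.H28Mero

variable {Y : Scheme.{u}}

/-- The ideal sheaf of the zeros of a section of an invertible module. -/
def zeroIdeal (L : Y.Modules) (σ : Coh.structureModule Y ⟶ L) (hL : PicF.IsInvertible L) : Y.IdealSheafData :=
  germIdealSheaf (zeroGerm L σ) (isLocPrincipal_zeroGerm L σ hL)

theorem zeroIdeal_support (L : Y.Modules) (σ : Coh.structureModule Y ⟶ L) (hL : PicF.IsInvertible L) (y : Y) :
    y ∈ (zeroIdeal L σ hL).support ↔ zeroGerm L σ y ≠ ⊤ := Iff.rfl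

theorem zeroIdeal_ideal (L : Y.Modules) (σ : Coh.structureModule Y ⟶ L) (hL : PicF.IsInvertible L)
    {V : Y.Opens} (hV : IsAffineOpen V) {e : Γ(L, V)} (he : IsGen L e) {c : Γ(Y, V)}
    (hc : ∀ (y : Y) (hy : y ∈ V), sGerm L σ y = Y.presheaf.germ V y hy c • L.presheaf.germ V y hy e) :
    (zeroIdeal L σ hL).ideal ⟨V, hV⟩ = Ideal.span {c} :=
  (germIdealSheaf_ideal _ _ _).trans
    (germIdeal_eq_span hV c fun y hy => zeroGerm_eq_span L σ (he y hy) (hc y hy))

/-- A section whose zero ideal is effective Cartier is regular. -/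
theorem isRegularSection_of_cartier (L : Y.Modules) (σ : Coh.structureModule Y ⟶ L) (hL : PicF.IsInvertible L)
    (h : BlowUp.IsEffCartierIdeal (zeroIdeal L σ hL)) : IsRegularSection L σ := by
  intro x
  obtain ⟨V, hV, hxV, -, e, c, he, hc⟩ := exists_section_coeff L σ hL ⊤ x trivial
  obtain ⟨U, hxU, a, ha, hU⟩ := h x
  have h1 : a ∈ germIdeal (zeroGerm L σ) U.1 := by
    rw [← germIdealSheaf_ideal _ (isLocPrincipal_zeroGerm L σ hL) U]
    exact hU ▸ Ideal.mem_span_singleton_self a
  have h2 := mem_germIdeal.1 h1 x hxU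
  rw [zeroGerm_eq_span L σ (he x hxV) (hc x hxV), Ideal.mem_span_singleton'] at h2
  obtain ⟨r, hr⟩ := h2
  have h3 := H17.KoszTwist.germ_mem_nonZeroDivisors ha hxU
  rw [← hr] at h3
  have h4 := (mul_mem_nonZeroDivisors.1 h3).2
  intro r₁ r₂ hrr
  simp only [hc x hxV, smul_smul] at hrr
  exact (mul_cancel_right_mem_nonZeroDivisors h4).1 ((he x hxV).1 hrr)

/-- Regular sections with the same zeros belong to isomorphic modules. -/
theorem nonempty_iso_of_zeroGerm_eq {L L' : Y.Modules} (hL : PicF.IsInvertible L) (hL' : PicF.IsInvertible L')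
    {σ : Coh.structureModule Y ⟶ L} {σ' : Coh.structureModule Y ⟶ L'} (hs : IsRegularSection L σ)
    (hs' : IsRegularSection L' σ') (h : ∀ y, zeroGerm L σ y = zeroGerm L' σ' y) : Nonempty (L ≅ L') := by
  obtain ⟨D, hD, -, e, -⟩ := exists_divisor_zeroScheme L σ hL hs
  obtain ⟨D', hD', -, e', -⟩ := exists_divisor_zeroScheme L' σ' hL' hs'
  have hI : PicF2.zeroScheme L σ = PicF2.zeroScheme L' σ' :=
    Scheme.IdealSheafData.ext (funext fun V => by
      rw [zeroScheme_ideal L σ hL hs V, zeroScheme_ideal L' σ' hL' hs' V, funext h])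
  exact ⟨e ≪≫ eqToIso (congrArg Mero.divMod (isDivOfIdeal_unique hD (hI ▸ hD'))) ≪≫ e'.symm⟩

/-- An effective Cartier divisor is the zero ideal of a section of the inverse of its ideal. -/
theorem exists_section_of_cartier (I : Y.IdealSheafData) (hI : BlowUp.IsEffCartierIdeal I) (N : Y.Modules)
    (hN : PicF.IsInvertible N) (eN : CohB1.tensorMod (ClSub.idealMod I) N ≅ Coh.structureModule Y) :
    ∃ σ : Coh.structureModule Y ⟶ N, zeroIdeal N σ hN = I ∧ IsRegularSection N σ := by
  let σ : Coh.structureModule Y ⟶ N :=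
    eN.inv ≫ LimSh.tensorModMap (ClSub.idealModι I) N ≫ (H11Ample.tensorLeftUnitIso N).hom
  refine ⟨σ, ?_⟩
  have hz : zeroIdeal N σ hN = I := by
    refine H29Blow.ext_of_forall_exists fun x => ?_
    obtain ⟨U, hxU, a, ha, hUa⟩ := hI x
    obtain ⟨W, n, hxW, hn⟩ := H11Ample.exists_gen hN x
    obtain ⟨V, hV, hxV, hVle⟩ := exists_isAffineOpen_mem_and_subset (U := U.1 ⊓ W) (x := x) ⟨hxU, hxW⟩
    have hVU : V ≤ U.1 := fun y hy => (hVle hy).1
    let a' : Γ(Y, V) := Y.presheaf.map (homOfLE hVU).op a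
    have hVa : I.ideal ⟨V, hV⟩ = Ideal.span {a'} := H29Blow.ideal_eq_span_res (W := ⟨V, hV⟩) hVU hUa
    obtain ⟨g, hg⟩ := (H29Blow.mem_ideal_iff_exists_idealSect I hV a').1 (hVa ▸ Ideal.mem_span_singleton_self a')
    have hggen : H11Tilde.IsGen (ClSub.idealMod I) g := H28Vert.isGen_idealSect hI hV (hVa.trans (by rw [← hg]))
    let nV : Γ(N, V) := N.presheaf.map (homOfLE (fun y hy => (hVle hy).2 : V ≤ W)).op n
    have hnV : H11Tilde.IsGen N nV := hn.res _
    let w : Γ(Y, V) := eN.hom.app V (H11Ample.tm g nV)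
    have hw : IsUnit w := InvDesc.isUnit_of_isGen (H11Tilde.IsGen.map_iso eN (H11Ample.isGen_tm hggen hnV))
    let n' : Γ(N, V) := (H11Ample.tensorLeftUnitIso N).hom.app V (H11Ample.tm (H11Ample.one V) nV)
    have hn' : H11Tilde.IsGen N n' :=
      H11Tilde.IsGen.map_iso _ (H11Ample.isGen_tm (H11Ample.isGen_one V) hnV)
    have h1 : w • (SecTwist.val σ V : Γ(N, V)) = a' • n' := by
      rw [SecTwist.val]
      refine Eq.trans (Scheme.Modules.Hom.app_smul σ w (1 : Γ(Y, V))).symm ?_
      refine Eq.trans (congrArg (fun t : Γ(Coh.structureModule Y, V) => σ.app V t)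
        (mul_one w : (show Γ(Y, V) from w • (1 : Γ(Y, V))) = w)) ?_
      show (H11Ample.tensorLeftUnitIso N).hom.app V ((LimSh.tensorModMap (ClSub.idealModι I) N).app V
        (eN.inv.app V (show Γ(Coh.structureModule Y, V) from w))) = _
      rw [show eN.inv.app V (show Γ(Coh.structureModule Y, V) from w) = H11Ample.tm g nV from
        congr($(eN.hom_inv_id).app V (H11Ample.tm g nV)), H10Coh.Tw.map_tm, ← hg]
      change (H11Ample.tensorLeftUnitIso N).hom.app V
        (H11Ample.tm (show Γ(Coh.structureModule Y, V) from OmegaSh.idealSect I V g) nV) = _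
      rw [show H11Ample.tm (show Γ(Coh.structureModule Y, V) from OmegaSh.idealSect I V g) nV =
          (OmegaSh.idealSect I V g) • H11Ample.tm (H11Ample.one V) nV by
        rw [← H11Ample.tm_smul_left, H11Ample.smul_one_eq]]
      exact (Scheme.Modules.Hom.app_smul _ _ _).trans rfl
    obtain ⟨w', hw'⟩ := hw
    rw [← show (↑w' : Γ(Y, V)) = w from hw'] at h1
    refine ⟨⟨V, hV⟩, hxV, ?_⟩
    rw [zeroIdeal_ideal N σ hN hV hn' (c := (↑w'⁻¹ : Γ(Y, V)) * a'), hVa]
    · exact Ideal.span_singleton_mul_left_unit (Units.isUnit _) a'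
    · intro y hy
      have h2 : (SecTwist.val σ V : Γ(N, V)) = ((↑w'⁻¹ : Γ(Y, V)) * a') • n' := by
        rw [mul_smul, ← h1]
        exact (inv_smul_smul w' _).symm
      have h3 := congrArg (N.presheaf.germ V y hy) h2
      rw [Mero.germ_smul] at h3
      exact (germ_val N σ V y hy).symm.trans h3
  exact ⟨hz, isRegularSection_of_cartier N σ hN (hz.symm ▸ hI)⟩

/-- The inverse image of the zeros of a section, on an integral scheme meeting the complement, is
effective Cartier. -/
theorem isEffCartierIdeal_comap_zeroIdeal {Y' : Scheme.{u}} [IsIntegral Y'] (g : Y' ⟶ Y) (L : Y.Modules)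
    (σ : Coh.structureModule Y ⟶ L) (hL : PicF.IsInvertible L) (y₀ : Y') (h₀ : zeroGerm L σ (g y₀) = ⊤) :
    BlowUp.IsEffCartierIdeal ((zeroIdeal L σ hL).comap g) := by
  intro y
  obtain ⟨V, hV, hyV, -, e, c, he, hc⟩ := exists_section_coeff L σ hL ⊤ (g y) trivial
  obtain ⟨W, hW, hyW, hWle⟩ := exists_isAffineOpen_mem_and_subset (U := g ⁻¹ᵁ V) (x := y) hyV
  refine ⟨⟨W, hW⟩, hyW, g.appLE V W hWle c, ?_, ?_⟩
  · haveI : Nonempty W := ⟨⟨y, hyW⟩⟩
    refine mem_nonZeroDivisors_of_ne_zero fun h0 => ?_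
    have hη : genericPoint Y' ∈ W := ((genericPoint_spec Y').mem_open_set_iff W.2).2 ⟨y, trivial, hyW⟩
    have hns : g (genericPoint Y') ∉ (zeroIdeal L σ hL).support := fun hs => by
      have hmem : g y₀ ∈ (zeroIdeal L σ hL).support :=
        ((genericPoint_specializes y₀).map g.continuous).mem_closed (zeroIdeal L σ hL).support.isClosed hs
      exact (zeroIdeal_support L σ hL _).1 hmem h₀
    rw [zeroIdeal_support, not_not, zeroGerm_eq_span L σ (he _ (hWle hη)) (hc _ (hWle hη)),
      Ideal.span_singleton_eq_top] at hns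
    have h3 := hns.map (g.stalkMap (genericPoint Y')).hom
    rw [Scheme.Hom.germ_stalkMap_apply] at h3
    have h4 : Y'.presheaf.germ W _ hη (g.appLE V W hWle c) =
        Y'.presheaf.germ (g ⁻¹ᵁ V) _ (hWle hη) (g.app V c) := by
      simp [Scheme.Hom.appLE]
    rw [h0, map_zero] at h4
    exact not_isUnit_zero (M₀ := Y'.presheaf.stalk (genericPoint Y')) (h4 ▸ h3)
  · rw [H29Blow.ideal_comap (zeroIdeal L σ hL) g ⟨V, hV⟩ ⟨W, hW⟩ hWle, zeroIdeal_ideal L σ hL hV he hc,
      Ideal.map_span, Set.image_singleton]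

end Groth.Agent.H12Pic.PicCurve
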