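import Groth.Agent.LeadBC.GenBC.Semicont
import Groth.Agent.LeadBC.GenBC.ZeroApply
import Groth.Agent.LeadBC.GenBC.Conseq
import Groth.Agent.H28Int.FieldExt
import Groth.Agent.H29RR.FiniteSupport
import Groth.Agent.H29RR.Degree
import Groth.Agent.H10Coh.Proper2
import Groth.Agent.H8Props.FinLocFree.Sheaf
import Groth.Agent.H10Coh.SheafHom.Flat
import Groth.Agent.H28Pinch.DirectImageTrivial
import Groth.Agent.H11Ample.Converse
import Groth.Agent.H28Mero.Gen

/-!
# Invertible modules without first cohomology and with one section on every fibre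
-/

set_option autoImplicit false
set_option linter.style.haveILetI false
set_option linter.unusedSectionVars false

noncomputable section

universe u

open CategoryTheory CategoryTheory.Limits AlgebraicGeometry TopologicalSpace Opposite

namespace Groth.Agent.H12Pic.PicCurve

open Groth.Agent.H10Coh Groth.Agent.LeadBC Groth.Agent.LeadBC.GenBC

variable {Y T : Scheme.{u}} (π : Y ⟶ T)

/-- The fibre as a scheme over the spectrum of its field. -/
@[reducible] def fibreOverField {Y T : Scheme.{u}} (π : Y ⟶ T) (t : T) :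
    (π.fiber t).Over (Spec (CommRingCat.of (T.residueField t))) := ⟨π.fiberToSpecResidueField t⟩

attribute [local instance] fibreOverField

/-- On every fibre there is one section up to constants and no first cohomology. -/
def IsGood (L : Y.Modules) : Prop :=
  ∀ t : T, CohIII.fiberRank π L 0 t = 1 ∧ CohIII.fiberRank π L 1 t = 0

variable [IsProper π]

/-- Cohomology over a field valued point of the base is that of the fibre. -/
theorem finrank_HH_point {L : Y.Modules} (hL : PicF.IsInvertible L) {K : Type u} [Field K]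
    {Y' : Scheme.{u}} [Y'.Over (Spec (CommRingCat.of K))] (g : Spec (CommRingCat.of K) ⟶ T) {g' : Y' ⟶ Y}
    (h : IsPullback g' (Y' ↘ Spec (CommRingCat.of K)) π g) (p : ℕ) :
    Module.finrank K (Coh.HH Y' ((Scheme.Modules.pullback g').obj L) p) =
      CohIII.fiberRank π L p (g (IsLocalRing.closedPoint K)) := by
  set t := g (IsLocalRing.closedPoint K) with ht
  let d : T.residueField t ⟶ CommRingCat.of K := Scheme.descResidueField (Scheme.stalkClosedPointTo g)
  letI : Algebra (T.residueField t) K := d.hom.toAlgebra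
  have hd : Spec.map d ≫ T.fromSpecResidueField t = g :=
    Scheme.descResidueField_stalkClosedPointTo_fromSpecResidueField K T g
  have hfib : IsPullback (π.fiberι t) (π.fiber t ↘ Spec (CommRingCat.of (T.residueField t))) π
      (T.fromSpecResidueField t) := IsPullback.of_hasPullback π (T.fromSpecResidueField t)
  haveI : IsProper (π.fiber t ↘ Spec (CommRingCat.of (T.residueField t))) :=
    MorphismProperty.of_isPullback hfib inferInstance
  haveI := H29RR.isNoetherian_of_proper (k := T.residueField t) (X := π.fiber t)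
  let q : Y' ⟶ π.fiber t := hfib.lift g' ((Y' ↘ Spec (CommRingCat.of K)) ≫ Spec.map d) (by
    rw [Category.assoc, hd, h.w])
  have hsq : IsPullback q (Y' ↘ Spec (CommRingCat.of K)) (π.fiber t ↘ Spec (CommRingCat.of (T.residueField t)))
      (Spec.map (CommRingCat.ofHom (algebraMap (T.residueField t) K))) := by
    refine IsPullback.of_right ?_ (hfib.lift_snd _ _ _) hfib
    rw [hfib.lift_fst]
    show IsPullback g' _ π (Spec.map d ≫ T.fromSpecResidueField t)
    rw [hd]
    exact h
  have hc : Coh.IsCoh ((Scheme.Modules.pullback (π.fiberι t)).obj L) :=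
    H16Derived.KFlat.Stalk.isCoh_of_isFinLocFree
      (H28Pinch.isFinLocFree_of_isInvertible (H11Ample.isInvertible_pullback _ hL))
  refine Eq.trans ?_ ((H28Int.FieldExt.finrank_HH_bc K hsq hc p).trans rfl)
  exact (H29RR.hhIso (k := K) ((Scheme.Modules.pullbackCongr (hfib.lift_fst _ _ _).symm).app L ≪≫
    ((Scheme.Modules.pullbackComp q (π.fiberι t)).app L).symm) p).finrank_eq

/-- The fibre ranks are stable under base change. -/
theorem fiberRank_pullback {L : Y.Modules} (hL : PicF.IsInvertible L) {Y' T' : Scheme.{u}} {π' : Y' ⟶ T'}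
    [IsProper π'] {q : T' ⟶ T} {q' : Y' ⟶ Y} (h : IsPullback q' π' π q) (p : ℕ) (t : T') :
    CohIII.fiberRank π' ((Scheme.Modules.pullback q').obj L) p t = CohIII.fiberRank π L p (q t) := by
  have hfib : IsPullback (π'.fiberι t) (π'.fiber t ↘ Spec (CommRingCat.of (T'.residueField t))) π'
      (T'.fromSpecResidueField t) := IsPullback.of_hasPullback π' (T'.fromSpecResidueField t)
  have h1 := finrank_HH_point π' (H11Ample.isInvertible_pullback q' hL) _ hfib p
  have h2 := finrank_HH_point π hL _ (hfib.paste_horiz h) p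
  rw [Scheme.fromSpecResidueField_apply] at h1
  rw [Scheme.Hom.comp_apply, Scheme.fromSpecResidueField_apply] at h2
  rw [← h1, ← h2]
  exact (H29RR.hhIso (k := T'.residueField t) ((Scheme.Modules.pullbackComp (π'.fiberι t) q').app L) p).finrank_eq

theorem IsGood.pullback {L : Y.Modules} (hg : IsGood π L) (hL : PicF.IsInvertible L) {Y' T' : Scheme.{u}}
    {π' : Y' ⟶ T'} [IsProper π'] {q : T' ⟶ T} {q' : Y' ⟶ Y} (h : IsPullback q' π' π q) :
    IsGood π' ((Scheme.Modules.pullback q').obj L) := fun t => by
  rw [fiberRank_pullback π hL h, fiberRank_pullback π hL h]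
  exact hg _

variable [Flat π] [LocallyOfFinitePresentation π]

theorem subsingleton_fiberH_of_fiberRank {L : Y.Modules} (hL : PicF.IsInvertible L) {p : ℕ} {t : T}
    (h : CohIII.fiberRank π L p t = 0) : Subsingleton (CohIII.fiberH π L t p) := by
  haveI : IsProper (π.fiber t ↘ Spec (CommRingCat.of (T.residueField t))) :=
    MorphismProperty.of_isPullback (IsPullback.of_hasPullback π (T.fromSpecResidueField t)) inferInstance
  haveI := H29RR.isNoetherian_of_proper (k := T.residueField t) (X := π.fiber t)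
  haveI : Module.Finite (T.residueField t) (CohIII.fiberH π L t p) :=
    H10Coh.finite_HH_proper (T.residueField t) (π.fiber t) _ (H16Derived.KFlat.Stalk.isCoh_of_isFinLocFree
      (H28Pinch.isFinLocFree_of_isInvertible (H11Ample.isInvertible_pullback _ hL))) p
  exact (@Module.finrank_zero_iff (T.residueField t) (CohIII.fiberH π L t p) _ _ _ _ this _).mp h

/-- Near a point without first cohomology there is none, sections base change, and their rank is constant. -/
theorem exists_nhd_of_fiberRank_one_eq_zero {L : Y.Modules} (hL : PicF.IsInvertible L) {t : T}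
    (h : CohIII.fiberRank π L 1 t = 0) :
    ∃ (W : T.Opens) (hW : IsAffineOpen W), t ∈ W ∧ EpiOn π L hW 0 ∧
      ∀ y ∈ W, CohIII.fiberRank π L 1 y = 0 ∧
        ∃ O : T.Opens, y ∈ O ∧ ∀ z ∈ O, CohIII.fiberRank π L 0 z = CohIII.fiberRank π L 0 y := by
  haveI := H10Coh.enoughInjMod Y
  have hlf := H28Pinch.isFinLocFree_of_isInvertible hL
  have hfp : CohB1.IsFP L := H8Props.FinLocFree.isFP_of_isFinLocFree L hlf
  have hfl : FlatMod.IsFlatOver π L := H10Coh.SheafHom.isFlatOver_of_isFinLocFree π L hlf
  haveI : L.IsQuasicoherent := H28Mero.isQCoh_of_isInvertible hL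
  obtain ⟨W, hW, htW, -, hm, -, hv⟩ :=
    exists_vanishing_nhd π L hfp hfl 1 (subsingleton_fiberH_of_fiberRank π hL h)
  have he := (monoOn_succ_iff π L hW hfp hfl 0).1 hm
  obtain ⟨-, -, hc⟩ := sections_of_exact π L hW hfp hfl he (monoOn_zero π L hW hfp hfl)
  refine ⟨W, hW, htW, he, fun y hy => ⟨?_, ?_⟩⟩
  · haveI := hv y hy
    exact Module.finrank_zero_of_subsingleton
  · obtain ⟨O, hO, hyO, hOc⟩ := (IsLocallyConstant.iff_exists_open _).1 hc ⟨y, hy⟩
    refine ⟨⟨Subtype.val '' O, W.isOpen.isOpenMap_subtype_val _ hO⟩, ⟨⟨y, hy⟩, hyO, rfl⟩, ?_⟩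
    rintro _ ⟨z, hz, rfl⟩
    exact hOc z hz

/-- The locus of goodness is open. -/
def goodLocus {L : Y.Modules} (hL : PicF.IsInvertible L) : T.Opens where
  carrier := {t | CohIII.fiberRank π L 0 t = 1 ∧ CohIII.fiberRank π L 1 t = 0}
  is_open' := isOpen_iff_forall_mem_open.2 fun t ⟨h0, h1⟩ => by
    obtain ⟨W, -, htW, -, hall⟩ := exists_nhd_of_fiberRank_one_eq_zero π hL h1
    obtain ⟨-, O, htO, hO⟩ := hall t htW
    refine ⟨W ⊓ O, fun z hz => ⟨(hO z hz.2).trans h0, (hall z hz.1).1⟩, (W ⊓ O).2, ⟨htW, htO⟩⟩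

theorem mem_goodLocus {L : Y.Modules} (hL : PicF.IsInvertible L) (t : T) :
    t ∈ goodLocus π hL ↔ CohIII.fiberRank π L 0 t = 1 ∧ CohIII.fiberRank π L 1 t = 0 := Iff.rfl

/-- Goodness after a base change is landing in the good locus. -/
theorem isGood_pullback_iff {L : Y.Modules} (hL : PicF.IsInvertible L) {Y' T' : Scheme.{u}}
    {π' : Y' ⟶ T'} [IsProper π'] {q : T' ⟶ T} {q' : Y' ⟶ Y} (h : IsPullback q' π' π q) :
    IsGood π' ((Scheme.Modules.pullback q').obj L) ↔ Set.range q ⊆ (goodLocus π hL : Set T) := by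
  refine ⟨fun hg => ?_, fun hs t => ?_⟩
  · rintro _ ⟨t, rfl⟩
    have := hg t
    rw [fiberRank_pullback π hL h, fiberRank_pullback π hL h] at this
    exact this
  · rw [fiberRank_pullback π hL h, fiberRank_pullback π hL h]
    exact hs ⟨t, rfl⟩

end Groth.Agent.H12Pic.PicCurve
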