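import Groth.Agent.H12Pic.PicCurve.Good
import Groth.Agent.H12Pic.Seesaw
import Groth.Agent.H12Pic.SeesawAlg
import Groth.Agent.H29RR.Choice

/-!
# The section of a good invertible module
-/

set_option autoImplicit false
set_option linter.style.haveILetI false
set_option linter.unusedSectionVars false
set_option maxHeartbeats 1200000

noncomputable section

universe u

open CategoryTheory CategoryTheory.Limits AlgebraicGeometry TopologicalSpace Opposite
open scoped TensorProduct

namespace Groth.Agent.H12Pic.PicCurve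

open Groth.Agent.H10Coh Groth.Agent.LeadBC Groth.Agent.LeadBC.GenBC Groth.Agent.H11Tilde

attribute [local instance] fibreOverField

/-- The points where a section over an open set generates. -/
def genAt {Y : Scheme.{u}} (L : Y.Modules) {V : Y.Opens} (m : Γ(L, V)) : Set Y :=
  {x | ∃ hx : x ∈ V, Function.Bijective fun r : Y.presheaf.stalk x => r • L.presheaf.germ V x hx m}

theorem isOpen_genAt {Y : Scheme.{u}} {L : Y.Modules} (hL : PicF.IsInvertible L) {V : Y.Opens} (m : Γ(L, V)) :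
    IsOpen (genAt L m) := by
  refine isOpen_iff_forall_mem_open.2 fun x ⟨hx, hb⟩ => ?_
  obtain ⟨V₀, e, hV₀, he⟩ := H11Ample.exists_gen hL x
  have hW : x ∈ V₀ ⊓ V := ⟨hV₀, hx⟩
  have he' := he.res (inf_le_left : V₀ ⊓ V ≤ V₀)
  obtain ⟨c, hc⟩ := H11Ample.exists_coeff he' (L.presheaf.map (homOfLE (inf_le_right : V₀ ⊓ V ≤ V)).op m)
  refine ⟨Y.basicOpen c, fun z hz => ?_, (Y.basicOpen c).isOpen, ?_⟩
  · have hzW := Y.basicOpen_le c hz
    refine ⟨hzW.2, ?_⟩
    have h3 := (H11Ample.bijective_smul_iff he' c hzW).2 hz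
    rw [← hc, TopCat.Presheaf.germ_res_apply] at h3
    exact h3
  · refine (H11Ample.bijective_smul_iff he' c hW).1 ?_
    rw [← hc, TopCat.Presheaf.germ_res_apply]
    exact hb

/-- A section generates the pullback over the points where it generates. -/
theorem bijective_germ_pullSect {Y' Y : Scheme.{u}} (g : Y' ⟶ Y) {L : Y.Modules} (hL : PicF.IsInvertible L)
    {V : Y.Opens} (m : Γ(L, V)) (y : Y') (hy : g y ∈ genAt L m) :
    Function.Bijective fun r : Y'.presheaf.stalk y =>
      r • ((Scheme.Modules.pullback g).obj L).presheaf.germ (g ⁻¹ᵁ V) y hy.1 (OmegaSh.pullSect g L V m) := by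
  obtain ⟨hy, hb⟩ := hy
  obtain ⟨V₀, e, hV₀, he⟩ := H11Ample.exists_gen hL (g y)
  have hW : g y ∈ V₀ ⊓ V := ⟨hV₀, hy⟩
  have he' := he.res (inf_le_left : V₀ ⊓ V ≤ V₀)
  obtain ⟨c, hc⟩ := H11Ample.exists_coeff he' (L.presheaf.map (homOfLE (inf_le_right : V₀ ⊓ V ≤ V)).op m)
  have h3 : g y ∈ Y.basicOpen c := by
    refine (H11Ample.bijective_smul_iff he' c hW).1 ?_
    rw [← hc, TopCat.Presheaf.germ_res_apply]
    exact hb
  have h1 : OmegaSh.pullSect g L (V₀ ⊓ V) (L.presheaf.map (homOfLE (inf_le_right : V₀ ⊓ V ≤ V)).op m) =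
      g.app (V₀ ⊓ V) c • OmegaSh.pullSect g L (V₀ ⊓ V) (L.presheaf.map (homOfLE (inf_le_left : V₀ ⊓ V ≤ V₀)).op e) := by
    rw [hc, OmegaSh.pullSect_smul]
  have h2 : y ∈ Y'.basicOpen (g.app (V₀ ⊓ V) c) := by rw [← Scheme.preimage_basicOpen]; exact h3
  have h4 := (H11Ample.bijective_smul_iff (IsGen.pullSect g he') _ (y := y) hW).2 h2
  rw [← h1, pullSect_res g L inf_le_right m, TopCat.Presheaf.germ_res_apply] at h4
  exact h4

variable {Y T : Scheme.{u}} (π : Y ⟶ T) [IsProper π] [Flat π] [LocallyOfFinitePresentation π]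
  (hint : ∀ t : T, IsIntegral (π.fiber t))
  {L : Y.Modules} (hL : PicF.IsInvertible L) (hg : IsGood π L)

include hL hg hint in
/-- Sections over an affine open: one is nonzero on a given fibre, and any such one spans. -/
theorem good_sections {W : T.Opens} (hW : IsAffineOpen W) (he : EpiOn π L hW 0) :
    (∀ z ∈ W, ∃ m : Γ(L, π ⁻¹ᵁ W), ∃ y ∈ genAt L m, π y = z) ∧
      ∀ m : Γ(L, π ⁻¹ᵁ W), (∀ z ∈ W, ∃ y ∈ genAt L m, π y = z) →
        ∀ q : Γ(L, π ⁻¹ᵁ W), ∃ a : Γ(T, W), q = π.app W a • m := by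
  haveI := H10Coh.enoughInjMod Y
  have hlf := H28Pinch.isFinLocFree_of_isInvertible hL
  have hfp : CohB1.IsFP L := H8Props.FinLocFree.isFP_of_isFinLocFree L hlf
  have hfl : FlatMod.IsFlatOver π L := H10Coh.SheafHom.isFlatOver_of_isFinLocFree π L hlf
  haveI : L.IsQuasicoherent := H28Mero.isQCoh_of_isInvertible hL
  let N := (Scheme.Modules.pushforward π).obj L
  haveI : Module.Finite Γ(T, W) Γ(N, W) := by
    haveI := isIso_toR0 π L
    obtain ⟨h1, -, -⟩ := sections_of_exact π L hW hfp hfl he (monoOn_zero π L hW hfp hfl)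
    let ψ : N ≅ (Coh.Rpush π 0).obj L := asIso ((Scheme.Modules.pushforward π).toRightDerivedZero.app L)
    haveI := h1
    let l : Γ((Coh.Rpush π 0).obj L, W) →ₗ[Γ(T, W)] Γ(N, W) :=
      { toFun := fun x => ψ.inv.app W x
        map_add' := fun x y => map_add _ x y
        map_smul' := fun c x => Scheme.Modules.Hom.app_smul ψ.inv c x }
    exact Module.Finite.of_surjective l (ConcreteCategory.bijective_of_isIso (ψ.inv.app W)).2
  let toN : Γ(L, π ⁻¹ᵁ W) → Γ(N, W) := fun m => m
  have key : ∀ (z : T) (hz : z ∈ W), (∃ m : Γ(L, π ⁻¹ᵁ W), ∃ y ∈ genAt L m, π y = z) ∧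
      ∀ m : Γ(L, π ⁻¹ᵁ W), (∃ y ∈ genAt L m, π y = z) →
        ¬ Module.annihilator Γ(T, W) (Γ(N, W) ⧸ (Γ(T, W) ∙ (toN m))) ≤ (hW.primeIdealOf ⟨z, hz⟩).asIdeal := by
    intro z hz
    let K := T.residueField z
    have hsq : IsPullback (π.fiberι z) (π.fiberToSpecResidueField z) π (T.fromSpecResidueField z) :=
      IsPullback.of_hasPullback π (T.fromSpecResidueField z)
    haveI : Subsingleton (Spec K) := inferInstanceAs (Subsingleton (PrimeSpectrum K))
    have hle : (⊤ : (Spec K).Opens) ≤ T.fromSpecResidueField z ⁻¹ᵁ W := fun w _ => by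
      show T.fromSpecResidueField z w ∈ W
      rw [Scheme.fromSpecResidueField_apply]
      exact hz
    letI := ((T.fromSpecResidueField z).appLE W ⊤ hle).hom.toAlgebra
    letI := Module.compHom Γ((Scheme.Modules.pushforward (π.fiberToSpecResidueField z)).obj
        ((Scheme.Modules.pullback (π.fiberι z)).obj L), ⊤) ((T.fromSpecResidueField z).appLE W ⊤ hle).hom
    haveI : IsScalarTower Γ(T, W) Γ(Spec K, ⊤) Γ((Scheme.Modules.pushforward (π.fiberToSpecResidueField z)).obj
        ((Scheme.Modules.pullback (π.fiberι z)).obj L), ⊤) := .of_algebraMap_smul fun _ _ => rfl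
    have hF : IsField Γ(Spec K, ⊤) :=
      MulEquiv.isField (Field.toIsField K) (Scheme.ΓSpecIso K).commRingCatIsoToRingEquiv.toMulEquiv
    letI : Field Γ(Spec K, ⊤) := hF.toField
    obtain ⟨c, hc, hcf⟩ := exists_transpose_app (T.fromSpecResidueField z)
      (H10Coh.isQuasicoherent_pushforward π L) (τ₀ π L hsq) hW (isAffineOpen_top _) hle
    haveI := isIso_bc_zero π L hsq hfp hfl fun w => ⟨W, hW, by rw [Scheme.fromSpecResidueField_apply]; exact hz, he⟩
    let lift := LinearMap.liftBaseChange Γ(Spec K, ⊤) (FBC.locLin (T.fromSpecResidueField z) (τ₀ π L hsq) hle)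
    have hb : Function.Bijective lift := by
      rw [hcf]
      exact (ConcreteCategory.bijective_of_isIso _).comp hc
    have hle' : (⊤ : (π.fiber z).Opens) ≤ π.fiberι z ⁻¹ᵁ (π ⁻¹ᵁ W) :=
      ((Opens.map (π.fiberToSpecResidueField z).base).monotone hle).trans (FBC.preimage_swap hsq W).le
    let σ : Γ(L, π ⁻¹ᵁ W) → Γ(CohIII.fiberMod π L z, ⊤) := fun m =>
      (CohIII.fiberMod π L z).presheaf.map (homOfLE hle').op (OmegaSh.pullSect (π.fiberι z) L (π ⁻¹ᵁ W) m)
    have hσ : ∀ m, lift (1 ⊗ₜ[Γ(T, W)] (toN m)) = σ m := fun m => by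
      show LinearMap.liftBaseChange _ _ _ = _
      rw [LinearMap.liftBaseChange_tmul, one_smul]
      show rs (CohIII.fiberMod π L z) ((Opens.map (π.fiberToSpecResidueField z).base).monotone hle)
        ((τ₀ π L hsq).app W m) = σ m
      rw [FBC.τPush_app]
      exact rs_rs (CohIII.fiberMod π L z) (FBC.preimage_swap hsq W).le _ _
    -- one dimension of sections on the fibre
    have hone : (∃ x : Γ(CohIII.fiberMod π L z, ⊤), x ≠ 0) ∧ ∀ x y : Γ(CohIII.fiberMod π L z, ⊤), x ≠ 0 →
        ∃ r : Γ(Spec K, ⊤), y = (π.fiberToSpecResidueField z).appTop r • x := by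
      let E := HH0Equiv (CohIII.fiberMod π L z)
      haveI : Nontrivial (CohIII.fiberH π L z 0) :=
        Module.nontrivial_of_finrank_pos (R := K) (show 0 < CohIII.fiberRank π L 0 z by rw [(hg z).1]; exact one_pos)
      obtain ⟨x₀, hx₀⟩ := exists_ne (0 : CohIII.fiberH π L z 0)
      refine ⟨⟨E x₀, fun h => hx₀ (E.injective (h.trans (map_zero E).symm))⟩, fun x y hx => ?_⟩
      obtain ⟨r, hr⟩ := exists_smul_eq_of_finrank_eq_one (hg z).1
        (show E.symm x ≠ 0 from fun h => hx (E.symm.injective (h.trans (map_zero E.symm).symm))) (E.symm y)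
      refine ⟨(Scheme.ΓSpecIso K).inv r, ?_⟩
      have h2 := congrArg E hr
      rw [AddEquiv.apply_symm_apply] at h2
      rw [← h2]
      refine (HH0Equiv_smul (CohIII.fiberMod π L z) (algebraMap K Γ(π.fiber z, ⊤) r) (E.symm x)).trans ?_
      exact congrArg (algebraMap K Γ(π.fiber z, ⊤) r • ·) (E.apply_symm_apply x)
    haveI := hint z
    haveI : IsProper (π.fiber z ↘ Spec (CommRingCat.of K)) := MorphismProperty.of_isPullback hsq inferInstance
    haveI := H29RR.isNoetherian_of_proper (k := K) (X := π.fiber z)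
    constructor
    · obtain ⟨x, hx⟩ := hone.1
      obtain ⟨m, hm⟩ : ∃ m, σ m ≠ 0 := by
        by_contra hall
        push Not at hall
        obtain ⟨w, hw⟩ := hb.2 x
        have hall' : ∀ w, lift w = 0 := fun w => by
          induction w using TensorProduct.induction_on with
          | zero => exact map_zero _
          | tmul r m =>
            rw [show r ⊗ₜ[Γ(T, W)] m = r • ((1 : Γ(Spec K, ⊤)) ⊗ₜ[Γ(T, W)] m) by
              rw [TensorProduct.smul_tmul', smul_eq_mul, mul_one], map_smul]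
            have h0 : lift ((1 : Γ(Spec K, ⊤)) ⊗ₜ[Γ(T, W)] m) = 0 := (hσ m).trans (hall m)
            rw [h0, smul_zero]
          | add a b ha hb' => rw [map_add, ha, hb', add_zero]
        exact hx (hw.symm.trans (hall' w))
      have hη := H29RR.genericPoint_mem_gen (H11Ample.isInvertible_pullback (π.fiberι z) hL) hm
      have hb' := (H11Ample.mem_gen_iff (H11Ample.isInvertible_pullback (π.fiberι z) hL) _ _).1 hη
      rw [TopCat.Presheaf.germ_res_apply] at hb'
      refine ⟨m, π.fiberι z (genericPoint (π.fiber z)), ⟨_, bijective_germ_of_pullSect (π.fiberι z) hL m _ _ hb'⟩, ?_⟩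
      exact (π.range_fiberι z).le ⟨_, rfl⟩
    · intro m ⟨y, hy, hyz⟩ hann
      obtain ⟨y', rfl⟩ : y ∈ Set.range (π.fiberι z) := (π.range_fiberι z).ge hyz
      have hm : σ m ≠ 0 := fun h0 => by
        have h1 := bijective_germ_pullSect (π.fiberι z) hL m y' hy
        rw [← TopCat.Presheaf.germ_res_apply (CohIII.fiberMod π L z).presheaf (homOfLE hle') y' trivial] at h1
        change Function.Bijective fun r : (π.fiber z).presheaf.stalk y' =>
          r • (CohIII.fiberMod π L z).presheaf.germ ⊤ y' trivial (σ m) at h1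
        rw [h0] at h1
        simp only [map_zero, smul_zero] at h1
        exact one_ne_zero (α := (π.fiber z).presheaf.stalk y') (h1.1 (a₁ := 1) (a₂ := 0) rfl)
      let P := Γ(T, W) ∙ (toN m)
      have hker : RingHom.ker (algebraMap Γ(T, W) Γ(Spec K, ⊤)) = (hW.primeIdealOf ⟨z, hz⟩).asIdeal := by
        let z₀ : Spec Γ(Spec K, ⊤) := ⟨(⊥ : Ideal Γ(Spec K, ⊤)), Ideal.isPrime_bot⟩
        have h1 : (Spec.map ((T.fromSpecResidueField z).appLE W ⊤ hle)) z₀ = hW.primeIdealOf ⟨z, hz⟩ :=
          hW.fromSpec.isOpenEmbedding.injective (by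
            rw [hW.fromSpec_primeIdealOf, ← Scheme.Hom.comp_apply,
              hW.SpecMap_appLE_fromSpec (T.fromSpecResidueField z) (isAffineOpen_top _) hle, Scheme.Hom.comp_apply]
            exact Scheme.fromSpecResidueField_apply _ _)
        exact congrArg PrimeSpectrum.asIdeal h1
      have hpos := finrank_fibre_pos (A := Γ(T, W)) (Q := Γ(N, W) ⧸ P) (K := Γ(Spec K, ⊤)) (hker ▸ hann)
      haveI : Subsingleton (Γ(Spec K, ⊤) ⊗[Γ(T, W)] (Γ(N, W) ⧸ P)) := by
        refine subsingleton_iff_forall_eq 0 |>.2 fun w => ?_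
        obtain ⟨w', rfl⟩ := LinearMap.lTensor_surjective _ P.mkQ_surjective w
        obtain ⟨r, hr⟩ := hone.2 (σ m) (lift w') hm
        rw [show w' = r ⊗ₜ[Γ(T, W)] (toN m) from hb.1 (by
          rw [hr, ← hσ, show r ⊗ₜ[Γ(T, W)] (toN m) = r • ((1 : Γ(Spec K, ⊤)) ⊗ₜ[Γ(T, W)] (toN m)) by
            rw [TensorProduct.smul_tmul', smul_eq_mul, mul_one], map_smul]
          rfl), LinearMap.lTensor_tmul, Submodule.mkQ_apply,
          (Submodule.Quotient.mk_eq_zero _).2 (Submodule.mem_span_singleton_self _), TensorProduct.tmul_zero]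
      rw [Module.finrank_zero_of_subsingleton] at hpos
      omega
  refine ⟨fun z hz => (key z hz).1, fun m hm q => ?_⟩
  let P := Γ(T, W) ∙ (toN m)
  have htop : Module.annihilator Γ(T, W) (Γ(N, W) ⧸ P) = ⊤ := by
    by_contra hne
    obtain ⟨M, hM, hle⟩ := Ideal.exists_le_maximal _ hne
    obtain ⟨⟨z, hz⟩, hzM⟩ := H29Blow.exists_primeIdealOf_eq hW ⟨M, hM.isPrime⟩
    exact (key z hz).2 m (hm z hz) (hle.trans_eq (congrArg PrimeSpectrum.asIdeal hzM).symm)
  have h1 := Module.mem_annihilator.1 (htop ▸ Submodule.mem_top (x := (1 : Γ(T, W))))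
    (Submodule.Quotient.mk (toN q))
  rw [one_smul, Submodule.Quotient.mk_eq_zero, Submodule.mem_span_singleton] at h1
  obtain ⟨a, ha⟩ := h1
  exact ⟨a, ha.symm⟩

end Groth.Agent.H12Pic.PicCurve
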