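import Groth.Agent.H12Pic.PicCurve.Degree
import Groth.Agent.H12Pic.PicCurve.GoodSection
import Groth.Agent.H12Pic.PicCurve.Section
import Groth.Agent.H27CurveDiv.Degree
import Groth.Agent.H27CurveDiv.Relative
import Groth.Agent.H29Slice.Fibre
import Groth.Agent.H12Pic.CurveFam.ComapIdeal
import Groth.Agent.H11Sym.InvertibleInverse
import Groth.Agent.H25Theta.Basic

/-!
# The divisor of a good invertible module on a relative curve
-/

set_option autoImplicit false
set_option linter.style.haveILetI false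
set_option linter.unusedSectionVars false
set_option maxHeartbeats 1200000
set_option backward.isDefEq.respectTransparency.types false

noncomputable section

universe u

open CategoryTheory CategoryTheory.Limits AlgebraicGeometry TopologicalSpace Opposite

namespace Groth.Agent.H12Pic.PicCurve

open Groth.Agent.H28Mero
open Groth.Agent.H25Theta (pb pT pC pI tI)

attribute [local instance] fibreOverField

variable {Y : Scheme.{u}}

theorem stalkIdeal_zeroIdeal (L : Y.Modules) (σ : Coh.structureModule Y ⟶ L) (hL : PicF.IsInvertible L) (y : Y) :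
    IntMult.stalkIdeal (zeroIdeal L σ hL) y = zeroGerm L σ y := by
  obtain ⟨V, hV, hyV, -, e, c, he, hc⟩ := exists_section_coeff L σ hL ⊤ y trivial
  rw [H27CurveDiv.stalkIdeal_eq _ y ⟨V, hV⟩ hyV, zeroIdeal_ideal L σ hL hV he hc, Ideal.map_span,
    Set.image_singleton, zeroGerm_eq_span L σ (he y hyV) (hc y hyV)]

theorem zeroGerm_homOfGlobal_eq_top {L : Y.Modules} (g : Γ(L, ⊤)) {y : Y} (hy : y ∈ genAt L g) :
    zeroGerm L (H11Tilde.homOfGlobal L g) y = ⊤ := by
  obtain ⟨hy', hb⟩ := hy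
  rw [zeroGerm_eq_span L _ hb (c := 1) (by rw [one_smul, sGerm, H11Ample.val_homOfGlobal]), Ideal.span_singleton_one]

theorem mem_genAt_of_zeroGerm_eq_top {L : Y.Modules} (hL : PicF.IsInvertible L)
    (σ : Coh.structureModule Y ⟶ L) (V : Y.Opens) {y : Y} (hy : y ∈ V) (h : zeroGerm L σ y = ⊤) :
    y ∈ genAt L (SecTwist.val σ V : Γ(L, V)) := by
  obtain ⟨W, hW, hyW, -, e, c, he, hc⟩ := exists_section_coeff L σ hL ⊤ y trivial
  rw [zeroGerm_eq_span L σ (he y hyW) (hc y hyW), Ideal.span_singleton_eq_top] at h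
  refine ⟨hy, ?_⟩
  rw [germ_val, hc y hyW]
  obtain ⟨v, hv⟩ := h
  constructor
  · intro a b hab
    simp only [smul_smul] at hab
    exact v.isUnit.mul_right_cancel ((he y hyW).1 (hv ▸ hab))
  · intro m
    obtain ⟨r, hr⟩ := (he y hyW).2 m
    refine ⟨r * ↑v⁻¹, ?_⟩
    simp only [smul_smul, ← hv, mul_assoc, Units.inv_mul, mul_one]
    exact hr

variable {T : Scheme.{u}} (π : Y ⟶ T) [IsProper π]

/-- The fibre of a section nonzero on every fibre is an effective Cartier divisor. -/
theorem isEffCartier_fibre_zeroIdeal (hint : ∀ t : T, IsIntegral (π.fiber t)) {L : Y.Modules}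
    (hL : PicF.IsInvertible L) (σ : Coh.structureModule Y ⟶ L)
    (hσ : ∀ t : T, ∃ y : Y, π y = t ∧ zeroGerm L σ y = ⊤) (t : T) :
    BlowUp.IsEffCartierIdeal ((zeroIdeal L σ hL).comap (π.fiberι t)) := by
  obtain ⟨y, hyt, hy⟩ := hσ t
  obtain ⟨y', rfl⟩ : y ∈ Set.range (π.fiberι t) := (π.range_fiberι t).ge hyt
  haveI := hint t
  exact isEffCartierIdeal_comap_zeroIdeal (π.fiberι t) L σ hL y' hy

variable {L : Y.Modules} (hL : PicF.IsInvertible L)

include hL in
/-- A section of a good module, nonzero on every fibre, cuts out a finite locally free divisor whose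
ideal is inverse to the module. -/
theorem exists_divisor_of_section [SmoothOfRelativeDimension 1 π]
    (hint : ∀ t : T, IsIntegral (π.fiber t)) (hdim : ∀ t : T, topologicalKrullDim (π.fiber t) ≤ 1) (γ : ℕ)
    (hO : ∀ t : T, CohIII.fiberRank π (Coh.structureModule Y) 0 t = 1 ∧
      CohIII.fiberRank π (Coh.structureModule Y) 1 t = γ)
    (hg : IsGood π L) (σ : Coh.structureModule Y ⟶ L)
    (hσ : ∀ t : T, ∃ y : Y, π y = t ∧ zeroGerm L σ y = ⊤) :
    ∃ I : Y.IdealSheafData, Mor2.IsFinLocFreeOfDeg γ (I.subschemeι ≫ π) ∧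
      Nonempty (CohB1.tensorMod (ClSub.idealMod I) L ≅ Coh.structureModule Y) := by
  haveI : Smooth π := SmoothOfRelativeDimension.smooth 1 π
  let I := zeroIdeal L σ hL
  have hfib := isEffCartier_fibre_zeroIdeal π hint hL σ hσ
  obtain ⟨hI, hfl⟩ := H29Slice.isEffCartier_and_flat_of_fibres π I (fun x _ => by
    obtain ⟨V, hV, hxV, -, e, c, he, hc⟩ := exists_section_coeff L σ hL ⊤ x trivial
    exact ⟨⟨V, hV⟩, hxV, c, zeroIdeal_ideal L σ hL hV he hc⟩) hfib
  obtain ⟨hq, -, hlfp⟩ := (H27CurveDiv.cartier_iff π I).1 ⟨hI, hfl⟩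
  haveI := hq; haveI := hfl; haveI := hlfp
  haveI : IsFinite (I.subschemeι ≫ π) := IsFinite.of_isProper_of_locallyQuasiFinite _
  have hIinv := H29Blow.isInvertible_of_isEffCartierIdeal I hI
  obtain ⟨M, hM, ⟨eM⟩⟩ := H11Sym.exists_inverse hIinv
  obtain ⟨τ, hτ, hτr⟩ := exists_section_of_cartier I hI M hM (H10Coh.Tw.commIso _ _ ≪≫ eM)
  obtain ⟨e⟩ := nonempty_iso_of_zeroGerm_eq hM hL hτr (isRegularSection_of_cartier L σ hL hI) fun y => by
    rw [← stalkIdeal_zeroIdeal M τ hM, ← stalkIdeal_zeroIdeal L σ hL, hτ]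
  let eL : CohB1.tensorMod (ClSub.idealMod I) L ≅ Coh.structureModule Y :=
    tI (Iso.refl _) e.symm ≪≫ H10Coh.Tw.commIso _ _ ≪≫ eM
  refine ⟨I, ⟨⟨inferInstance, hfl, hlfp⟩, fun t => ?_⟩, ⟨eL⟩⟩
  let F := π.fiber t
  let J := I.comap (π.fiberι t)
  have hsq : IsPullback (π.fiberι t) (F ↘ Spec (CommRingCat.of (T.residueField t))) π
      (T.fromSpecResidueField t) := IsPullback.of_hasPullback π (T.fromSpecResidueField t)
  haveI : IsProper (F ↘ Spec (CommRingCat.of (T.residueField t))) := MorphismProperty.of_isPullback hsq inferInstance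
  haveI := hint t
  obtain ⟨q, hq'⟩ := H27CurveDiv.isPullback_fibre π I t
  haveI : IsFinite (J.subschemeι ≫ (F ↘ Spec (CommRingCat.of (T.residueField t)))) :=
    MorphismProperty.of_isPullback hq' inferInstance
  have hr := Scheme.Hom.finrank_of_isPullback _ _ _ _ hq' (IsLocalRing.closedPoint (T.residueField t))
  rw [Scheme.fromSpecResidueField_apply] at hr
  have hJinv := H29Blow.isInvertible_of_isEffCartierIdeal J (hfib t)
  have hd := finrank_subscheme_eq_euler (K := T.residueField t) (Y := F) J hJinv (IsLocalRing.closedPoint (T.residueField t))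
  obtain ⟨eJ⟩ := H12Pic.CurveFam.nonempty_pullback_idealMod_comap (π.fiberι t) hI (hfib t)
  let G := Scheme.Modules.pullback (π.fiberι t)
  have hLt := H11Ample.isInvertible_pullback (π.fiberι t) hL
  have hdeg := H29RR.deg_congr (k := T.residueField t)
    (tI eJ.symm (Iso.refl (G.obj L)) ≪≫ (pT (π.fiberι t) _ L).symm ≪≫ G.mapIso eL ≪≫
      H16Derived.KFlat.Stalk.structurePullbackIso (π.fiberι t))
  rw [H29RR.deg_structureModule, H29RR.deg_tensor (k := T.residueField t) (hdim t) hJinv hLt,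
    H29RR.deg_def (k := T.residueField t) (ClSub.idealMod J),
    H29RR.deg_def (k := T.residueField t) (G.obj L)] at hdeg
  have hLeuler : Curv2.euler (T.residueField t) F (G.obj L) = 1 := by
    rw [H29RR.euler_eq_sub (k := T.residueField t) (hdim t)]
    show ((CohIII.fiberRank π L 0 t : ℤ) - (CohIII.fiberRank π L 1 t : ℤ)) = 1
    rw [(hg t).1, (hg t).2]; rfl
  have hOeuler : Curv2.euler (T.residueField t) F (Coh.structureModule F) = 1 - (γ : ℤ) := by
    rw [← H25Euler.euler_congr (H16Derived.KFlat.Stalk.structurePullbackIso (π.fiberι t)),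
      H29RR.euler_eq_sub (k := T.residueField t) (hdim t)]
    show ((CohIII.fiberRank π _ 0 t : ℤ) - (CohIII.fiberRank π _ 1 t : ℤ)) = _
    rw [(hO t).1, (hO t).2]; rfl
  change (J.subschemeι ≫ (F ↘ Spec (CommRingCat.of (T.residueField t)))).finrank _ = (I.subschemeι ≫ π).finrank t at hr
  dsimp only [F] at hd hLeuler hOeuler hr
  omega

include hL in
/-- The relative divisors inverse to a good module coincide. -/
theorem divisor_unique [Flat π] [LocallyOfFinitePresentation π] (hint : ∀ t : T, IsIntegral (π.fiber t))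
    (hg : IsGood π L) {I I' : Y.IdealSheafData} (hI : BlowUp.IsEffCartierIdeal I)
    (hI' : BlowUp.IsEffCartierIdeal I') (hIt : ∀ t, BlowUp.IsEffCartierIdeal (I.comap (π.fiberι t)))
    (hIt' : ∀ t, BlowUp.IsEffCartierIdeal (I'.comap (π.fiberι t)))
    (e : CohB1.tensorMod (ClSub.idealMod I) L ≅ Coh.structureModule Y)
    (e' : CohB1.tensorMod (ClSub.idealMod I') L ≅ Coh.structureModule Y) : I = I' := by
  obtain ⟨σ, rfl, -⟩ := exists_section_of_cartier I hI L hL e
  obtain ⟨σ', rfl, -⟩ := exists_section_of_cartier I' hI' L hL e'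
  have hgen : ∀ (τ : Coh.structureModule Y ⟶ L),
      (∀ t, BlowUp.IsEffCartierIdeal ((zeroIdeal L τ hL).comap (π.fiberι t))) →
      ∀ (W : T.Opens) z, z ∈ W → ∃ y ∈ genAt L (SecTwist.val τ (π ⁻¹ᵁ W) : Γ(L, π ⁻¹ᵁ W)), π y = z := by
    intro τ hτ W z hz
    haveI := hint z
    let η := genericPoint (π.fiber z)
    have hy : π (π.fiberι z η) = z := (π.range_fiberι z).le ⟨_, rfl⟩
    refine ⟨π.fiberι z η, mem_genAt_of_zeroGerm_eq_top hL τ _ (show π (π.fiberι z η) ∈ W by rw [hy]; exact hz) ?_, hy⟩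
    by_contra hne
    obtain ⟨U, hηU, a, ha, hUa⟩ := hτ z η
    have hmem : η ∈ ((zeroIdeal L τ hL).comap (π.fiberι z)).support := by
      rw [Scheme.IdealSheafData.support_comap]
      exact (zeroIdeal_support L τ hL _).2 hne
    have h1 := H27CurveDiv.stalkIdeal_eq ((zeroIdeal L τ hL).comap (π.fiberι z)) η U hηU
    rw [hUa, Ideal.map_span, Set.image_singleton] at h1
    have hne0 : (π.fiber z).presheaf.germ U.1 η hηU a ≠ 0 :=
      nonZeroDivisors.ne_zero (H17.KoszTwist.germ_mem_nonZeroDivisors ha hηU)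
    have htop : IntMult.stalkIdeal ((zeroIdeal L τ hL).comap (π.fiberι z)) η = ⊤ := by
      rw [h1, Ideal.span_singleton_eq_top]
      exact isUnit_iff_ne_zero.2 hne0
    obtain ⟨d, hd⟩ := H3CAlg.IntLocal.exists_point _ hmem
    rw [← hd, H3CAlg.IntLocal.stalkIdeal_eq_ker] at htop
    exact one_ne_zero (α := (((zeroIdeal L τ hL).comap (π.fiberι z)).subscheme.presheaf.stalk d))
      ((map_one _).symm.trans (RingHom.mem_ker.1 ((Ideal.eq_top_iff_one _).1 htop)))
  have hz : ∀ y, zeroGerm L σ y = zeroGerm L σ' y := by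
    intro y
    obtain ⟨W, hW, hyW, he, -⟩ := exists_nhd_of_fiberRank_one_eq_zero π hL (hg (π y)).2
    obtain ⟨-, hspan⟩ := good_sections π hint hL hg hW he
    obtain ⟨a, ha⟩ := hspan _ (fun z hz => hgen σ hIt W z hz) (SecTwist.val σ' (π ⁻¹ᵁ W))
    obtain ⟨b, hb⟩ := hspan _ (fun z hz => hgen σ' hIt' W z hz) (SecTwist.val σ (π ⁻¹ᵁ W))
    have hy : y ∈ π ⁻¹ᵁ W := hyW
    have ha' := congrArg (L.presheaf.germ (π ⁻¹ᵁ W) y hy) ha
    have hb' := congrArg (L.presheaf.germ (π ⁻¹ᵁ W) y hy) hb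
    rw [Mero.germ_smul, germ_val, germ_val] at ha' hb'
    rw [zeroGerm, zeroGerm]
    congr 1
    exact le_antisymm (Submodule.span_le.2 (Set.singleton_subset_iff.2 (Submodule.mem_span_singleton.2 ⟨_, hb'.symm⟩)))
      (Submodule.span_le.2 (Set.singleton_subset_iff.2 (Submodule.mem_span_singleton.2 ⟨_, ha'.symm⟩)))
  unfold zeroIdeal
  congr 1
  exact funext hz

end Groth.Agent.H12Pic.PicCurve
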