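import Groth.Agent.H12Pic.PicCurve.ValUnits
import Groth.Agent.H05EGA4.NormalAscent
import Groth.Agent.H05EGA4.Regular
import Groth.Agent.H7Flat.LineCocycle
import Groth.Agent.H12Pic.PicCurve.SqZeroPic
import Groth.Agent.H11Proj.VeryAmpleOn
import Groth.Agent.H29RR.CurveIntegral
import Groth.Agent.H25Theta.Basic
import Groth.Agent.H11Tilde.ProjUP
import Groth.Agent.H11Tilde.ProjUPUnique
import Groth.Agent.H28Mero.Gen

/-!
# Invertible modules extend from the generic fibre of a smooth proper scheme over a valuation ring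
-/

set_option autoImplicit false
set_option linter.style.haveILetI false
set_option linter.unusedSectionVars false
set_option maxHeartbeats 1600000
set_option backward.isDefEq.respectTransparency.types false

noncomputable section

universe u

open CategoryTheory CategoryTheory.Limits AlgebraicGeometry TopologicalSpace Opposite
open scoped nonZeroDivisors

namespace Groth.Agent.H12Pic.PicCurve.ValExtend

open Groth.Agent.H11Tilde Groth.Agent.H7Flat
open Groth.Agent.H25Theta (pb pC pI)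

variable {V : Type u} [CommRing V] [IsDomain V] [ValuationRing V] {X : Scheme.{u}}
  [X.Over (Spec (CommRingCat.of V))]

/-- The inclusion of the generic point of the base. -/
abbrev genPt (V : Type u) [CommRing V] [IsDomain V] :
    Spec (CommRingCat.of (FractionRing V)) ⟶ Spec (CommRingCat.of V) :=
  Spec.map (CommRingCat.ofHom (algebraMap V (FractionRing V)))

/-- The generic fibre. -/
abbrev genFib {V : Type u} [CommRing V] [IsDomain V] {X : Scheme.{u}}
    (f : X ⟶ Spec (CommRingCat.of V)) : Scheme.{u} := pullback f (genPt V)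

/-- The map of the generic fibre to the scheme. -/
abbrev genMap {V : Type u} [CommRing V] [IsDomain V] {X : Scheme.{u}}
    (f : X ⟶ Spec (CommRingCat.of V)) : genFib f ⟶ X := pullback.fst f (genPt V)

instance isAffineHom_genMap {V : Type u} [CommRing V] [IsDomain V] {X : Scheme.{u}}
    (f : X ⟶ Spec (CommRingCat.of V)) : IsAffineHom (genMap f) :=
  MorphismProperty.pullback_fst (P := @IsAffineHom) _ _ inferInstance

/-- The scalars of the base on the sections over an open. -/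
@[instance_reducible]
def algV (W : X.Opens) : Algebra V Γ(X, W) :=
  (((X ↘ Spec (CommRingCat.of V)).appLE ⊤ W le_top).hom.comp (Scheme.ΓSpecIso (CommRingCat.of V)).inv.hom).toAlgebra

/-- The restriction to the generic fibre on the sections over an open. -/
@[instance_reducible]
def algK (W : X.Opens) : Algebra Γ(X, W) Γ(genFib (X ↘ Spec (CommRingCat.of V)), genMap (X ↘ Spec (CommRingCat.of V)) ⁻¹ᵁ W) :=
  ((genMap (X ↘ Spec (CommRingCat.of V))).app W).hom.toAlgebra

attribute [local instance] algV algK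


/-- The scalars of the base on the sections over an open of the generic fibre. -/
@[instance_reducible]
def algVK (W : X.Opens) : Algebra V Γ(genFib (X ↘ Spec (CommRingCat.of V)), genMap (X ↘ Spec (CommRingCat.of V)) ⁻¹ᵁ W) :=
  ((algebraMap Γ(X, W) Γ(genFib (X ↘ Spec (CommRingCat.of V)), genMap (X ↘ Spec (CommRingCat.of V)) ⁻¹ᵁ W)).comp (algebraMap V Γ(X, W))).toAlgebra

attribute [local instance] algVK

instance tower (W : X.Opens) : IsScalarTower V Γ(X, W) Γ(genFib (X ↘ Spec (CommRingCat.of V)), genMap (X ↘ Spec (CommRingCat.of V)) ⁻¹ᵁ W) :=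
  IsScalarTower.of_algebraMap_eq fun _ => rfl

section Smooth

variable [Smooth (X ↘ Spec (CommRingCat.of V))] {W : X.Opens} (hW : IsAffineOpen W)

include hW in
theorem smooth_algV : Algebra.Smooth V Γ(X, W) := by
  have h := HasRingHomProperty.appLE (P := @Smooth) (X ↘ Spec (CommRingCat.of V)) inferInstance
    ⟨⊤, isAffineOpen_top _⟩ ⟨W, hW⟩ (le_top : W ≤ (X ↘ Spec (CommRingCat.of V)) ⁻¹ᵁ ⊤)
  have h2 : (algebraMap V Γ(X, W)).Smooth :=
    RingHom.Smooth.respectsIso.2 ((X ↘ Spec (CommRingCat.of V)).appLE ⊤ W le_top).hom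
      (Scheme.ΓSpecIso (CommRingCat.of V)).commRingCatIsoToRingEquiv.symm h
  exact RingHom.smooth_algebraMap.1 h2

include hW in
theorem flat_algV : Module.Flat V Γ(X, W) := by
  have h := HasRingHomProperty.appLE (P := @Flat) (X ↘ Spec (CommRingCat.of V)) inferInstance
    ⟨⊤, isAffineOpen_top _⟩ ⟨W, hW⟩ (le_top : W ≤ (X ↘ Spec (CommRingCat.of V)) ⁻¹ᵁ ⊤)
  have h2 : (algebraMap V Γ(X, W)).Flat :=
    RingHom.Flat.respectsIso.2 ((X ↘ Spec (CommRingCat.of V)).appLE ⊤ W le_top).hom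
      (Scheme.ΓSpecIso (CommRingCat.of V)).commRingCatIsoToRingEquiv.symm h
  exact RingHom.flat_algebraMap_iff.1 h2

include hW in
theorem ess_algV : Algebra.EssFiniteType V Γ(X, W) := by
  haveI := smooth_algV (V := V) hW
  infer_instance

include hW in
/-- The sections on the generic fibre are the localisation at the nonzero scalars. -/
theorem isLocalization_algK :
    IsLocalization (Algebra.algebraMapSubmonoid Γ(X, W) V⁰) Γ(genFib (X ↘ Spec (CommRingCat.of V)), genMap (X ↘ Spec (CommRingCat.of V)) ⁻¹ᵁ W) := by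
  have H := (IsPullback.of_hasPullback (X ↘ Spec (CommRingCat.of V)) (genPt V))
  have hp := (isIso_pushoutSection_iff H (US := ⊤) (UT := ⊤) (UX := W) (UY := genMap (X ↘ Spec (CommRingCat.of V)) ⁻¹ᵁ W)
    le_top le_top (by simp)).1 (isIso_pushoutSection_of_isAffineOpen H le_top le_top (by simp)
      (isAffineOpen_top _) (isAffineOpen_top _) hW)
  let eV := (Scheme.ΓSpecIso (CommRingCat.of V)).symm
  let eK := (Scheme.ΓSpecIso (CommRingCat.of (FractionRing V))).symm
  let Fk : FractionRing V →+* Γ(genFib (X ↘ Spec (CommRingCat.of V)), genMap (X ↘ Spec (CommRingCat.of V)) ⁻¹ᵁ W) :=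
    ((pullback.snd (X ↘ Spec (CommRingCat.of V)) (genPt V)).appLE ⊤ (genMap (X ↘ Spec (CommRingCat.of V)) ⁻¹ᵁ W) le_top).hom.comp eK.hom.hom
  letI : Algebra (FractionRing V) Γ(genFib (X ↘ Spec (CommRingCat.of V)), genMap (X ↘ Spec (CommRingCat.of V)) ⁻¹ᵁ W) := Fk.toAlgebra
  have hsq : CommRingCat.ofHom (algebraMap V (FractionRing V)) ≫ eK.hom =
      eV.hom ≫ (genPt V).appLE ⊤ ⊤ le_top := by
    show _ = eV.hom ≫ _
    rw [show (genPt V).appLE ⊤ ⊤ le_top = (genPt V).appTop by simp [Scheme.Hom.appLE]]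
    exact (Scheme.ΓSpecIso_inv_naturality (CommRingCat.ofHom (algebraMap V (FractionRing V)))).symm ▸ rfl
  have hp' : IsPushout (CommRingCat.ofHom (algebraMap V Γ(X, W)))
      (CommRingCat.ofHom (algebraMap V (FractionRing V)))
      (CommRingCat.ofHom (algebraMap Γ(X, W) Γ(genFib (X ↘ Spec (CommRingCat.of V)), genMap (X ↘ Spec (CommRingCat.of V)) ⁻¹ᵁ W))) (CommRingCat.ofHom Fk) := by
    refine hp.of_iso eV.symm (Iso.refl _) eK.symm (Iso.refl _) ?_ ?_ ?_ ?_
    · rw [Iso.refl_hom, Category.comp_id, Iso.symm_hom, Iso.eq_inv_comp]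
      rfl
    · rw [Iso.symm_hom, Iso.symm_hom, Iso.comp_inv_eq, Category.assoc, hsq, Iso.inv_hom_id_assoc]
    · rw [Iso.refl_hom, Iso.refl_hom, Category.id_comp, Category.comp_id]
      exact ((genMap (X ↘ Spec (CommRingCat.of V))).appLE_eq_app).trans rfl
    · rw [Iso.refl_hom, Category.comp_id, Iso.symm_hom, Iso.eq_inv_comp]
      rfl
  haveI : IsScalarTower V (FractionRing V) Γ(genFib (X ↘ Spec (CommRingCat.of V)), genMap (X ↘ Spec (CommRingCat.of V)) ⁻¹ᵁ W) :=
    IsScalarTower.of_algebraMap_eq fun v => ConcreteCategory.congr_hom hp'.w v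
  haveI : Algebra.IsPushout V Γ(X, W) (FractionRing V) Γ(genFib (X ↘ Spec (CommRingCat.of V)), genMap (X ↘ Spec (CommRingCat.of V)) ⁻¹ᵁ W) :=
    CommRingCat.isPushout_iff_isPushout.1 hp'
  haveI : Algebra.IsPushout V (FractionRing V) Γ(X, W) Γ(genFib (X ↘ Spec (CommRingCat.of V)), genMap (X ↘ Spec (CommRingCat.of V)) ⁻¹ᵁ W) := Algebra.IsPushout.symm ‹_›
  exact (Algebra.isLocalization_iff_isPushout (S := V⁰) (A := FractionRing V)).2 inferInstance

include hW in
theorem isNoetherian_algK : IsNoetherianRing Γ(genFib (X ↘ Spec (CommRingCat.of V)), genMap (X ↘ Spec (CommRingCat.of V)) ⁻¹ᵁ W) := by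
  haveI : IsLocallyNoetherian (genFib (X ↘ Spec (CommRingCat.of V))) := by
    haveI : LocallyOfFiniteType (pullback.snd (X ↘ Spec (CommRingCat.of V)) (genPt V)) :=
      MorphismProperty.pullback_snd _ _ inferInstance
    exact LocallyOfFiniteType.isLocallyNoetherian (pullback.snd (X ↘ Spec (CommRingCat.of V)) (genPt V))
  exact IsLocallyNoetherian.component_noetherian ⟨_, hW.preimage _⟩

include hW in
theorem isPrime_fibre (q : Ideal Γ(X, W)) [q.IsPrime] :
    (((q.comap (algebraMap V Γ(X, W))).map (algebraMap V Γ(X, W))).map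
      (algebraMap Γ(X, W) (Localization.AtPrime q))).IsPrime := by
  haveI := smooth_algV (V := V) hW
  haveI h : IsRegularLocalRing (EGA4.FibLocRing V Γ(X, W) q) :=
    H05EGA4.isRegularLocalRing_fibLocRing_of_smooth V Γ(X, W) q
  haveI : IsDomain (EGA4.FibLocRing V Γ(X, W) q) := H4Depth.isDomain_of_isRegularLocalRing _
  rw [Ideal.map_map, ← IsScalarTower.algebraMap_eq]
  exact (Ideal.Quotient.isDomain_iff_prime _).1 (inferInstanceAs (IsDomain (EGA4.FibLocRing V Γ(X, W) q)))

include hW in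
theorem isRegular_fibre (q : Ideal Γ(X, W)) [q.IsPrime]
    (hq : q.comap (algebraMap V Γ(X, W)) = IsLocalRing.maximalIdeal V) :
    IsRegularRing (TensorProduct V (IsLocalRing.ResidueField V) (Localization.AtPrime q)) := by
  haveI := smooth_algV (V := V) hW
  haveI h : IsRegularLocalRing (EGA4.FibLocRing V Γ(X, W) q) :=
    H05EGA4.isRegularLocalRing_fibLocRing_of_smooth V Γ(X, W) q
  haveI : IsRegularRing (Localization.AtPrime q ⧸ (IsLocalRing.maximalIdeal V).map (algebraMap V (Localization.AtPrime q))) := by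
    rw [← hq]
    exact H05EGA4.isRegularRing_of_isRegularLocalRing (EGA4.FibLocRing V Γ(X, W) q)
  exact IsRegularRing.of_ringEquiv ((Algebra.TensorProduct.quotIdealMapEquivTensorQuot (Localization.AtPrime q)
    (IsLocalRing.maximalIdeal V)).toRingEquiv.trans
      (Algebra.TensorProduct.comm V (Localization.AtPrime q) (IsLocalRing.ResidueField V)).toRingEquiv)

end Smooth

variable [IsProper (X ↘ Spec (CommRingCat.of V))] [Smooth (X ↘ Spec (CommRingCat.of V))] [GeometricallyConnected (X ↘ Spec (CommRingCat.of V))]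

/-- The generic point of the closed fibre. -/
theorem exists_generic : ∃ ξ : X, (X ↘ Spec (CommRingCat.of V)) ξ = IsLocalRing.closedPoint V ∧
    (∀ z : X, (X ↘ Spec (CommRingCat.of V)) z = IsLocalRing.closedPoint V → ξ ⤳ z) ∧
    (∀ t : Spec (CommRingCat.of V), ∃ η : X, (X ↘ Spec (CommRingCat.of V)) η = t ∧ η ⤳ ξ ∧ ∀ z : X, (X ↘ Spec (CommRingCat.of V)) z = t → η ⤳ z) ∧
    ∀ x : X, ∃ y, x ⤳ y ∧ (X ↘ Spec (CommRingCat.of V)) y = IsLocalRing.closedPoint V := by
  have hgen : ∀ t : Spec (CommRingCat.of V), ∃ η : X, (X ↘ Spec (CommRingCat.of V)) η = t ∧ ∀ z : X, (X ↘ Spec (CommRingCat.of V)) z = t → η ⤳ z := fun t => by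
    letI : ((X ↘ Spec (CommRingCat.of V)).fiber t).Over (Spec (CommRingCat.of ((Spec (CommRingCat.of V)).residueField t))) :=
      ⟨(X ↘ Spec (CommRingCat.of V)).fiberToSpecResidueField t⟩
    have hsq := IsPullback.of_hasPullback (X ↘ Spec (CommRingCat.of V)) ((Spec (CommRingCat.of V)).fromSpecResidueField t)
    haveI : IsProper ((X ↘ Spec (CommRingCat.of V)).fiber t ↘ Spec (CommRingCat.of ((Spec (CommRingCat.of V)).residueField t))) :=
      MorphismProperty.of_isPullback hsq inferInstance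
    haveI : Smooth ((X ↘ Spec (CommRingCat.of V)).fiber t ↘ Spec (CommRingCat.of ((Spec (CommRingCat.of V)).residueField t))) :=
      MorphismProperty.of_isPullback hsq inferInstance
    haveI : GeometricallyConnected ((X ↘ Spec (CommRingCat.of V)).fiber t ↘ Spec (CommRingCat.of ((Spec (CommRingCat.of V)).residueField t))) :=
      MorphismProperty.of_isPullback hsq inferInstance
    haveI := H29RR.isIntegral_of_geomConnected ((Spec (CommRingCat.of V)).residueField t) ((X ↘ Spec (CommRingCat.of V)).fiber t)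
    refine ⟨(X ↘ Spec (CommRingCat.of V)).fiberι t (genericPoint ((X ↘ Spec (CommRingCat.of V)).fiber t)), ?_, fun z hz => ?_⟩
    · exact ((X ↘ Spec (CommRingCat.of V)).range_fiberι t).subset (Set.mem_range_self _)
    · obtain ⟨z', rfl⟩ := ((X ↘ Spec (CommRingCat.of V)).range_fiberι t).symm.subset hz
      exact (genericPoint_specializes z').map ((X ↘ Spec (CommRingCat.of V)).fiberι t).continuous
  obtain ⟨ξ, hξ, hξgen⟩ := hgen (IsLocalRing.closedPoint V)
  refine ⟨ξ, hξ, hξgen, fun t => ?_, fun x => ?_⟩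
  · obtain ⟨η, hη, hηgen⟩ := hgen t
    obtain ⟨z, hzξ, hzt⟩ := Flat.generalizingMap (X ↘ Spec (CommRingCat.of V)) (show t ⤳ (X ↘ Spec (CommRingCat.of V)) ξ from hξ ▸ IsLocalRing.specializes_closedPoint t)
    exact ⟨η, hη, (hηgen z hzt).trans hzξ, hηgen⟩
  · obtain ⟨y, hxy, hy⟩ := (X ↘ Spec (CommRingCat.of V)).isClosedMap.specializingMap (IsLocalRing.specializes_closedPoint ((X ↘ Spec (CommRingCat.of V)) x))
    exact ⟨y, hxy, hy⟩


theorem comap_primeIdealOf {W : X.Opens} (hW : IsAffineOpen W) (z : W) :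
    (hW.primeIdealOf z).asIdeal.comap (algebraMap V Γ(X, W)) = (show PrimeSpectrum V from (X ↘ Spec (CommRingCat.of V)) z).asIdeal := by
  have h1 : Spec.map (CommRingCat.ofHom (algebraMap V Γ(X, W))) (hW.primeIdealOf z) = (X ↘ Spec (CommRingCat.of V)) z := by
    have h2 : hW.fromSpec ≫ (X ↘ Spec (CommRingCat.of V)) = Spec.map (CommRingCat.ofHom (algebraMap V Γ(X, W))) := by
      rw [← IsAffineOpen.SpecMap_appLE_fromSpec (X ↘ Spec (CommRingCat.of V)) (isAffineOpen_top _) hW le_top,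
        IsAffineOpen.fromSpec_top, Scheme.isoSpec_Spec_inv, ← Spec.map_comp]
      rfl
    rw [← h2, Scheme.Hom.comp_apply, hW.fromSpec_primeIdealOf]
  rw [← h1]
  rfl

/-- A unit on the generic fibre which near the generic point of the closed fibre comes from a unit. -/
theorem exists_unit {ξ : X} (hξ : ∀ t : Spec (CommRingCat.of V), ∃ η : X, (X ↘ Spec (CommRingCat.of V)) η = t ∧ η ⤳ ξ ∧ ∀ z : X, (X ↘ Spec (CommRingCat.of V)) z = t → η ⤳ z)
    {W : X.Opens} (hW : IsAffineOpen W) (hξW : ξ ∈ W) {w : Γ(genFib (X ↘ Spec (CommRingCat.of V)), genMap (X ↘ Spec (CommRingCat.of V)) ⁻¹ᵁ W)} (hw : IsUnit w)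
    (T : X.Opens) (hTW : T ≤ W) (hξT : ξ ∈ T) (u₀ : Γ(X, T)) (hu₀ : IsUnit u₀)
    (hu : (genMap (X ↘ Spec (CommRingCat.of V))).app T u₀ = LineCocycle.rr ((genMap (X ↘ Spec (CommRingCat.of V))).preimage_mono hTW) w) :
    ∃ u : Γ(X, W), IsUnit u ∧ (genMap (X ↘ Spec (CommRingCat.of V))).app W u = w := by
  haveI := smooth_algV (V := V) hW
  haveI := flat_algV (V := V) hW
  haveI := ess_algV (V := V) hW
  haveI := isLocalization_algK (V := V) hW
  obtain ⟨s, hsT, hξs⟩ := hW.exists_basicOpen_le ⟨ξ, hξT⟩ hξW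
  haveI := hW.isLocalization_basicOpen s
  obtain ⟨⟨a, ⟨_, n, rfl⟩⟩, ha⟩ := IsLocalization.surj (Submonoid.powers s) (LineCocycle.rr hsT u₀)
  change LineCocycle.rr hsT u₀ * LineCocycle.rr (X.basicOpen_le s) (s ^ n) = LineCocycle.rr (X.basicOpen_le s) a at ha
  let C := Γ(genFib (X ↘ Spec (CommRingCat.of V)), genMap (X ↘ Spec (CommRingCat.of V)) ⁻¹ᵁ W)
  let φ : Γ(X, W) →+* C := ((genMap (X ↘ Spec (CommRingCat.of V))).app W).hom
  have nat : ∀ {A B : X.Opens} (h : B ≤ A) (z : Γ(X, A)), (genMap (X ↘ Spec (CommRingCat.of V))).app B (LineCocycle.rr h z) =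
      LineCocycle.rr ((genMap (X ↘ Spec (CommRingCat.of V))).preimage_mono h) ((genMap (X ↘ Spec (CommRingCat.of V))).app A z) := fun {A B} h z =>
    ConcreteCategory.congr_hom ((genMap (X ↘ Spec (CommRingCat.of V))).naturality (homOfLE h).op) z
  have hpre : genMap (X ↘ Spec (CommRingCat.of V)) ⁻¹ᵁ X.basicOpen s = (genFib (X ↘ Spec (CommRingCat.of V))).basicOpen (φ s) := Scheme.preimage_basicOpen _ s
  haveI := (hW.preimage (genMap (X ↘ Spec (CommRingCat.of V)))).isLocalization_basicOpen (φ s)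
  have hle : genMap (X ↘ Spec (CommRingCat.of V)) ⁻¹ᵁ X.basicOpen s ≤ genMap (X ↘ Spec (CommRingCat.of V)) ⁻¹ᵁ W := (genMap (X ↘ Spec (CommRingCat.of V))).preimage_mono (X.basicOpen_le s)
  have h1 : LineCocycle.rr hle (w * φ (s ^ n) - φ a) = 0 := by
    rw [map_sub, map_mul, sub_eq_zero]
    have e := congrArg ((genMap (X ↘ Spec (CommRingCat.of V))).app (X.basicOpen s)) ha
    rw [map_mul, nat, nat, nat, hu, LineCocycle.rr_rr] at e
    exact e
  obtain ⟨⟨_, m, rfl⟩, hm⟩ : ∃ y : Submonoid.powers (φ s), (y : C) * (w * φ (s ^ n) - φ a) = 0 := by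
    refine (IsLocalization.map_eq_zero_iff (Submonoid.powers (φ s)) Γ(genFib (X ↘ Spec (CommRingCat.of V)), (genFib (X ↘ Spec (CommRingCat.of V))).basicOpen (φ s)) _).1 ?_
    have h2 := congrArg (LineCocycle.rr hpre.ge) h1
    rw [map_zero, LineCocycle.rr_rr] at h2
    exact h2
  let q := (hW.primeIdealOf ⟨ξ, hξW⟩).asIdeal
  have hmem : ∀ b : Γ(X, W), b ∈ q ↔ ξ ∉ X.basicOpen b := fun b => by
    have h : hW.primeIdealOf ⟨ξ, hξW⟩ ∈ hW.fromSpec ⁻¹ᵁ X.basicOpen b ↔ ξ ∈ X.basicOpen b := by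
      show hW.fromSpec (hW.primeIdealOf ⟨ξ, hξW⟩) ∈ X.basicOpen b ↔ _
      rw [hW.fromSpec_primeIdealOf]
    rw [hW.fromSpec_preimage_basicOpen] at h
    rw [← h]
    exact not_not.symm
  have hs : s ∉ q := fun h => (hmem s).1 h hξs
  have ha' : a ∉ q := fun h => by
    have hb : IsUnit (LineCocycle.rr (X.basicOpen_le s) a) := by
      rw [← ha]
      refine (hu₀.map (LineCocycle.rr hsT)).mul (IsLocalization.map_units (M := Submonoid.powers s) Γ(X, X.basicOpen s) ⟨s ^ n, n, rfl⟩)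
    refine (hmem a).1 h ?_
    have := (Scheme.basicOpen_res X a (homOfLE (X.basicOpen_le s)).op).le
    rw [X.basicOpen_of_isUnit hb] at this
    exact (this hξs).2
  have hgen : ∀ p : Ideal Γ(X, W), p.IsPrime → ∃ η : Ideal Γ(X, W), η.IsPrime ∧ η ≤ p ∧ η ≤ q ∧
      η.comap (algebraMap V Γ(X, W)) = p.comap (algebraMap V Γ(X, W)) := by
    intro p hp
    obtain ⟨z, hz⟩ : ∃ z : W, hW.primeIdealOf z = ⟨p, hp⟩ :=
      ⟨⟨hW.fromSpec ⟨p, hp⟩, hW.range_fromSpec.le ⟨_, rfl⟩⟩, hW.fromSpec.isOpenEmbedding.injective (hW.fromSpec_primeIdealOf _)⟩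
    obtain ⟨η, hη, hηξ, hηz⟩ := hξ ((X ↘ Spec (CommRingCat.of V)) z)
    have hηW : η ∈ W := hηξ.mem_open W.isOpen hξW
    have le_of : ∀ {x : X} (hxW : x ∈ W), η ⤳ x →
        (hW.primeIdealOf ⟨η, hηW⟩).asIdeal ≤ (hW.primeIdealOf ⟨x, hxW⟩).asIdeal := fun {x} hxW h => by
      refine (PrimeSpectrum.le_iff_specializes _ _).2 ?_
      refine hW.fromSpec.isOpenEmbedding.isInducing.specializes_iff.1 ?_
      show hW.fromSpec _ ⤳ hW.fromSpec _
      rwa [hW.fromSpec_primeIdealOf, hW.fromSpec_primeIdealOf]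
    refine ⟨_, (hW.primeIdealOf ⟨η, hηW⟩).isPrime, ?_, le_of hξW hηξ, ?_⟩
    · rw [show p = (hW.primeIdealOf z).asIdeal from (congrArg PrimeSpectrum.asIdeal hz).symm]
      exact le_of z.2 (hηz z rfl)
    · rw [show p = (hW.primeIdealOf z).asIdeal from (congrArg PrimeSpectrum.asIdeal hz).symm,
        comap_primeIdealOf hW, comap_primeIdealOf hW]
      exact congrArg (fun t : Spec (CommRingCat.of V) => (show PrimeSpectrum V from t).asIdeal) hη
  obtain ⟨u, hu'⟩ := ValUnits.exists_unit_of_generic (V := V) (B := Γ(X, W)) (C := C) q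
    (fun p _ => isPrime_fibre (V := V) hW p) hgen hw (a := s ^ m * a) (t := s ^ m * s ^ n)
    (fun h => ((hW.primeIdealOf ⟨ξ, hξW⟩).isPrime.mem_or_mem h).elim
      (fun h => hs ((hW.primeIdealOf ⟨ξ, hξW⟩).isPrime.mem_of_pow_mem m h)) ha')
    (fun h => ((hW.primeIdealOf ⟨ξ, hξW⟩).isPrime.mem_or_mem h).elim
      (fun h => hs ((hW.primeIdealOf ⟨ξ, hξW⟩).isPrime.mem_of_pow_mem m h))
      (fun h => hs ((hW.primeIdealOf ⟨ξ, hξW⟩).isPrime.mem_of_pow_mem n h))) (by
    show φ (s ^ m * s ^ n) * w = φ (s ^ m * a)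
    rw [mul_sub, sub_eq_zero] at hm
    rw [map_mul, map_mul, map_pow, mul_assoc, mul_comm (φ (s ^ n)) w]
    exact hm)
  exact ⟨u, u.isUnit, hu'⟩

/-- Every point of the closed fibre has an affine neighbourhood over which the module is free on the generic fibre. -/
theorem exists_gen_nhd {L : (genFib (X ↘ Spec (CommRingCat.of V))).Modules} (hL : PicF.IsInvertible L) {x : X}
    (hx : (X ↘ Spec (CommRingCat.of V)) x = IsLocalRing.closedPoint V) :
    ∃ (U : X.Opens) (e : Γ(L, genMap (X ↘ Spec (CommRingCat.of V)) ⁻¹ᵁ U)), IsAffineOpen U ∧ x ∈ U ∧ IsGen L e := by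
  obtain ⟨W, hW, hxW, -⟩ := exists_isAffineOpen_mem_and_subset (U := (⊤ : X.Opens)) (x := x) trivial
  haveI := smooth_algV (V := V) hW
  haveI := flat_algV (V := V) hW
  haveI := ess_algV (V := V) hW
  haveI := isLocalization_algK (V := V) hW
  haveI := isNoetherian_algK (V := V) hW
  let U₀ := genMap (X ↘ Spec (CommRingCat.of V)) ⁻¹ᵁ W
  have hU₀ : IsAffineOpen U₀ := hW.preimage _
  let C := Γ(genFib (X ↘ Spec (CommRingCat.of V)), U₀)
  let h := hU₀.fromSpec
  let L' := pb h L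
  have hL' : PicF.IsInvertible L' := H11Ample.isInvertible_pullback _ hL
  haveI : L'.IsQuasicoherent := H28Mero.isQCoh_of_isInvertible hL'
  have hcov : ∀ y : PrimeSpectrum C, ∃ (b : C) (m : Γ(L', ⊤)), b ∉ y.asIdeal ∧ H11Tilde.GenOn b m := fun y => by
    obtain ⟨O, e, hy, he⟩ := H11Ample.exists_gen hL' y
    obtain ⟨_, ⟨b, rfl⟩, hyb, hbO⟩ :=
      PrimeSpectrum.isTopologicalBasis_basic_opens.exists_subset_of_mem_open (show y ∈ O from hy) O.isOpen
    have heb := he.res (show Db b ≤ O from hbO)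
    obtain ⟨n, p, hp⟩ := exists_pow_smul_eq_map L' b (L'.presheaf.map (homOfLE (show Db b ≤ O from hbO)).op e)
    refine ⟨b, p, hyb, H11Tilde.genOn_of_isGen L' ?_⟩
    rw [hp, smul_eq_cst_smul]
    exact SqZeroPic.isGen_smul heb (by rw [map_pow]; exact (isUnit_cst le_rfl).pow n)
  obtain ⟨hfin, hproj, hinv⟩ := ValUnits.finite_projective_invertible_of_genOn hcov
  haveI := hfin; haveI := hproj
  let q := (hW.primeIdealOf ⟨x, hxW⟩).asIdeal
  have hq : q.comap (algebraMap V Γ(X, W)) = IsLocalRing.maximalIdeal V := by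
    rw [comap_primeIdealOf hW, hx]
    rfl
  obtain ⟨t, m, ht, hgen⟩ := ValUnits.exists_genOn (V := V) (B := Γ(X, W)) (C := C) q hq
    (isRegular_fibre (V := V) hW q hq) hinv
  have hg := H11Tilde.isGen_of_genOn L' hgen
  let κ : U₀.toScheme ⟶ Spec Γ(genFib (X ↘ Spec (CommRingCat.of V)), U₀) := hU₀.isoSpec.hom
  have hκ : κ ≫ h = U₀.ι := hU₀.isoSpec_hom_fromSpec
  let θ : pb κ L' ≅ L.restrict U₀.ι :=
    pC κ h hκ L ≪≫ ((Scheme.Modules.restrictFunctorIsoPullback U₀.ι).app L).symm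
  have hg' := (hg.pullSect κ).map_iso θ
  have hg'' := H11Proj.isGen_toImg U₀ hg'
  let U := X.basicOpen t
  have hle : genMap (X ↘ Spec (CommRingCat.of V)) ⁻¹ᵁ U ≤ U₀.ι ''ᵁ (κ ⁻¹ᵁ PrimeSpectrum.basicOpen ((algebraMap Γ(X, W) C) t)) := by
    intro z hz
    have hz₀ : z ∈ U₀ := (genMap (X ↘ Spec (CommRingCat.of V))).preimage_mono (X.basicOpen_le t) hz
    refine ⟨⟨z, hz₀⟩, ?_, rfl⟩
    have hmem : κ ⟨z, hz₀⟩ ∈ h ⁻¹ᵁ (genFib (X ↘ Spec (CommRingCat.of V))).basicOpen ((genMap (X ↘ Spec (CommRingCat.of V))).app W t) := by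
      rw [Scheme.Hom.mem_preimage, ← Scheme.Hom.comp_apply, hκ, ← Scheme.preimage_basicOpen]
      exact hz
    rw [hU₀.fromSpec_preimage_basicOpen] at hmem
    exact hmem
  refine ⟨U, L.presheaf.map (homOfLE hle).op _, hW.basicOpen t, ?_, hg''.res hle⟩
  have h2 : hW.primeIdealOf ⟨x, hxW⟩ ∈ hW.fromSpec ⁻¹ᵁ X.basicOpen t := by
    rw [hW.fromSpec_preimage_basicOpen]
    exact ht
  change hW.fromSpec (hW.primeIdealOf ⟨x, hxW⟩) ∈ X.basicOpen t at h2
  rwa [hW.fromSpec_primeIdealOf] at h2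


theorem nat_rr {A B : X.Opens} (h : B ≤ A) (z : Γ(X, A)) : (genMap (X ↘ Spec (CommRingCat.of V))).app B (LineCocycle.rr h z) =
    LineCocycle.rr ((genMap (X ↘ Spec (CommRingCat.of V))).preimage_mono h) ((genMap (X ↘ Spec (CommRingCat.of V))).app A z) :=
  ConcreteCategory.congr_hom ((genMap (X ↘ Spec (CommRingCat.of V))).naturality (homOfLE h).op) z


theorem rr_algV {A B : X.Opens} (h : B ≤ A) (v : V) :
    LineCocycle.rr h (algebraMap V Γ(X, A) v) = algebraMap V Γ(X, B) v := by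
  show X.presheaf.map (homOfLE h).op ((X ↘ Spec (CommRingCat.of V)).appLE ⊤ A le_top _) = (X ↘ Spec (CommRingCat.of V)).appLE ⊤ B le_top _
  rw [← ConcreteCategory.comp_apply, Scheme.Hom.appLE_map]


/-- Functions are determined by their restriction to the generic fibre. -/
theorem app_injective (T : X.Opens) : Function.Injective ((genMap (X ↘ Spec (CommRingCat.of V))).app T) := by
  intro a b hab
  refine LineCocycle.rr_locally a b fun x hx => ?_
  obtain ⟨W, hW, hxW, hWT⟩ := exists_isAffineOpen_mem_and_subset (U := T) hx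
  haveI := flat_algV (V := V) hW
  haveI := isLocalization_algK (V := V) hW
  refine ⟨W, hWT, hxW, ValUnits.injective_algebraMap V (B := Γ(X, W)) (C := Γ(genFib (X ↘ Spec (CommRingCat.of V)), genMap (X ↘ Spec (CommRingCat.of V)) ⁻¹ᵁ W)) ?_⟩
  show (genMap (X ↘ Spec (CommRingCat.of V))).app W (LineCocycle.rr hWT a) = (genMap (X ↘ Spec (CommRingCat.of V))).app W (LineCocycle.rr hWT b)
  rw [nat_rr, nat_rr, hab]

/-- An invertible module on the generic fibre extends to the whole scheme. -/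
theorem exists_extension {L : (genFib (X ↘ Spec (CommRingCat.of V))).Modules} (hL : PicF.IsInvertible L) :
    ∃ M : X.Modules, PicF.IsInvertible M ∧ Nonempty (pb (genMap (X ↘ Spec (CommRingCat.of V))) M ≅ L) := by
  obtain ⟨ξ, hξ0, hξgen, hξ, hcl⟩ := exists_generic (V := V) (X := X)
  let Z := {x : X // (X ↘ Spec (CommRingCat.of V)) x = IsLocalRing.closedPoint V}
  choose U e₁ hU hxU he₁ using fun x : Z => exists_gen_nhd hL x.2
  have hξU : ∀ x : Z, ξ ∈ U x := fun x => (hξgen x.1 x.2).mem_open (U x).isOpen (hxU x)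
  have hcov : ∀ z : X, ∃ x : Z, z ∈ U x := fun z => by
    obtain ⟨y, hzy, hy⟩ := hcl z
    exact ⟨⟨y, hy⟩, hzy.mem_open (U _).isOpen (hxU ⟨y, hy⟩)⟩
  haveI : IsSeparated (terminal.from X) := by
    rw [← terminal.comp_from (X ↘ Spec (CommRingCat.of V))]; infer_instance
  let pre := fun {A B : X.Opens} (h : B ≤ A) => (genMap (X ↘ Spec (CommRingCat.of V))).preimage_mono h
  let x₀ : Z := ⟨ξ, hξ0⟩
  let e₀ := e₁ x₀
  -- normalisation at the generic point of the closed fibre
  have hnorm : ∀ x : Z, ∃ (e : Γ(L, genMap (X ↘ Spec (CommRingCat.of V)) ⁻¹ᵁ U x)) (T : X.Opens) (hx : T ≤ U x) (h0 : T ≤ U x₀)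
      (u : Γ(X, T)), IsGen L e ∧ ξ ∈ T ∧ IsUnit u ∧
      L.presheaf.map (homOfLE (pre h0)).op e₀ = (genMap (X ↘ Spec (CommRingCat.of V))).app T u • L.presheaf.map (homOfLE (pre hx)).op e := by
    intro x
    let W := U x ⊓ U x₀
    have hW : IsAffineOpen W := (hU x).inf (hU x₀)
    have hξW : ξ ∈ W := ⟨hξU x, hξU x₀⟩
    haveI := smooth_algV (V := V) hW
    haveI := flat_algV (V := V) hW
    haveI := ess_algV (V := V) hW
    haveI := isLocalization_algK (V := V) hW
    haveI := isLocalization_algK (V := V) (hU x)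
    let C := Γ(genFib (X ↘ Spec (CommRingCat.of V)), genMap (X ↘ Spec (CommRingCat.of V)) ⁻¹ᵁ W)
    obtain ⟨w, hw⟩ := H11Ample.exists_coeff ((he₁ x).res (pre (inf_le_left : W ≤ U x)))
      (L.presheaf.map (homOfLE (pre (inf_le_right : W ≤ U x₀))).op e₀)
    have hwu : IsUnit w := PowerRoot.isUnit_coeff ((he₁ x).res _) ((he₁ x₀).res _) hw
    let q := (hW.primeIdealOf ⟨ξ, hξW⟩).asIdeal
    obtain ⟨c, r, hc, hr, a, t, ha, ht, he⟩ :=
      ValUnits.exists_scalar_mul_unit (V := V) (B := Γ(X, W)) (C := C) q (isPrime_fibre (V := V) hW q) hwu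
    let D := Γ(genFib (X ↘ Spec (CommRingCat.of V)), genMap (X ↘ Spec (CommRingCat.of V)) ⁻¹ᵁ U x)
    have hsc : ∀ v : V, v ≠ 0 → IsUnit (algebraMap V D v) := fun v hv =>
      IsLocalization.map_units D
        (⟨algebraMap V Γ(X, U x) v, v, mem_nonZeroDivisors_of_ne_zero hv, rfl⟩ : Algebra.algebraMapSubmonoid Γ(X, U x) V⁰)
    let k : D := algebraMap V D c * ((hsc r hr).unit⁻¹ : Dˣ).1
    let T : X.Opens := X.basicOpen a ⊓ X.basicOpen t
    have hTW : T ≤ W := inf_le_left.trans (X.basicOpen_le a)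
    have hTu : ∀ b : Γ(X, W), T ≤ X.basicOpen b → IsUnit (LineCocycle.rr hTW b) := fun b hb => by
      have h1 := (X.toRingedSpace.isUnit_res_basicOpen b).map (LineCocycle.rr hb)
      change IsUnit (LineCocycle.rr hb (LineCocycle.rr (X.basicOpen_le b) b)) at h1
      rwa [LineCocycle.rr_rr] at h1
    have hua := hTu a inf_le_left
    have hut := hTu t inf_le_right
    have hmem : ∀ b : Γ(X, W), b ∉ q → ξ ∈ X.basicOpen b := fun b hb => by
      have h2 : hW.primeIdealOf ⟨ξ, hξW⟩ ∈ hW.fromSpec ⁻¹ᵁ X.basicOpen b := by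
        rw [hW.fromSpec_preimage_basicOpen]
        exact hb
      change hW.fromSpec (hW.primeIdealOf ⟨ξ, hξW⟩) ∈ X.basicOpen b at h2
      rwa [hW.fromSpec_primeIdealOf] at h2
    refine ⟨k • e₁ x, T, hTW.trans inf_le_left, hTW.trans inf_le_right,
      LineCocycle.rr hTW a * (hut.unit⁻¹ : Γ(X, T)ˣ).1, SqZeroPic.isGen_smul (he₁ x) ((hsc c hc).mul (Units.isUnit _)),
      ⟨hmem a ha, hmem t ht⟩, hua.mul (Units.isUnit _), ?_⟩
    have h1 := congrArg (L.presheaf.map (homOfLE (pre hTW)).op) hw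
    rw [Scheme.Modules.map_smul, H10Coh.mres_mres, H10Coh.mres_mres] at h1
    refine h1.trans ?_
    rw [Scheme.Modules.map_smul, smul_smul]
    congr 1
    let ι : Γ(genFib (X ↘ Spec (CommRingCat.of V)), genMap (X ↘ Spec (CommRingCat.of V)) ⁻¹ᵁ U x) →+* Γ(genFib (X ↘ Spec (CommRingCat.of V)), genMap (X ↘ Spec (CommRingCat.of V)) ⁻¹ᵁ T) :=
      LineCocycle.rr (pre (hTW.trans inf_le_left))
    let φT := (genMap (X ↘ Spec (CommRingCat.of V))).app T
    have hcst : ∀ v : V, ι (algebraMap V D v) = φT (algebraMap V Γ(X, T) v) := fun v => by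
      show LineCocycle.rr _ ((genMap (X ↘ Spec (CommRingCat.of V))).app (U x) (algebraMap V Γ(X, U x) v)) = _
      rw [← nat_rr (hTW.trans inf_le_left), rr_algV]
    have hwT : φT (algebraMap V Γ(X, T) r) * φT (LineCocycle.rr hTW t) * LineCocycle.rr (pre hTW) w =
        φT (algebraMap V Γ(X, T) c) * φT (LineCocycle.rr hTW a) := by
      have h2 := congrArg (LineCocycle.rr (pre hTW)) he
      rw [map_mul] at h2
      change LineCocycle.rr (pre hTW) ((genMap (X ↘ Spec (CommRingCat.of V))).app W (algebraMap V Γ(X, W) r * t)) * _ =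
        LineCocycle.rr (pre hTW) ((genMap (X ↘ Spec (CommRingCat.of V))).app W (algebraMap V Γ(X, W) c * a)) at h2
      rw [← nat_rr, ← nat_rr, map_mul, map_mul, map_mul, map_mul, rr_algV, rr_algV] at h2
      exact h2
    show LineCocycle.rr (pre hTW) w = φT (LineCocycle.rr hTW a * (hut.unit⁻¹ : Γ(X, T)ˣ).1) * ι k
    rw [map_mul, map_mul ι, hcst c]
    have hr1 : φT (algebraMap V Γ(X, T) r) * ι ((hsc r hr).unit⁻¹ : Dˣ).1 = 1 := by
      rw [← hcst, ← map_mul, IsUnit.mul_val_inv, map_one]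
    have ht1 : φT (LineCocycle.rr hTW t) * φT (hut.unit⁻¹ : Γ(X, T)ˣ).1 = 1 := by
      rw [← map_mul, IsUnit.mul_val_inv, map_one]
    linear_combination (φT (hut.unit⁻¹ : Γ(X, T)ˣ).1 * ι ((hsc r hr).unit⁻¹ : Dˣ).1) * hwT -
      (LineCocycle.rr (pre hTW) w * φT (LineCocycle.rr hTW t) * φT (hut.unit⁻¹ : Γ(X, T)ˣ).1) * hr1 -
      LineCocycle.rr (pre hTW) w * ht1
  choose e T hTx hT0 u he hξT hu heq using hnorm
  -- the transition units
  have htr : ∀ a b : Z, ∃ g : Γ(X, U a ⊓ U b), IsUnit g ∧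
      L.presheaf.map (homOfLE (pre (inf_le_right : U a ⊓ U b ≤ U b))).op (e b) =
        (genMap (X ↘ Spec (CommRingCat.of V))).app _ g • L.presheaf.map (homOfLE (pre (inf_le_left : U a ⊓ U b ≤ U a))).op (e a) := by
    intro a b
    obtain ⟨w, hw⟩ := H11Ample.exists_coeff ((he a).res (pre (inf_le_left : U a ⊓ U b ≤ U a)))
      (L.presheaf.map (homOfLE (pre (inf_le_right : U a ⊓ U b ≤ U b))).op (e b))
    let O := T a ⊓ T b
    have hOW : O ≤ U a ⊓ U b := inf_le_inf (hTx a) (hTx b)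
    let ua := LineCocycle.rr (inf_le_left : O ≤ T a) (u a)
    let ub := LineCocycle.rr (inf_le_right : O ≤ T b) (u b)
    have hub : IsUnit ub := (hu b).map _
    have key : (genMap (X ↘ Spec (CommRingCat.of V))).app O (ua * (hub.unit⁻¹ : Γ(X, O)ˣ).1) =
        LineCocycle.rr ((genMap (X ↘ Spec (CommRingCat.of V))).preimage_mono hOW) w := by
      have h1 := congrArg (L.presheaf.map (homOfLE (pre (inf_le_left : O ≤ T a))).op) (heq a)
      have h2 := congrArg (L.presheaf.map (homOfLE (pre (inf_le_right : O ≤ T b))).op) (heq b)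
      have h3 := congrArg (L.presheaf.map (homOfLE (pre hOW)).op) hw
      rw [Scheme.Modules.map_smul, H10Coh.mres_mres, H10Coh.mres_mres] at h1 h2 h3
      have h4 := h1.symm.trans h2
      rw [h3, smul_smul] at h4
      have h5 := SqZeroPic.gen_inj ((he a).res (pre (inf_le_left.trans (hTx a)))) h4
      change LineCocycle.rr _ ((genMap (X ↘ Spec (CommRingCat.of V))).app (T a) (u a)) = LineCocycle.rr _ ((genMap (X ↘ Spec (CommRingCat.of V))).app (T b) (u b)) * _ at h5
      rw [← nat_rr (inf_le_left : O ≤ T a), ← nat_rr (inf_le_right : O ≤ T b)] at h5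
      rw [map_mul, show (genMap (X ↘ Spec (CommRingCat.of V))).app O ua = _ from h5, mul_comm ((genMap (X ↘ Spec (CommRingCat.of V))).app O ub), mul_assoc, ← map_mul,
        IsUnit.mul_val_inv, map_one, mul_one]
    obtain ⟨g, hg, hgw⟩ := exists_unit hξ ((hU a).inf (hU b)) ⟨hξU a, hξU b⟩
      (PowerRoot.isUnit_coeff ((he a).res _) ((he b).res _) hw) O hOW ⟨hξT a, hξT b⟩ (ua * (hub.unit⁻¹ : Γ(X, O)ˣ).1)
      (((hu a).map _).mul (Units.isUnit _)) key
    exact ⟨g, hg, by rw [hgw]; exact hw⟩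
  choose g hg hge using htr
  let Dt : LineCocycle.Data X :=
    { J := Z
      V := U
      g := g
      isUnit := hg
      cover := hcov
      cocycle := fun a b c O ha hb hc => app_injective O (by
        have k1 := congrArg (L.presheaf.map (homOfLE (pre (le_inf ha hb))).op) (hge a b)
        have k2 := congrArg (L.presheaf.map (homOfLE (pre (le_inf hb hc))).op) (hge b c)
        have k3 := congrArg (L.presheaf.map (homOfLE (pre (le_inf ha hc))).op) (hge a c)
        rw [Scheme.Modules.map_smul, H10Coh.mres_mres, H10Coh.mres_mres] at k1 k2 k3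
        rw [k3, k1, smul_smul] at k2
        have k := SqZeroPic.gen_inj ((he a).res (pre ha)) k2
        change LineCocycle.rr _ ((genMap (X ↘ Spec (CommRingCat.of V))).app _ (g a c)) =
          LineCocycle.rr _ ((genMap (X ↘ Spec (CommRingCat.of V))).app _ (g b c)) * LineCocycle.rr _ ((genMap (X ↘ Spec (CommRingCat.of V))).app _ (g a b)) at k
        rw [← nat_rr (le_inf ha hc), ← nat_rr (le_inf hb hc), ← nat_rr (le_inf ha hb)] at k
        rw [map_mul, k, mul_comm]) }
  let M := LineCocycle.line Dt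
  refine ⟨M, LineCocycle.isInvertible_line Dt, ?_⟩
  have htrans : ∀ a b : Z, (pb (genMap (X ↘ Spec (CommRingCat.of V))) M).presheaf.map (homOfLE (pre (inf_le_right : U a ⊓ U b ≤ U b))).op
      (OmegaSh.pullSect (genMap (X ↘ Spec (CommRingCat.of V))) M (U b) (LineCocycle.gen Dt b)) =
      (genMap (X ↘ Spec (CommRingCat.of V))).app _ (g a b) • (pb (genMap (X ↘ Spec (CommRingCat.of V))) M).presheaf.map (homOfLE (pre (inf_le_left : U a ⊓ U b ≤ U a))).op
        (OmegaSh.pullSect (genMap (X ↘ Spec (CommRingCat.of V))) M (U a) (LineCocycle.gen Dt a)) := fun a b => by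
    have h := congrArg (OmegaSh.pullSect (genMap (X ↘ Spec (CommRingCat.of V))) M (U a ⊓ U b))
      (LineCocycle.gen_trans Dt a b (U a ⊓ U b) inf_le_left inf_le_right)
    rw [LineCocycle.rr_self, H11Tilde.pullSect_res] at h
    refine h.trans ?_
    rw [← H11Tilde.pullSect_res]
    exact ((Scheme.Modules.pullbackPushforwardAdjunction (genMap (X ↘ Spec (CommRingCat.of V)))).unit.app M).app_smul _ _
  refine SqZeroPic.iso_of_transition (fun a => genMap (X ↘ Spec (CommRingCat.of V)) ⁻¹ᵁ U a) (fun z => hcov (genMap (X ↘ Spec (CommRingCat.of V)) z))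
    (fun a => OmegaSh.pullSect (genMap (X ↘ Spec (CommRingCat.of V))) M (U a) (LineCocycle.gen Dt a))
    (fun a => (LineCocycle.isGen_gen Dt a).pullSect (genMap (X ↘ Spec (CommRingCat.of V)))) e he fun a b => ?_
  refine ⟨(genMap (X ↘ Spec (CommRingCat.of V))).app (U a ⊓ U b) (LineCocycle.rr (le_of_eq (inf_comm _ _)) (g b a)), ?_, ?_⟩
  · have h := congrArg ((pb (genMap (X ↘ Spec (CommRingCat.of V))) M).presheaf.map (homOfLE (pre (le_of_eq (inf_comm (U a) (U b))))).op) (htrans b a)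
    rw [Scheme.Modules.map_smul, H10Coh.mres_mres, H10Coh.mres_mres] at h
    rw [nat_rr]
    exact h
  · have h := congrArg (L.presheaf.map (homOfLE (pre (le_of_eq (inf_comm (U a) (U b))))).op) (hge b a)
    rw [Scheme.Modules.map_smul, H10Coh.mres_mres, H10Coh.mres_mres] at h
    rw [nat_rr]
    exact h

end Groth.Agent.H12Pic.PicCurve.ValExtend
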