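import Groth.Agent.S6487

/-!
# Twists of invertible modules on a curve with one section and no first cohomology
-/

set_option autoImplicit false
set_option linter.style.haveILetI false
set_option maxHeartbeats 800000
universe u
open CategoryTheory CategoryTheory.Limits AlgebraicGeometry
open PicF

noncomputable section

namespace Groth.Agent.H12Pic.PicCurve

open Groth.Agent
open Groth.Agent.H25Theta (pb pT pC pI tI)

attribute [local instance] Curv2.resAlgebra

section
variable {X S : Scheme.{u}} {f : X ⟶ S}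

/-- Powers of a module times ideals of sections. -/
def twistModPow (N : X.Modules) : ℕ → X.Modules
  | 0 => Coh.structureModule X
  | n + 1 => CohB1.tensorMod (twistModPow N n) N

/-- Powers of a module times ideals of sections, indexed by the power and the list of sections. -/
def twistMod (N : X.Modules) (i : ℕ × List {τ : S ⟶ X // τ ≫ f = 𝟙 S}) : X.Modules :=
  i.2.foldr (fun τ M => CohB1.tensorMod (ClSub.idealMod τ.1.ker) M) (twistModPow N i.1)

theorem isInvertible_twistMod [SmoothOfRelativeDimension 1 f] [IsSeparated f] {N : X.Modules} (hN : PicF.IsInvertible N) :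
    ∀ i, PicF.IsInvertible (twistMod (f := f) N i) := by
  rintro ⟨n, l⟩
  induction l with
  | nil =>
    show PicF.IsInvertible (twistModPow N n)
    induction n with
    | zero => exact H11Ample.isInvertible_structureModule (X := X)
    | succ n ih => exact H11Ample.isInvertible_tensor ih hN
  | cons τ l ih =>
    exact H11Ample.isInvertible_tensor
      (H29Blow.isInvertible_of_isEffCartierIdeal _ (H12Pic.CurveFam.isEffCartierIdeal_section f τ.1 τ.2)) ih

end

/-- Some twist of an invertible module on the curve over an extension field has one section and no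
first cohomology. -/
theorem exists_twist (k : Type u) [Field k] [IsSepClosed k] (X : Scheme.{u}) [X.Over (Spec (CommRingCat.of k))]
    (hX : Curve.IsSmoothProperCurve k X (X ↘ Spec (CommRingCat.of k)))
    (σ₀ : Spec (CommRingCat.of k) ⟶ X) (hσ₀ : σ₀ ≫ (X ↘ Spec (CommRingCat.of k)) = 𝟙 _)
    (N : X.Modules) (hN : PicF.IsInvertible N)
    (eN : CohB1.tensorMod N (ClSub.idealMod σ₀.ker) ≅ Coh.structureModule X)
    (K : Type u) [Field K] [Algebra k K] (XK : Scheme.{u}) [XK.Over (Spec (CommRingCat.of K))] (g : XK ⟶ X)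
    (hpb : IsPullback g (XK ↘ Spec (CommRingCat.of K)) (X ↘ Spec (CommRingCat.of k))
      (Spec.map (CommRingCat.ofHom (algebraMap k K))))
    (L : XK.Modules) (hL : PicF.IsInvertible L) :
    ∃ i : ℕ × List {τ : Spec (CommRingCat.of k) ⟶ X // τ ≫ (X ↘ Spec (CommRingCat.of k)) = 𝟙 _},
      Module.finrank K (Coh.HH XK (CohB1.tensorMod L ((Scheme.Modules.pullback g).obj (twistMod N i))) 0) = 1 ∧
      Subsingleton (Coh.HH XK (CohB1.tensorMod L ((Scheme.Modules.pullback g).obj (twistMod N i))) 1) := by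
  obtain ⟨_, _, _, hdim⟩ := hX
  let f := X ↘ Spec (CommRingCat.of k)
  let f' := XK ↘ Spec (CommRingCat.of K)
  let b := Spec.map (CommRingCat.ofHom (algebraMap k K))
  haveI : IsProper f' := MorphismProperty.of_isPullback hpb inferInstance
  haveI : Smooth f' := MorphismProperty.of_isPullback hpb inferInstance
  haveI : GeometricallyConnected f :=
    H22Alg.VarGeom.geometricallyConnected_of_isSepClosed f
  haveI : GeometricallyConnected f' := MorphismProperty.of_isPullback hpb inferInstance
  haveI := H29RR.isIntegral_of_geomConnected K XK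
  haveI := H29RR.isNoetherian_of_proper (k := K) (X := XK)
  have hK : topologicalKrullDim XK = 1 := (H8Props.FieldDim.dim_baseChange _ _ _ hpb).trans hdim
  haveI : UniversallyOpen g := MorphismProperty.of_isPullback hpb.flip (inferInstanceAs (UniversallyOpen b))
  haveI : SmoothOfRelativeDimension 1 f := H27CurveDiv.smoothOfRelativeDimension_of_dim f 1 (by exact_mod_cast hdim)
  haveI : SmoothOfRelativeDimension 1 f' :=
    H27CurveDiv.smoothOfRelativeDimension_of_dim f' 1 (by exact_mod_cast hK)
  let G := Scheme.Modules.pullback g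
  have hP : ∀ σ : Spec (CommRingCat.of k) ⟶ X, σ ≫ f = 𝟙 _ →
      ∃ x : XK, IsClosed ({x} : Set XK) ∧ Module.finrank K (XK.residueField x) = 1 ∧
        PicF.IsInvertible (ClSub.idealMod σ.ker) ∧
        Nonempty (G.obj (ClSub.idealMod σ.ker) ≅ ClSub.idealMod (H29RR.ptIdeal x)) ∧
        ∀ z : XK, g z ∈ Set.range σ → z = x := by
    intro σ hσ
    let τ : Spec (CommRingCat.of K) ⟶ XK := hpb.lift (b ≫ σ) (𝟙 _) (by
      rw [Category.assoc, hσ, Category.comp_id]; exact (Category.id_comp _).symm)
    have h1 : τ ≫ g = b ≫ σ := hpb.lift_fst _ _ _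
    have h2 : τ ≫ f' = 𝟙 _ := hpb.lift_snd _ _ _
    have hsq : IsPullback τ b g σ := by
      refine IsPullback.of_right ?_ h1 hpb.flip
      rw [h2, hσ]
      exact IsPullback.of_horiz_isIso ⟨(Category.id_comp _).trans (Category.comp_id _).symm⟩
    haveI : IsClosedImmersion (σ ≫ f) := by rw [hσ]; infer_instance
    haveI : IsClosedImmersion σ := IsClosedImmersion.of_comp σ f
    have hker : σ.ker.comap g = τ.ker := by
      rw [← Scheme.IdealSheafData.ker_fst_of_isClosedImmersion, ← hsq.isoPullback_hom_fst,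
        Scheme.Hom.ker_comp_of_isIso]
    have hI := H12Pic.CurveFam.isEffCartierIdeal_section f σ hσ
    have hJ := H12Pic.CurveFam.isEffCartierIdeal_section f' τ h2
    obtain ⟨e⟩ := H12Pic.CurveFam.nonempty_pullback_idealMod_comap g hI (hker ▸ hJ)
    obtain ⟨hx, hτ, h3⟩ := S6487.section_pt τ h2
    refine ⟨_, hx, h3, H29Blow.isInvertible_of_isEffCartierIdeal _ hI,
      ⟨e ≪≫ eqToIso (congrArg ClSub.idealMod (hker.trans hτ))⟩, fun z hz => ?_⟩
    have hz' : z ∈ Set.range (pullback.fst g σ) := by rw [Scheme.Pullback.range_fst]; exact hz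
    obtain ⟨w, rfl⟩ := hz'
    obtain ⟨w', rfl⟩ := hsq.isoPullback.hom.surjective w
    rw [← Scheme.Hom.comp_apply, hsq.isoPullback_hom_fst,
      Subsingleton.elim (α := PrimeSpectrum K) w' (IsLocalRing.closedPoint K)]
  -- descent to one section
  have step : ∀ (m : ℕ) (L₀ : X.Modules) (i : ℕ × List {τ : Spec (CommRingCat.of k) ⟶ X // τ ≫ f = 𝟙 _}),
      L₀ = twistMod N i → PicF.IsInvertible L₀ →
      Subsingleton (Coh.HH XK (CohB1.tensorMod L (G.obj L₀)) 1) →
      Module.finrank K (Coh.HH XK (CohB1.tensorMod L (G.obj L₀)) 0) = m + 1 →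
      ∃ i : ℕ × List {τ : Spec (CommRingCat.of k) ⟶ X // τ ≫ f = 𝟙 _},
        Module.finrank K (Coh.HH XK (CohB1.tensorMod L (G.obj (twistMod N i))) 0) = 1 ∧
        Subsingleton (Coh.HH XK (CohB1.tensorMod L (G.obj (twistMod N i))) 1) := by
    intro m
    induction m with
    | zero =>
      rintro L₀ i rfl h h1 h0
      exact ⟨i, h0, h1⟩
    | succ m ih =>
      intro L₀ i hi hL₀ h1 h0
      let M := CohB1.tensorMod L (G.obj L₀)
      replace h0 : Module.finrank K (Coh.HH XK M 0) = m + 1 + 1 := h0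
      have hM : PicF.IsInvertible M := H11Ample.isInvertible_tensor hL (H11Ample.isInvertible_pullback g hL₀)
      obtain ⟨v, hv⟩ := H29RR.exists_global_ne_zero M
        (Module.nontrivial_of_finrank_pos (R := K) (show 0 < Module.finrank K (Coh.HH XK M 0) by omega))
      have hgen := H29RR.genericPoint_mem_gen hM hv
      let U : X.Opens := ⟨g '' (H11Ample.gen M v : Set XK), g.isOpenMap _ (H11Ample.gen M v).2⟩
      obtain ⟨σ, hσ, hσU⟩ := H19Grp.exists_section_mem f U (show g (genericPoint XK) ∈ U from ⟨_, hgen, rfl⟩)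
      obtain ⟨x, hx, hres, hI, ⟨eI⟩, hpre⟩ := hP σ hσ
      obtain ⟨n, l⟩ := i
      obtain ⟨z, hz, hgz⟩ := hσU (IsLocalRing.closedPoint k)
      obtain rfl : z = x := hpre z ⟨_, hgz.symm⟩
      have hIK : PicF.IsInvertible (ClSub.idealMod (H29RR.ptIdeal z)) :=
        H11Tilde.isInvertible_of_iso eI (H11Ample.isInvertible_pullback g hI)
      have hIc := H11Ample.isCoh_of_isInvertible hIK
      have hM' := H11Ample.isInvertible_tensor hIK hM
      have ha := (H29RR.h0_add_one_iff (k := K) hx hres hM hIc).2 ⟨v, hz⟩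
      have hb := (H29RR.twist_point (k := K) hx hM hIc).2.2
      rw [H29RR.euler_eq_sub (k := K) hK.le, H29RR.euler_eq_sub (k := K) hK.le, hres] at hb
      haveI := h1
      rw [show Module.finrank K (Coh.HH XK M 1) = 0 from Module.finrank_zero_of_subsingleton] at hb
      let L₁ := CohB1.tensorMod (ClSub.idealMod σ.ker) L₀
      let e : CohB1.tensorMod (ClSub.idealMod (H29RR.ptIdeal z)) M ≅ CohB1.tensorMod L (G.obj L₁) :=
        (H10Coh.Tw.assoc _ L (G.obj L₀)).symm ≪≫ tI (H10Coh.Tw.commIso _ L) (Iso.refl _) ≪≫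
          H10Coh.Tw.assoc L _ _ ≪≫ tI (Iso.refl L) (tI eI.symm (Iso.refl _) ≪≫ (pT g _ _).symm)
      haveI : Module.Finite K (Coh.HH XK (CohB1.tensorMod (ClSub.idealMod (H29RR.ptIdeal z)) M) 1) :=
        H29RR.finite_HH _ hM' 1
      haveI : Subsingleton (Coh.HH XK (CohB1.tensorMod (ClSub.idealMod (H29RR.ptIdeal z)) M) 1) :=
        (Module.finrank_zero_iff (R := K)).mp (by omega)
      exact ih L₁ (n, ⟨σ, hσ⟩ :: l) (by rw [show L₁ = CohB1.tensorMod (ClSub.idealMod σ.ker) L₀ from rfl, hi]; rfl) (H11Ample.isInvertible_tensor hI hL₀)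
        (H29RR.hhIso (k := K) e.symm 1).toEquiv.subsingleton
        (((H29RR.hhIso (k := K) e 0).finrank_eq.symm).trans (by omega))
  -- a large twist
  obtain ⟨x, hx, hres, hI, ⟨eI⟩, -⟩ := hP σ₀ hσ₀
  have hdN : Curv2.deg K XK (G.obj N) 1 = 1 := by
    have h := H29RR.deg_congr (k := K) (pT g N (ClSub.idealMod σ₀.ker)).symm
    rw [H29RR.deg_congr (k := K) (G.mapIso eN ≪≫ H16Derived.KFlat.Stalk.structurePullbackIso g),
      H29RR.deg_structureModule, H29RR.deg_tensor (k := K) hK.le (H11Ample.isInvertible_pullback g hN)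
        (H11Ample.isInvertible_pullback g hI), H29RR.deg_congr (k := K) eI] at h
    have hIc := H11Ample.isCoh_of_isInvertible
      (H11Tilde.isInvertible_of_iso eI (H11Ample.isInvertible_pullback g hI))
    have ht := (H29RR.twist_point (k := K) hx (H11Ample.isInvertible_structureModule (X := XK)) hIc).2.2
    rw [hres, H25Euler.euler_congr (H10Coh.Tw.rightUnitIso _)] at ht
    rw [H29RR.deg_def (k := K) (ClSub.idealMod _)] at h
    show Curv2.deg K XK ((Scheme.Modules.pullback g).obj N) 1 = 1
    omega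
  have hn : ∀ n : ℕ, ∃ L₀ : X.Modules, L₀ = twistMod (f := f) N (n, []) ∧ PicF.IsInvertible L₀ ∧
      Curv2.deg K XK (CohB1.tensorMod L (G.obj L₀)) 1 = Curv2.deg K XK L 1 + n := by
    intro n
    induction n with
    | zero =>
      exact ⟨_, rfl, H11Ample.isInvertible_structureModule (X := X), by
        show Curv2.deg K XK (CohB1.tensorMod L (G.obj (Coh.structureModule X))) 1 = _
        rw [H29RR.deg_congr (k := K) (tI (Iso.refl L) (H16Derived.KFlat.Stalk.structurePullbackIso g) ≪≫
          H10Coh.Tw.rightUnitIso L)]; simp⟩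
    | succ n ih =>
      obtain ⟨L₀, rfl, hL₀, hd⟩ := ih
      refine ⟨_, rfl, H11Ample.isInvertible_tensor hL₀ hN, ?_⟩
      show Curv2.deg K XK (CohB1.tensorMod L (G.obj (CohB1.tensorMod (twistMod (f := f) N (n, [])) N))) 1 = _
      rw [H29RR.deg_congr (k := K) (tI (Iso.refl L) (pT g _ N) ≪≫ (H10Coh.Tw.assoc L _ _).symm),
        H29RR.deg_tensor (k := K) hK.le (H11Ample.isInvertible_tensor hL (H11Ample.isInvertible_pullback g hL₀))
          (H11Ample.isInvertible_pullback g hN), hd, hdN]
      push_cast; ring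
  obtain ⟨L₀, hi, hL₀, hd⟩ := hn (2 * (Curv2.genus K XK : ℤ) + |Curv2.deg K XK L 1| +
    |Curv2.euler K XK (Coh.structureModule XK)| + 1).toNat
  have hM := H11Ample.isInvertible_tensor hL (H11Ample.isInvertible_pullback g hL₀)
  rw [Int.toNat_of_nonneg (by positivity)] at hd
  have h1 := S6487.h1_vanish K XK hK hM (by have := neg_abs_le (Curv2.deg K XK L 1); linarith [abs_nonneg (Curv2.euler K XK (Coh.structureModule XK))])
  have he := H29RR.euler_eq_sub (k := K) hK.le (CohB1.tensorMod L (G.obj L₀))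
  rw [show Module.finrank K (Coh.HH XK (CohB1.tensorMod L (G.obj L₀)) 1) = 0 from
    Module.finrank_zero_of_subsingleton] at he
  have hpos : 1 ≤ Module.finrank K (Coh.HH XK (CohB1.tensorMod L (G.obj L₀)) 0) := by
    rw [H29RR.deg_def (k := K) (CohB1.tensorMod L (G.obj L₀))] at hd
    have := neg_abs_le (Curv2.deg K XK L 1)
    have := neg_abs_le (Curv2.euler K XK (Coh.structureModule XK))
    omega
  exact step (Module.finrank K (Coh.HH XK (CohB1.tensorMod L (G.obj L₀)) 0) - 1) L₀ _ hi hL₀ h1 (by omega)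

end Groth.Agent.H12Pic.PicCurve
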