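import Groth.Agent.H12Pic.PicCurve.Functor
import Groth.Agent.H25Theta.Basic
import Groth.Agent.H12Pic.PicSeparated

/-!
# Twisting rigidified classes by modules from the curve
-/

set_option autoImplicit false
set_option linter.style.haveILetI false
set_option linter.unusedSectionVars false

noncomputable section

universe u

open CategoryTheory CategoryTheory.Limits AlgebraicGeometry TopologicalSpace Opposite

namespace Groth.Agent.H12Pic.PicCurve

open Groth.Agent.H17.PullCl Groth.Agent.H12Pic.RigPoints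
open Groth.Agent.H25Theta (pb pT pC pI tI pO)

variable {X S : Scheme.{u}} (f : X ⟶ S) {σ : S ⟶ X} (hσ : σ ≫ f = 𝟙 S)

/-- The tensor product of a class with the pullback of a module of the curve. -/
def twistCl (A : X.Modules) (T : Over S) : PicF.Cl (PicF.XT f T) → PicF.Cl (PicF.XT f T) :=
  Quot.lift (fun L => PicF.cl (CohB1.tensorMod L (pb (pullback.fst f T.hom) A)))
    (fun L L' ⟨e⟩ => Quot.sound ⟨tI e (Iso.refl _)⟩)

theorem twistCl_cl (A : X.Modules) (T : Over S) (L : (PicF.XT f T).Modules) :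
    twistCl f A T (PicF.cl L) = PicF.cl (CohB1.tensorMod L (pb (pullback.fst f T.hom) A)) := rfl

theorem twistCl_twistCl (A B : X.Modules) (T : Over S) (c : PicF.Cl (PicF.XT f T)) :
    twistCl f A T (twistCl f B T c) = twistCl f (CohB1.tensorMod B A) T c := by
  induction c using Quot.ind with
  | _ L => exact Quot.sound ⟨H10Coh.Tw.assoc L _ _ ≪≫ tI (Iso.refl L) (pT _ B A).symm⟩

theorem twistCl_congr {A B : X.Modules} (e : A ≅ B) (T : Over S) (c : PicF.Cl (PicF.XT f T)) :
    twistCl f A T c = twistCl f B T c := by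
  induction c using Quot.ind with
  | _ L => exact Quot.sound ⟨tI (Iso.refl L) ((Scheme.Modules.pullback _).mapIso e)⟩

theorem twistCl_structureModule (T : Over S) (c : PicF.Cl (PicF.XT f T)) :
    twistCl f (Coh.structureModule X) T c = c := by
  induction c using Quot.ind with
  | _ L => exact Quot.sound ⟨tI (Iso.refl L) (pO _) ≪≫ H10Coh.Tw.rightUnitIso L⟩

theorem pullCl_twistCl (A : X.Modules) {T T' : Over S} (h : T' ⟶ T) (c : PicF.Cl (PicF.XT f T)) :
    PicF.pullCl (PicF.XTmap f h) (twistCl f A T c) = twistCl f A T' (PicF.pullCl (PicF.XTmap f h) c) := by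
  induction c using Quot.ind with
  | _ L => exact Quot.sound ⟨pT _ L _ ≪≫ tI (Iso.refl _) (pC _ _ (XTmap_fst f h) A)⟩

variable {A : X.Modules} (hA : PicF.IsInvertible A)
  (eA : Nonempty ((Scheme.Modules.pullback σ).obj A ≅ Coh.structureModule S))

/-- Twist of rigidified classes by an invertible module trivial along the section. -/
def twist (T : Over S) (c : PicF.Rig f σ hσ T) : PicF.Rig f σ hσ T :=
  ⟨twistCl f A T c.1, by
    obtain ⟨L, hL, hLi⟩ := c.2.1
    rw [← hL]
    exact ⟨_, rfl, H11Ample.isInvertible_tensor hLi (H11Ample.isInvertible_pullback _ hA)⟩, by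
    obtain ⟨L, hL, hLi⟩ := c.2.1
    obtain ⟨e⟩ := Sep.iso_of_cl_eq (L := (Scheme.Modules.pullback (PicF.secT f σ hσ T)).obj L)
      (L' := Coh.structureModule T.left) (by rw [← c.2.2, ← hL]; rfl)
    obtain ⟨e'⟩ := eA
    rw [← hL]
    exact Quot.sound ⟨pT _ L _ ≪≫
      tI e (pC _ _ (pullback.lift_fst _ _ _) A ≪≫ (pC T.hom σ rfl A).symm ≪≫
        (Scheme.Modules.pullback T.hom).mapIso e' ≪≫ pO T.hom) ≪≫ H10Coh.Tw.rightUnitIso _⟩⟩

theorem twist_val (T : Over S) (c : PicF.Rig f σ hσ T) : (twist f hσ hA eA T c).1 = twistCl f A T c.1 := rfl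

theorem rigPull_twist {T T' : Over S} (h : T' ⟶ T) (c : PicF.Rig f σ hσ T) :
    rigPull f hσ h (twist f hσ hA eA T c) = twist f hσ hA eA T' (rigPull f hσ h c) :=
  Subtype.ext (pullCl_twistCl f A h c.1)

/-- Twists by inverse modules are inverse. -/
theorem twist_twist_of_iso {B : X.Modules} (hB : PicF.IsInvertible B)
    (eB : Nonempty ((Scheme.Modules.pullback σ).obj B ≅ Coh.structureModule S))
    (e : CohB1.tensorMod B A ≅ Coh.structureModule X) (T : Over S) (c : PicF.Rig f σ hσ T) :
    twist f hσ hA eA T (twist f hσ hB eB T c) = c :=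
  Subtype.ext (by rw [twist_val, twist_val, twistCl_twistCl, twistCl_congr f e, twistCl_structureModule])

end Groth.Agent.H12Pic.PicCurve
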