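import Groth.Agent.H12Pic.PicCurve.GoodClass
import Groth.Agent.H12Pic.PicCurve.Twist
import Groth.Agent.H12Pic.PicCurve.ExistsTwist
import Groth.Agent.H29Jac.OpenCoverLfp

/-!
# Representability of the rigidified Picard functor of a curve over a separably closed field
-/

set_option autoImplicit false
set_option linter.style.haveILetI false
set_option linter.unusedSectionVars false
set_option maxHeartbeats 1600000
set_option backward.isDefEq.respectTransparency.types false

noncomputable section

universe u

open CategoryTheory CategoryTheory.Limits AlgebraicGeometry TopologicalSpace Opposite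

namespace Groth.Agent.H12Pic.PicCurve

open Groth.Agent.H17.PullCl Groth.Agent.H12Pic.RigPoints
open Groth.Agent.H25Theta (pb pT pC pI tI pO)

attribute [local instance] fibreOverField

variable {k : Type u} [Field k] [IsSepClosed k] {X : Scheme.{u}} {f : X ⟶ Spec (CommRingCat.of k)}
  {σ : Spec (CommRingCat.of k) ⟶ X}

/-- The rigidified Picard functor of a curve is representable. -/
theorem rigRepresentable_curve_lfp (hX : Curve.IsSmoothProperCurve k X f) (hσ : σ ≫ f = 𝟙 _) :
    ∃ (P : Over (Spec (CommRingCat.of k))) (ξ : PicF.Rig f σ hσ P),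
      (∀ (T : Over (Spec (CommRingCat.of k))) (c : PicF.Rig f σ hσ T),
        ∃! g : T ⟶ P, PicF.pullCl (PicF.XTmap f g) ξ.1 = c.1) ∧
      LocallyOfFinitePresentation P.hom := by
  have ha := fun T U => isIso_app_family hX T U
  haveI := smoothRelDim_curve hX
  haveI := hX.1
  obtain ⟨W, u₀, hlfp, hW, hinj⟩ := exists_good_family_lfp hX hσ
  obtain ⟨N, hN, ⟨eN⟩⟩ := H11Sym.exists_inverse
    (H29Blow.isInvertible_of_isEffCartierIdeal _ (H12Pic.CurveFam.isEffCartierIdeal_section f σ hσ))
  let ι := ℕ × List {τ : Spec (CommRingCat.of k) ⟶ X // τ ≫ f = 𝟙 _}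
  let B : ι → X.Modules := fun i => twistMod N i
  have hB : ∀ i, PicF.IsInvertible (B i) := fun i => isInvertible_twistMod hN i
  choose A hA eA using fun i => H11Sym.exists_inverse (hB i)
  haveI : Subsingleton (Spec (CommRingCat.of k)) := inferInstanceAs (Subsingleton (PrimeSpectrum k))
  haveI : Nonempty (Spec (CommRingCat.of k)) := inferInstanceAs (Nonempty (PrimeSpectrum k))
  have htriv : ∀ {M : X.Modules}, PicF.IsInvertible M →
      Nonempty ((Scheme.Modules.pullback σ).obj M ≅ Coh.structureModule (Spec (CommRingCat.of k))) :=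
    fun hM => H25Theta.nonempty_iso_of_subsingleton (H11Ample.isInvertible_pullback σ hM)
  let tA := fun i T => twist f hσ (hA i) (htriv (hA i)) T
  let tB := fun i T => twist f hσ (hB i) (htriv (hB i)) T
  have hAB : ∀ i T (c : PicF.Rig f σ hσ T), tA i T (tB i T c) = c := fun i T c =>
    twist_twist_of_iso f hσ (hA i) _ (hB i) _ (H10Coh.Tw.commIso _ _ ≪≫ (eA i).some) T c
  have hBA : ∀ i T (c : PicF.Rig f σ hσ T), tB i T (tA i T c) = c := fun i T c =>
    twist_twist_of_iso f hσ (hB i) _ (hA i) _ (eA i).some T c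
  let u : ∀ _ : ι, PicF.Rig f σ hσ W := fun i => tA i W u₀
  refine H29Jac.rigRepresentable_of_open_cover_lfp f hσ ha (fun _ : ι => W) u (fun T c => ?_) (fun i T => ?_)
    fun _ => hlfp
  · obtain ⟨L, hL, hLi⟩ := c.2.1
    let π := PicF.XTproj f T
    haveI := isProper_family hX T
    haveI := smooth_family hX T
    haveI : Smooth π := SmoothOfRelativeDimension.smooth 1 _
    let R : ι → (PicF.XT f T).Modules := fun i => CohB1.tensorMod L (pb (pullback.fst f T.hom) (B i))
    have hR : ∀ i, PicF.IsInvertible (R i) := fun i =>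
      H11Ample.isInvertible_tensor hLi (H11Ample.isInvertible_pullback _ (hB i))
    have hRc : ∀ i, PicF.cl (R i) = (tB i T c).1 := fun i => by
      show _ = twistCl f (B i) T c.1
      rw [← hL]
      rfl
    refine ⟨fun i => goodLocus π (hR i), fun t => ?_, fun i T' p => ?_⟩
    · letI : X.Over (Spec (CommRingCat.of k)) := ⟨f⟩
      let K := T.left.residueField t
      let g : Spec K ⟶ Spec (CommRingCat.of k) := T.left.fromSpecResidueField t ≫ T.hom
      letI : Algebra k K := (Spec.preimage g : CommRingCat.of k ⟶ K).hom.toAlgebra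
      have hsq : IsPullback (π.fiberι t ≫ pullback.fst f T.hom) (π.fiber t ↘ Spec (CommRingCat.of K))
          (X ↘ Spec (CommRingCat.of k)) (Spec.map (CommRingCat.ofHom (algebraMap k K))) := by
        show IsPullback _ _ f (Spec.map (Spec.preimage g))
        rw [Spec.map_preimage]
        exact (IsPullback.of_hasPullback π (T.left.fromSpecResidueField t)).paste_horiz
          (IsPullback.of_hasPullback f T.hom)
      obtain ⟨i, h0, h1⟩ := exists_twist k X hX σ hσ N hN eN K (π.fiber t) _ hsq
        (pb (π.fiberι t) L) (H11Ample.isInvertible_pullback _ hLi)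
      refine ⟨i, (mem_goodLocus π (hR i) t).2 ?_⟩
      have e : CohIII.fiberMod π (R i) t ≅ CohB1.tensorMod (pb (π.fiberι t) L)
          ((Scheme.Modules.pullback (π.fiberι t ≫ pullback.fst f T.hom)).obj (twistMod N i)) :=
        pT _ L _ ≪≫ tI (Iso.refl _) (pC _ _ rfl _)
      exact ⟨((H29RR.hhIso (k := K) e 0).finrank_eq).trans h0,
        ((H29RR.hhIso (k := K) e 1).finrank_eq).trans (@Module.finrank_zero_of_subsingleton K _ _ _ _ _ h1)⟩
    · haveI := isProper_family hX T'
      have hRp : PicF.cl (pb (PicF.XTmap f p) (R i)) = (rigPull f hσ p (tB i T c)).1 := by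
        show PicF.pullCl _ (PicF.cl (R i)) = PicF.pullCl _ _
        rw [hRc]
      refine Iff.trans ?_ (isGood_pullback_iff π (hR i) (H27HilbOps.isPullback_XTmap f p))
      refine Iff.trans ?_ (hW T' _ _ (H11Ample.isInvertible_pullback _ (hR i)) hRp)
      constructor
      · rintro ⟨h, hh⟩
        refine ⟨h, ?_⟩
        rw [← hBA i T' (rigPull f hσ h u₀)]
        exact (congrArg (tB i T') ((rigPull_twist f hσ _ _ h u₀).symm.trans hh)).trans
          (rigPull_twist f hσ _ _ p c).symm
      · rintro ⟨h, hh⟩
        refine ⟨h, ?_⟩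
        show rigPull f hσ h (tA i W u₀) = _
        rw [rigPull_twist f hσ, hh, rigPull_twist f hσ]
        exact hAB i T' _
  · intro h₁ h₂ he
    refine hinj T ?_
    show rigPull f hσ h₁ u₀ = rigPull f hσ h₂ u₀
    rw [← hBA i W u₀]
    exact (rigPull_twist f hσ _ _ h₁ _).trans ((congrArg (tB i T) he).trans (rigPull_twist f hσ _ _ h₂ _).symm)

/-- The rigidified Picard functor of a curve is representable. -/
theorem rigRepresentable_curve (hX : Curve.IsSmoothProperCurve k X f) (hσ : σ ≫ f = 𝟙 _) :
    PicF.RigRepresentable f σ hσ :=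
  let ⟨P, ξ, h, _⟩ := rigRepresentable_curve_lfp hX hσ
  ⟨P, ξ, h⟩

end Groth.Agent.H12Pic.PicCurve
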