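import Groth.Agent.H12Pic.PicCurve.EllipticGood
import Groth.Agent.H12Pic.CurveFam.DegZero
import Groth.Agent.H12Pic.AlgEquivEuler
import Groth.Prelude.Def_AbDual

/-!
# Degree zero on the fibres and algebraic equivalence to zero on the geometric fibres
-/

set_option autoImplicit false
set_option linter.style.haveILetI false
set_option linter.unusedSectionVars false
set_option maxHeartbeats 1200000
set_option backward.isDefEq.respectTransparency.types false

noncomputable section

universe u

open CategoryTheory CategoryTheory.Limits AlgebraicGeometry TopologicalSpace Opposite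

namespace Groth.Agent.H12Pic.PicCurve

open Groth.Agent.H25Theta (pb pT pC pI tI pO)

attribute [local instance] fibreOverField

/-- Smooth proper geometrically connected curves over a field are integral of dimension one. -/
theorem curve_facts (K : Type u) [Field K] (F : Scheme.{u}) [F.Over (Spec (CommRingCat.of K))]
    [IsProper (F ↘ Spec (CommRingCat.of K))] [SmoothOfRelativeDimension 1 (F ↘ Spec (CommRingCat.of K))]
    [GeometricallyConnected (F ↘ Spec (CommRingCat.of K))] : IsIntegral F ∧ topologicalKrullDim F = 1 := by
  haveI : Smooth (F ↘ Spec (CommRingCat.of K)) := SmoothOfRelativeDimension.smooth 1 _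
  haveI := H29RR.isIntegral_of_geomConnected K F
  refine ⟨inferInstance, ?_⟩
  rw [← H8Props.FieldDim.localDim_eq_dim_of_irreducible (F ↘ Spec (CommRingCat.of K)) (genericPoint _),
    H8Props.FieldDim.localDim_eq_of_smooth (F ↘ Spec (CommRingCat.of K)) 1, Nat.cast_one]

variable {Y T : Scheme.{u}} (π : Y ⟶ T) [IsProper π] [SmoothOfRelativeDimension 1 π] [GeometricallyConnected π]

/-- The Euler characteristic over a field valued point is that of the fibre. -/
theorem euler_point {L : Y.Modules} (hL : PicF.IsInvertible L) {K : Type u} [Field K] {F : Scheme.{u}}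
    [F.Over (Spec (CommRingCat.of K))] {g : Spec (CommRingCat.of K) ⟶ T} {g' : F ⟶ Y}
    (h : IsPullback g' (F ↘ Spec (CommRingCat.of K)) π g) :
    Curv2.euler K F (pb g' L) = fibEuler π L (g (IsLocalRing.closedPoint K)) := by
  haveI := smoothOfRelativeDimension_isStableUnderBaseChange.{u} (n := 1)
  haveI : IsProper (F ↘ Spec (CommRingCat.of K)) := MorphismProperty.of_isPullback h inferInstance
  haveI : SmoothOfRelativeDimension 1 (F ↘ Spec (CommRingCat.of K)) := MorphismProperty.of_isPullback h inferInstance
  haveI : GeometricallyConnected (F ↘ Spec (CommRingCat.of K)) := MorphismProperty.of_isPullback h inferInstance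
  obtain ⟨hint, hdim⟩ := curve_facts K F
  haveI := hint
  rw [H29RR.euler_eq_sub (k := K) hdim.le, fibEuler_eq, ← finrank_HH_point π hL g h 0,
    ← finrank_HH_point π hL g h 1]

theorem range_eq_singleton_iff {K : Type u} [Field K] {s : T} (g : Spec (CommRingCat.of K) ⟶ T) :
    Set.range g = {s} ↔ g (IsLocalRing.closedPoint K) = s := by
  haveI : Subsingleton (Spec (CommRingCat.of K)) := inferInstanceAs (Subsingleton (PrimeSpectrum K))
  constructor
  · intro h
    exact (h ▸ Set.mem_range_self (IsLocalRing.closedPoint K) : g (IsLocalRing.closedPoint K) ∈ ({s} : Set T))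
  · intro h
    refine Set.eq_singleton_iff_unique_mem.2 ⟨⟨_, h⟩, ?_⟩
    rintro _ ⟨z, rfl⟩
    rw [Subsingleton.elim z (IsLocalRing.closedPoint K), h]

/-- Algebraic equivalence to zero on the geometric fibres gives degree zero. -/
theorem fibEuler_eq_of_isAlgTrivialAt {L : Y.Modules} (hL : PicF.IsInvertible L) {t : T}
    (h : AbDual.IsAlgTrivialAt π L t) : fibEuler π L t = fibEuler π (Coh.structureModule Y) t := by
  haveI := smoothOfRelativeDimension_isStableUnderBaseChange.{u} (n := 1)
  let Ω := AlgebraicClosure (T.residueField t)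
  let g : Spec (CommRingCat.of Ω) ⟶ T :=
    Spec.map (CommRingCat.ofHom (algebraMap (T.residueField t) Ω)) ≫ T.fromSpecResidueField t
  have hgt : g (IsLocalRing.closedPoint Ω) = t := by
    show (Spec.map _ ≫ T.fromSpecResidueField t) _ = t
    rw [Scheme.Hom.comp_apply, Scheme.fromSpecResidueField_apply]
  let F := pullback π g
  letI : F.Over (Spec (CommRingCat.of Ω)) := ⟨pullback.snd π g⟩
  have hsq : IsPullback (pullback.fst π g) (F ↘ Spec (CommRingCat.of Ω)) π g := IsPullback.of_hasPullback π g
  haveI : IsProper (F ↘ Spec (CommRingCat.of Ω)) := MorphismProperty.of_isPullback hsq inferInstance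
  haveI := H29RR.isNoetherian_of_proper (k := Ω) (X := F)
  have halg := h Ω g ((range_eq_singleton_iff g).2 hgt)
  have he := H12Pic.AlgEquivEuler.euler_twist_of_algEquiv (k := Ω) (X := F) halg (H10Coh.isCoh_structureModule' F)
  rw [H25Euler.euler_congr (H10Coh.Tw.rightUnitIso _),
    ← H25Euler.euler_congr (H16Derived.KFlat.Stalk.structurePullbackIso (pullback.fst π g))] at he
  have h1 := euler_point π hL hsq
  have h2 := euler_point π (H11Ample.isInvertible_structureModule (X := Y)) hsq
  rw [hgt] at h1 h2
  exact h1.symm.trans (he.trans h2)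

/-- Degree zero gives algebraic equivalence to zero on the geometric fibres. -/
theorem isAlgTrivialAt_of_fibEuler_eq {L : Y.Modules} (hL : PicF.IsInvertible L) {t : T}
    (h : fibEuler π L t = fibEuler π (Coh.structureModule Y) t) : AbDual.IsAlgTrivialAt π L t := by
  haveI := smoothOfRelativeDimension_isStableUnderBaseChange.{u} (n := 1)
  intro Ω _ _ g hg
  let F := pullback π g
  letI : F.Over (Spec (CommRingCat.of Ω)) := ⟨pullback.snd π g⟩
  have hsq : IsPullback (pullback.fst π g) (F ↘ Spec (CommRingCat.of Ω)) π g := IsPullback.of_hasPullback π g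
  haveI : IsProper (F ↘ Spec (CommRingCat.of Ω)) := MorphismProperty.of_isPullback hsq inferInstance
  haveI : SmoothOfRelativeDimension 1 (F ↘ Spec (CommRingCat.of Ω)) := MorphismProperty.of_isPullback hsq inferInstance
  haveI : GeometricallyConnected (F ↘ Spec (CommRingCat.of Ω)) := MorphismProperty.of_isPullback hsq inferInstance
  obtain ⟨hint, hdim⟩ := curve_facts Ω F
  haveI := hint
  have hgt := (range_eq_singleton_iff g).1 hg
  have h1 := euler_point π hL hsq
  have h2 := euler_point π (H11Ample.isInvertible_structureModule (X := Y)) hsq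
  rw [hgt] at h1 h2
  refine H12Pic.CurveFam.algEquiv_of_deg_zero (k := Ω) (C := F) hdim (H11Ample.isInvertible_pullback _ hL) ?_
  rw [H29RR.deg_def, ← H25Euler.euler_congr (H16Derived.KFlat.Stalk.structurePullbackIso (pullback.fst π g))]
  show Curv2.euler Ω F (pb _ L) - Curv2.euler Ω F (pb _ _) = 0
  rw [h1, h2, h, sub_self]

/-- A class is in the degree zero part exactly when its degree is zero on every fibre. -/
theorem forall_isAlgTrivialAt_iff {L : Y.Modules} (hL : PicF.IsInvertible L) :
    (∀ t, AbDual.IsAlgTrivialAt π L t) ↔ ∀ t, fibEuler π L t = fibEuler π (Coh.structureModule Y) t :=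
  forall_congr' fun _ => ⟨fibEuler_eq_of_isAlgTrivialAt π hL, isAlgTrivialAt_of_fibEuler_eq π hL⟩

end Groth.Agent.H12Pic.PicCurve
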