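import Groth.Agent.H12Pic.PicCurve.EllipticPoint
import Groth.Agent.S6487
import Groth.Agent.H29RR.Consts

/-!
# Modules of degree one on families of genus one curves are good
-/

set_option autoImplicit false
set_option linter.style.haveILetI false
set_option linter.unusedSectionVars false
set_option maxHeartbeats 1200000
set_option backward.isDefEq.respectTransparency.types false

noncomputable section

universe u

open CategoryTheory CategoryTheory.Limits AlgebraicGeometry TopologicalSpace Opposite

namespace Groth.Agent.H12Pic.PicCurve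

open Groth.Agent.H25Theta (pb pT pC pI tI pO)

attribute [local instance] fibreOverField

/-- A geometrically connected smooth proper curve over a field has only constant functions. -/
theorem finrank_h0_structure_geomConnected (K : Type u) [Field K] (Y : Scheme.{u})
    [Y.Over (Spec (CommRingCat.of K))] [IsProper (Y ↘ Spec (CommRingCat.of K))]
    [Smooth (Y ↘ Spec (CommRingCat.of K))] [GeometricallyConnected (Y ↘ Spec (CommRingCat.of K))] :
    Module.finrank K (Coh.HH Y (Coh.structureModule Y) 0) = 1 := by
  haveI := H29RR.isNoetherian_of_proper (k := K) (X := Y)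
  let Ω := AlgebraicClosure K
  let f := Y ↘ Spec (CommRingCat.of K)
  let b := Spec.map (CommRingCat.ofHom (algebraMap K Ω))
  let Z := pullback f b
  letI : Z.Over (Spec (CommRingCat.of Ω)) := ⟨pullback.snd f b⟩
  have hsq : IsPullback (pullback.fst f b) (Z ↘ Spec (CommRingCat.of Ω)) f b := IsPullback.of_hasPullback f b
  haveI : IsProper (Z ↘ Spec (CommRingCat.of Ω)) := MorphismProperty.of_isPullback hsq inferInstance
  haveI : Smooth (Z ↘ Spec (CommRingCat.of Ω)) := MorphismProperty.of_isPullback hsq inferInstance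
  haveI : GeometricallyConnected (Z ↘ Spec (CommRingCat.of Ω)) := MorphismProperty.of_isPullback hsq inferInstance
  haveI := H29RR.isIntegral_of_geomConnected Ω Z
  rw [← H28Int.FieldExt.finrank_HH_bc Ω hsq (H10Coh.isCoh_structureModule' Y) 0,
    (H29RR.hhIso (k := Ω) (H16Derived.KFlat.Stalk.structurePullbackIso (pullback.fst f b)) 0).finrank_eq]
  exact H29RR.finrank_h0_structure Ω Z

variable {Y T : Scheme.{u}} (π : Y ⟶ T) [IsProper π] [SmoothOfRelativeDimension 1 π] [GeometricallyConnected π]

/-- The Euler characteristic on a fibre. -/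
def fibEuler (L : Y.Modules) (t : T) : ℤ :=
  FGA.eulerCharLE (T.residueField t) (π.fiber t) ((Scheme.Modules.pullback (π.fiberι t)).obj L) 1

theorem fibEuler_eq (L : Y.Modules) (t : T) :
    fibEuler π L t = (CohIII.fiberRank π L 0 t : ℤ) - (CohIII.fiberRank π L 1 t : ℤ) := by
  rw [fibEuler, FGA.eulerCharLE, Finset.sum_range_succ, Finset.sum_range_one, pow_zero, one_mul, pow_one,
    neg_one_mul, ← sub_eq_add_neg]
  rfl

theorem fiberRank_structure_zero (t : T) : CohIII.fiberRank π (Coh.structureModule Y) 0 t = 1 := by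
  haveI := smoothOfRelativeDimension_isStableUnderBaseChange.{u} (n := 1)
  let K := T.residueField t
  have hsq : IsPullback (π.fiberι t) (π.fiber t ↘ Spec (CommRingCat.of K)) π (T.fromSpecResidueField t) :=
    IsPullback.of_hasPullback π (T.fromSpecResidueField t)
  haveI : IsProper (π.fiber t ↘ Spec (CommRingCat.of K)) := MorphismProperty.of_isPullback hsq inferInstance
  haveI : SmoothOfRelativeDimension 1 (π.fiber t ↘ Spec (CommRingCat.of K)) :=
    MorphismProperty.of_isPullback hsq inferInstance
  haveI : Smooth (π.fiber t ↘ Spec (CommRingCat.of K)) := SmoothOfRelativeDimension.smooth 1 _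
  haveI : GeometricallyConnected (π.fiber t ↘ Spec (CommRingCat.of K)) :=
    MorphismProperty.of_isPullback hsq inferInstance
  refine Eq.trans ?_ (finrank_h0_structure_geomConnected K (π.fiber t))
  exact (H29RR.hhIso (k := K) (H16Derived.KFlat.Stalk.structurePullbackIso (π.fiberι t)) 0).finrank_eq

/-- Twisting a module of fibrewise degree `d` by the inverse of the ideal of a section gives degree `d + 1`. -/
theorem fibEuler_twist_section (P : T ⟶ Y) (hP : P ≫ π = 𝟙 T) {L N : Y.Modules} (hL : PicF.IsInvertible L)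
    (hN : PicF.IsInvertible N) (eN : CohB1.tensorMod N (ClSub.idealMod P.ker) ≅ Coh.structureModule Y) (t : T) :
    fibEuler π (CohB1.tensorMod L N) t = fibEuler π L t + 1 := by
  haveI := smoothOfRelativeDimension_isStableUnderBaseChange.{u} (n := 1)
  let K := T.residueField t
  let F := π.fiber t
  obtain ⟨hint, hdim⟩ := fibre_of_geometricallyConnected π t
  haveI := hint
  have hsq : IsPullback (π.fiberι t) (F ↘ Spec (CommRingCat.of K)) π (T.fromSpecResidueField t) :=
    IsPullback.of_hasPullback π (T.fromSpecResidueField t)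
  haveI : IsProper (F ↘ Spec (CommRingCat.of K)) := MorphismProperty.of_isPullback hsq inferInstance
  haveI : SmoothOfRelativeDimension 1 (F ↘ Spec (CommRingCat.of K)) :=
    MorphismProperty.of_isPullback hsq inferInstance
  let Q : Spec (CommRingCat.of K) ⟶ F := hsq.lift (T.fromSpecResidueField t ≫ P) (𝟙 _)
    (by rw [Category.assoc, hP, Category.comp_id]; exact (Category.id_comp _).symm)
  have hQ : Q ≫ (F ↘ Spec (CommRingCat.of K)) = 𝟙 _ := hsq.lift_snd _ _ _
  have hc := comap_ker_lift hsq P hP Q hQ (hsq.lift_fst _ _ _)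
  have hI := H12Pic.CurveFam.isEffCartierIdeal_section π P hP
  have hJ := H12Pic.CurveFam.isEffCartierIdeal_section (F ↘ Spec (CommRingCat.of K)) Q hQ
  have hJi := H29Blow.isInvertible_of_isEffCartierIdeal _ hJ
  obtain ⟨eI⟩ := H12Pic.CurveFam.nonempty_pullback_idealMod_comap (π.fiberι t) hI (hc.symm ▸ hJ)
  haveI : IsClosedImmersion (Q ≫ (F ↘ Spec (CommRingCat.of K))) := by rw [hQ]; infer_instance
  haveI : IsClosedImmersion Q := IsClosedImmersion.of_comp Q (F ↘ Spec (CommRingCat.of K))
  haveI hiso : IsIso (Q.ker.subschemeι ≫ (F ↘ Spec (CommRingCat.of K))) := by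
    haveI : IsIso (Q.toImage ≫ Q.imageι ≫ (F ↘ Spec (CommRingCat.of K))) := by
      rw [← Category.assoc, Scheme.Hom.toImage_imageι, hQ]; infer_instance
    exact IsIso.of_isIso_comp_left Q.toImage _
  haveI : IsFinite (Q.ker.subschemeι ≫ (F ↘ Spec (CommRingCat.of K))) := inferInstance
  have hd := finrank_subscheme_eq_euler (K := K) (Y := F) Q.ker hJi (IsLocalRing.closedPoint K)
  have hr : (Q.ker.subschemeι ≫ (F ↘ Spec (CommRingCat.of K))).finrank (IsLocalRing.closedPoint K) = 1 :=
    congrFun (Scheme.Hom.finrank_eq_one_of_isIso (Q.ker.subschemeι ≫ (F ↘ Spec (CommRingCat.of K)))) _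
  let G := Scheme.Modules.pullback (π.fiberι t)
  have hLt := H11Ample.isInvertible_pullback (π.fiberι t) hL
  have hNt := H11Ample.isInvertible_pullback (π.fiberι t) hN
  have h1 := H29RR.deg_congr (k := K) (tI (Iso.refl (G.obj N)) (eI ≪≫ eqToIso (congrArg ClSub.idealMod hc)).symm ≪≫
    (pT (π.fiberι t) N _).symm ≪≫ G.mapIso eN ≪≫ H16Derived.KFlat.Stalk.structurePullbackIso (π.fiberι t))
  rw [H29RR.deg_structureModule, H29RR.deg_tensor (k := K) hdim hNt hJi, H29RR.deg_def (k := K) (ClSub.idealMod _)] at h1
  have h2 := H29RR.deg_congr (k := K) (pT (π.fiberι t) L N)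
  rw [H29RR.deg_tensor (k := K) hdim hLt hNt, H29RR.deg_def (k := K) (pb _ (CohB1.tensorMod L N)),
    H29RR.deg_def (k := K) (pb _ L)] at h2
  have he : ∀ M : Y.Modules, fibEuler π M t = Curv2.euler K F (G.obj M) := fun M => by
    rw [fibEuler_eq, H29RR.euler_eq_sub (k := K) hdim]; rfl
  rw [he, he]
  dsimp only [pb, F, G] at h1 h2 hd hr ⊢
  omega

/-- Modules of degree one on a family of genus one curves are good. -/
theorem isGood_of_euler_one (hg : ∀ t : T, fibEuler π (Coh.structureModule Y) t = 0) {L : Y.Modules}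
    (hL : PicF.IsInvertible L) (h : ∀ t : T, fibEuler π L t = 1) :
    IsGood π L ∧ ∀ t : T, CohIII.fiberRank π (Coh.structureModule Y) 0 t = 1 ∧
      CohIII.fiberRank π (Coh.structureModule Y) 1 t = 1 := by
  haveI := smoothOfRelativeDimension_isStableUnderBaseChange.{u} (n := 1)
  have hO : ∀ t : T, CohIII.fiberRank π (Coh.structureModule Y) 0 t = 1 ∧
      CohIII.fiberRank π (Coh.structureModule Y) 1 t = 1 := fun t => by
    have h0 := fiberRank_structure_zero π t
    have := hg t
    rw [fibEuler_eq, h0] at this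
    exact ⟨h0, by omega⟩
  refine ⟨fun t => ?_, hO⟩
  let K := T.residueField t
  let F := π.fiber t
  obtain ⟨hint, hdim⟩ := fibre_of_geometricallyConnected π t
  haveI := hint
  have hsq : IsPullback (π.fiberι t) (F ↘ Spec (CommRingCat.of K)) π (T.fromSpecResidueField t) :=
    IsPullback.of_hasPullback π (T.fromSpecResidueField t)
  haveI : IsProper (F ↘ Spec (CommRingCat.of K)) := MorphismProperty.of_isPullback hsq inferInstance
  haveI : SmoothOfRelativeDimension 1 (F ↘ Spec (CommRingCat.of K)) :=
    MorphismProperty.of_isPullback hsq inferInstance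
  haveI : Smooth (F ↘ Spec (CommRingCat.of K)) := SmoothOfRelativeDimension.smooth 1 _
  haveI : GeometricallyConnected (F ↘ Spec (CommRingCat.of K)) := MorphismProperty.of_isPullback hsq inferInstance
  haveI := H29RR.isNoetherian_of_proper (k := K) (X := F)
  have hdim1 : topologicalKrullDim F = 1 := by
    rw [← H8Props.FieldDim.localDim_eq_dim_of_irreducible (F ↘ Spec (CommRingCat.of K)) (genericPoint _),
      H8Props.FieldDim.localDim_eq_of_smooth (F ↘ Spec (CommRingCat.of K)) 1, Nat.cast_one]
  let s := H16Derived.KFlat.Stalk.structurePullbackIso (π.fiberι t)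
  have hgen : Curv2.genus K F = 1 := Eq.trans (by exact ((H29RR.hhIso (k := K) s 1).finrank_eq).symm) (hO t).2
  have hL1 : Curv2.deg K F ((Scheme.Modules.pullback (π.fiberι t)).obj L) 1 = 1 := by
    rw [H29RR.deg_def, H29RR.euler_eq_sub (k := K) hdim,
      ← H25Euler.euler_congr s, H29RR.euler_eq_sub (k := K) hdim]
    show ((CohIII.fiberRank π L 0 t : ℤ) - CohIII.fiberRank π L 1 t) -
      ((CohIII.fiberRank π (Coh.structureModule Y) 0 t : ℤ) - CohIII.fiberRank π (Coh.structureModule Y) 1 t) = 1
    rw [← fibEuler_eq, ← fibEuler_eq, h, hg]; rfl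
  haveI := S6487.h1_vanish K F hdim1 (H11Ample.isInvertible_pullback (π.fiberι t) hL) (by rw [hgen, hL1]; norm_num)
  have h1 : CohIII.fiberRank π L 1 t = 0 :=
    Module.finrank_zero_of_subsingleton (R := K) (M := Coh.HH F ((Scheme.Modules.pullback (π.fiberι t)).obj L) 1)
  have := h t
  rw [fibEuler_eq, h1] at this
  exact ⟨by omega, h1⟩

end Groth.Agent.H12Pic.PicCurve
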