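import Groth.Agent.H12Pic.PicCurve.AddPointH0
import Groth.Agent.H12Pic.PicCurve.EllipticGood
import Groth.Agent.H12Pic.PicCurve.DegreeClass
import Groth.Agent.H28Vert.IdealProd
import Groth.Agent.H27CurveDiv.Flag
import Groth.Agent.LeadBC.GenBC.Semicont

/-!
# Sections of a relative curve are determined by their modules when sections do not move
-/

set_option autoImplicit false
set_option linter.style.haveILetI false
set_option linter.unusedSectionVars false
set_option maxHeartbeats 1600000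
set_option backward.isDefEq.respectTransparency.types false

noncomputable section

universe u

open CategoryTheory CategoryTheory.Limits AlgebraicGeometry TopologicalSpace Opposite

namespace Groth.Agent.H12Pic.PicCurve

open Groth.Agent.H25Theta (pb pT pC pI tI pO)

attribute [local instance] fibreOverField

/-- Two sections with a common complement `E` whose sums give the same module. -/
structure AbelData {Y T : Scheme.{u}} (π : Y ⟶ T) where
  P : T ⟶ Y
  Q : T ⟶ Y
  hP : P ≫ π = 𝟙 T
  hQ : Q ≫ π = 𝟙 T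
  E : Y.IdealSheafData
  hE : BlowUp.IsEffCartierIdeal E
  hEf : ∀ t, BlowUp.IsEffCartierIdeal (E.comap (π.fiberι t))
  L : Y.Modules
  hL : PicF.IsInvertible L
  e : Nonempty (CohB1.tensorMod (ClSub.idealMod (P.ker * E)) L ≅ Coh.structureModule Y)
  e' : Nonempty (CohB1.tensorMod (ClSub.idealMod (Q.ker * E)) L ≅ Coh.structureModule Y)

variable {Y T : Scheme.{u}} {π : Y ⟶ T} [IsProper π] [SmoothOfRelativeDimension 1 π]

theorem AbelData.flat (d : AbelData π) : Flat (d.E.subschemeι ≫ π) := by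
  haveI : Smooth π := SmoothOfRelativeDimension.smooth 1 π
  exact (H29Slice.isEffCartier_and_flat_of_fibres π d.E (fun x _ => by
    obtain ⟨U, hxU, a, -, hU⟩ := d.hE x
    exact ⟨U, hxU, a, hU⟩) d.hEf).2

/-- Base change of the data. -/
theorem AbelData.exists_pullback (d : AbelData π) {Y' T' : Scheme.{u}} {π' : Y' ⟶ T'} [IsProper π']
    [SmoothOfRelativeDimension 1 π'] {g : Y' ⟶ Y} {b : T' ⟶ T} (hsq : IsPullback g π' π b) :
    ∃ d' : AbelData π', d'.L = pb g d.L ∧ d'.P ≫ g = b ≫ d.P ∧ d'.Q ≫ g = b ≫ d.Q := by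
  haveI := d.flat
  let P' : T' ⟶ Y' := hsq.lift (b ≫ d.P) (𝟙 _) (by rw [Category.assoc, d.hP, Category.comp_id, Category.id_comp])
  let Q' : T' ⟶ Y' := hsq.lift (b ≫ d.Q) (𝟙 _) (by rw [Category.assoc, d.hQ, Category.comp_id, Category.id_comp])
  have hE' : BlowUp.IsEffCartierIdeal (d.E.comap g) := H13Cartier.isEffCartierIdeal_comap_of_relative hsq d.hE
  have hEf' : ∀ t, BlowUp.IsEffCartierIdeal ((d.E.comap g).comap (π'.fiberι t)) := fun t => by
    rw [← Scheme.IdealSheafData.comap_comp]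
    exact H13Cartier.isEffCartierIdeal_comap_of_relative
      ((IsPullback.of_hasPullback π' (T'.fromSpecResidueField t)).paste_horiz hsq) d.hE
  have key : ∀ (R : T ⟶ Y) (hR : R ≫ π = 𝟙 T) (R' : T' ⟶ Y') (hR' : R' ≫ π' = 𝟙 T') (hg : R' ≫ g = b ≫ R),
      Nonempty (CohB1.tensorMod (ClSub.idealMod (R.ker * d.E)) d.L ≅ Coh.structureModule Y) →
      Nonempty (CohB1.tensorMod (ClSub.idealMod (R'.ker * d.E.comap g)) (pb g d.L) ≅ Coh.structureModule Y') := by
    rintro R hR R' hR' hg ⟨e⟩
    have hc : (R.ker * d.E).comap g = R'.ker * d.E.comap g := by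
      rw [H29Blow.comap_mul, comap_ker_lift hsq R hR R' hR' hg]
    obtain ⟨eI⟩ := H12Pic.CurveFam.nonempty_pullback_idealMod_comap g
      (H29Blow.isEffCartierIdeal_mul (H12Pic.CurveFam.isEffCartierIdeal_section π R hR) d.hE)
      (hc.symm ▸ H29Blow.isEffCartierIdeal_mul (H12Pic.CurveFam.isEffCartierIdeal_section π' R' hR') hE')
    exact ⟨tI (eI ≪≫ eqToIso (congrArg ClSub.idealMod hc)).symm (Iso.refl _) ≪≫ (pT g _ _).symm ≪≫
      (Scheme.Modules.pullback g).mapIso e ≪≫ pO g⟩
  exact ⟨⟨P', Q', hsq.lift_snd _ _ _, hsq.lift_snd _ _ _, d.E.comap g, hE', hEf', pb g d.L,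
    H11Ample.isInvertible_pullback g d.hL, key d.P d.hP P' (hsq.lift_snd _ _ _) (hsq.lift_fst _ _ _) d.e,
    key d.Q d.hQ Q' (hsq.lift_snd _ _ _) (hsq.lift_fst _ _ _) d.e'⟩, rfl, hsq.lift_fst _ _ _, hsq.lift_fst _ _ _⟩

/-- Adding a section to the complement. -/
theorem AbelData.exists_addPoint (d : AbelData π) (R : T ⟶ Y) (hR : R ≫ π = 𝟙 T) {N : Y.Modules}
    (hN : PicF.IsInvertible N) (eN : CohB1.tensorMod N (ClSub.idealMod R.ker) ≅ Coh.structureModule Y) :
    ∃ d' : AbelData π, d'.L = CohB1.tensorMod d.L N ∧ d'.P = d.P ∧ d'.Q = d.Q := by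
  have hRc := H12Pic.CurveFam.isEffCartierIdeal_section π R hR
  have key : ∀ (R' : T ⟶ Y), R' ≫ π = 𝟙 T →
      Nonempty (CohB1.tensorMod (ClSub.idealMod (R'.ker * d.E)) d.L ≅ Coh.structureModule Y) →
      Nonempty (CohB1.tensorMod (ClSub.idealMod (R'.ker * (d.E * R.ker))) (CohB1.tensorMod d.L N) ≅
        Coh.structureModule Y) := by
    rintro R' hR' ⟨e⟩
    have h1 := H29Blow.isEffCartierIdeal_mul (H12Pic.CurveFam.isEffCartierIdeal_section π R' hR') d.hE
    obtain ⟨m⟩ := H28Vert.nonempty_idealMod_mul h1 hRc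
    let A := ClSub.idealMod (R'.ker * d.E)
    let B := ClSub.idealMod R.ker
    exact ⟨tI (eqToIso (congrArg ClSub.idealMod (mul_assoc R'.ker d.E R.ker).symm) ≪≫ m.symm) (Iso.refl _) ≪≫
      H10Coh.Tw.assoc A B _ ≪≫ tI (Iso.refl A) ((H10Coh.Tw.assoc B d.L N).symm ≪≫
        tI (H10Coh.Tw.commIso B d.L) (Iso.refl N) ≪≫ H10Coh.Tw.assoc d.L B N) ≪≫
      (H10Coh.Tw.assoc A d.L _).symm ≪≫ tI e (H10Coh.Tw.commIso B N ≪≫ eN) ≪≫ H10Coh.Tw.rightUnitIso _⟩
  exact ⟨⟨d.P, d.Q, d.hP, d.hQ, d.E * R.ker, H29Blow.isEffCartierIdeal_mul d.hE hRc, fun t => by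
    rw [H29Blow.comap_mul]
    exact H29Blow.isEffCartierIdeal_mul (d.hEf t) (isEffCartierIdeal_fibre_section π R hR t),
    CohB1.tensorMod d.L N, H11Ample.isInvertible_tensor d.hL hN, key d.P d.hP d.e, key d.Q d.hQ d.e'⟩, rfl, rfl, rfl⟩

variable [GeometricallyConnected π]

/-- Without first cohomology the sections agree. -/
theorem AbelData.eq_of_good (d : AbelData π) (hg : IsGood π d.L) : d.P = d.Q := by
  haveI : Smooth π := SmoothOfRelativeDimension.smooth 1 π
  have hc : ∀ (R : T ⟶ Y), R ≫ π = 𝟙 T → BlowUp.IsEffCartierIdeal (R.ker * d.E) ∧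
      ∀ t, BlowUp.IsEffCartierIdeal ((R.ker * d.E).comap (π.fiberι t)) := fun R hR =>
    ⟨H29Blow.isEffCartierIdeal_mul (H12Pic.CurveFam.isEffCartierIdeal_section π R hR) d.hE, fun t => by
      rw [H29Blow.comap_mul]
      exact H29Blow.isEffCartierIdeal_mul (isEffCartierIdeal_fibre_section π R hR t) (d.hEf t)⟩
  have h := divisor_unique π d.hL (fun t => (fibre_of_geometricallyConnected π t).1) hg (hc _ d.hP).1 (hc _ d.hQ).1
    (hc _ d.hP).2 (hc _ d.hQ).2 d.e.some d.e'.some
  rw [mul_comm d.P.ker, mul_comm d.Q.ker] at h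
  exact section_eq_of_ker_eq d.hP d.hQ (H27CurveDiv.eq_of_mul_eq_mul d.hE h)

/-- Adding a section and restricting to a field valued point. -/
theorem pullback_addPoint (R : T ⟶ Y) (hR : R ≫ π = 𝟙 T) {L N : Y.Modules}
    (eN : CohB1.tensorMod N (ClSub.idealMod R.ker) ≅ Coh.structureModule Y) {F T' : Scheme.{u}} {π' : F ⟶ T'}
    [IsProper π'] [SmoothOfRelativeDimension 1 π'] {g : F ⟶ Y} {b : T' ⟶ T} (hsq : IsPullback g π' π b)
    (R' : T' ⟶ F) (hR' : R' ≫ π' = 𝟙 T') (hg : R' ≫ g = b ≫ R) :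
    Nonempty (CohB1.tensorMod (ClSub.idealMod R'.ker) (pb g (CohB1.tensorMod L N)) ≅ pb g L) := by
  have hc := comap_ker_lift hsq R hR R' hR' hg
  obtain ⟨eI⟩ := H12Pic.CurveFam.nonempty_pullback_idealMod_comap g
    (H12Pic.CurveFam.isEffCartierIdeal_section π R hR)
    (hc.symm ▸ H12Pic.CurveFam.isEffCartierIdeal_section π' R' hR')
  exact ⟨tI (eI ≪≫ eqToIso (congrArg ClSub.idealMod hc)).symm (Iso.refl _) ≪≫ (pT g _ _).symm ≪≫
    (Scheme.Modules.pullback g).mapIso (H10Coh.Tw.commIso _ _ ≪≫ H10Coh.Tw.assoc L N _ ≪≫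
      tI (Iso.refl L) eN ≪≫ H10Coh.Tw.rightUnitIso L)⟩

/-- Adding a section does not lose sections on the fibres. -/
theorem fiberRank_zero_le_addPoint (R : T ⟶ Y) (hR : R ≫ π = 𝟙 T) {L N : Y.Modules} (hL : PicF.IsInvertible L)
    (hN : PicF.IsInvertible N) (eN : CohB1.tensorMod N (ClSub.idealMod R.ker) ≅ Coh.structureModule Y) (t : T) :
    CohIII.fiberRank π L 0 t ≤ CohIII.fiberRank π (CohB1.tensorMod L N) 0 t := by
  haveI := smoothOfRelativeDimension_isStableUnderBaseChange.{u} (n := 1)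
  let K := T.residueField t
  let F := π.fiber t
  have hsq : IsPullback (π.fiberι t) (F ↘ Spec (CommRingCat.of K)) π (T.fromSpecResidueField t) :=
    IsPullback.of_hasPullback π (T.fromSpecResidueField t)
  haveI : IsProper (F ↘ Spec (CommRingCat.of K)) := MorphismProperty.of_isPullback hsq inferInstance
  haveI : SmoothOfRelativeDimension 1 (F ↘ Spec (CommRingCat.of K)) :=
    MorphismProperty.of_isPullback hsq inferInstance
  haveI := (fibre_of_geometricallyConnected π t).1
  let τ : Spec (CommRingCat.of K) ⟶ F := hsq.lift (T.fromSpecResidueField t ≫ R) (𝟙 _)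
    (by rw [Category.assoc, hR, Category.comp_id]; exact (Category.id_comp _).symm)
  obtain ⟨e⟩ := pullback_addPoint R hR (L := L) eN hsq τ (hsq.lift_snd _ _ _) (hsq.lift_fst _ _ _)
  obtain ⟨hx, hk, -⟩ := S6487.section_pt τ (hsq.lift_snd _ _ _)
  rw [hk] at e
  have hI : PicF.IsInvertible (ClSub.idealMod (H29RR.ptIdeal (τ (IsLocalRing.closedPoint K)))) :=
    hk ▸ H29Blow.isInvertible_of_isEffCartierIdeal _
      (H12Pic.CurveFam.isEffCartierIdeal_section (F ↘ Spec (CommRingCat.of K)) τ (hsq.lift_snd _ _ _))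
  have h := (H29RR.twist_point (k := K) hx (H11Ample.isInvertible_pullback (π.fiberι t)
    (H11Ample.isInvertible_tensor hL hN)) (H11Ample.isCoh_of_isInvertible hI)).1
  exact ((H29RR.hhIso (k := K) e 0).finrank_eq.symm).trans_le h

omit [IsProper π] [SmoothOfRelativeDimension 1 π] [GeometricallyConnected π] in
/-- Two sections whose sums with a common complement give the same module, with one section on every
fibre, are equal. -/
theorem eq_of_abelData : ∀ (n : ℕ) {Y T : Scheme.{u}} (π : Y ⟶ T) [IsProper π] [SmoothOfRelativeDimension 1 π]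
    [GeometricallyConnected π] (d : AbelData π),
    (∀ t, CohIII.fiberRank π d.L 0 t = 1) → (∀ t, CohIII.fiberRank π d.L 1 t = n) → d.P = d.Q := by
  intro n
  induction n with
  | zero => exact fun {Y T} π _ _ _ d h0 h1 => d.eq_of_good fun t => ⟨h0 t, h1 t⟩
  | succ n ih =>
    intro Y T π _ _ _ d h0 h1
    haveI := smoothOfRelativeDimension_isStableUnderBaseChange.{u} (n := 1)
    haveI : Smooth π := SmoothOfRelativeDimension.smooth 1 π
    -- the tautological point
    let Y' := pullback π π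
    let π' : Y' ⟶ Y := pullback.snd π π
    let g : Y' ⟶ Y := pullback.fst π π
    have hsq : IsPullback g π' π π := IsPullback.of_hasPullback π π
    haveI : IsProper π' := MorphismProperty.of_isPullback hsq inferInstance
    haveI : SmoothOfRelativeDimension 1 π' := MorphismProperty.of_isPullback hsq inferInstance
    haveI : Smooth π' := SmoothOfRelativeDimension.smooth 1 π'
    haveI : GeometricallyConnected π' := MorphismProperty.of_isPullback hsq inferInstance
    let R := pullback.diagonal π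
    have hR : R ≫ π' = 𝟙 Y := pullback.diagonal_snd π
    obtain ⟨N, hN, ⟨eN⟩⟩ := H11Sym.exists_inverse
      (H29Blow.isInvertible_of_isEffCartierIdeal _ (H12Pic.CurveFam.isEffCartierIdeal_section π' R hR))
    obtain ⟨d₁, hd₁L, hd₁P, hd₁Q⟩ := d.exists_pullback hsq
    obtain ⟨d₂, hd₂L, hd₂P, hd₂Q⟩ := d₁.exists_addPoint R hR hN eN
    have hgL : PicF.IsInvertible (pb g d.L) := H11Ample.isInvertible_pullback g d.hL
    have hr : ∀ p y, CohIII.fiberRank π' (pb g d.L) p y = CohIII.fiberRank π d.L p (π y) :=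
      fun p y => fiberRank_pullback π d.hL hsq p y
    have hlow : ∀ y, 1 ≤ CohIII.fiberRank π' d₂.L 0 y := fun y => by
      rw [hd₂L, hd₁L]
      refine le_trans (le_of_eq ?_) (fiberRank_zero_le_addPoint R hR hgL hN eN y)
      rw [hr, h0]
    have heul : ∀ y, fibEuler π' d₂.L y = fibEuler π' (pb g d.L) y + 1 := fun y => by
      rw [hd₂L, hd₁L]
      exact fibEuler_twist_section π' R hR hgL hN eN y
    have hlf := H28Pinch.isFinLocFree_of_isInvertible d₂.hL
    haveI : d₂.L.IsQuasicoherent := H28Mero.isQCoh_of_isInvertible d₂.hL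
    have husc : UpperSemicontinuous (CohIII.fiberRank π' d₂.L 0) :=
      LeadBC.GenBC.upperSemicontinuous_fiberRank π' d₂.L
        (H8Props.FinLocFree.isFP_of_isFinLocFree _ hlf) (H10Coh.SheafHom.isFlatOver_of_isFinLocFree π' _ hlf) 0
    let V : Y.Opens := ⟨{y | CohIII.fiberRank π' d₂.L 0 y ≤ 1}, by
      have h := upperSemicontinuous_iff_isOpen_preimage.1 husc 2
      convert h using 1
      ext y
      exact Nat.lt_succ_iff.symm⟩
    have hV0 : ∀ y ∈ V, CohIII.fiberRank π' d₂.L 0 y = 1 ∧ CohIII.fiberRank π' d₂.L 1 y = n := by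
      intro y hy
      have hy' : CohIII.fiberRank π' d₂.L 0 y = 1 := le_antisymm hy (hlow y)
      have h := heul y
      rw [fibEuler_eq, fibEuler_eq, hy', hr, hr, h0, h1] at h
      exact ⟨hy', by push_cast at h; omega⟩
    -- restrict to the good locus
    let π'' := π' ∣_ V
    have hsqV : IsPullback (π' ⁻¹ᵁ V).ι π'' π' V.ι := (isPullback_morphismRestrict π' V).flip
    haveI : IsProper π'' := MorphismProperty.of_isPullback hsqV inferInstance
    haveI : SmoothOfRelativeDimension 1 π'' := MorphismProperty.of_isPullback hsqV inferInstance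
    haveI : GeometricallyConnected π'' := MorphismProperty.of_isPullback hsqV inferInstance
    obtain ⟨d₃, hd₃L, hd₃P, hd₃Q⟩ := d₂.exists_pullback hsqV
    have hPQ : d₃.P = d₃.Q := ih π'' d₃
      (fun v => by rw [hd₃L, fiberRank_pullback π' d₂.hL hsqV]; exact (hV0 _ v.2).1)
      (fun v => by rw [hd₃L, fiberRank_pullback π' d₂.hL hsqV]; exact (hV0 _ v.2).2)
    have heq : (V.ι ≫ π) ≫ d.P = (V.ι ≫ π) ≫ d.Q := by
      rw [Category.assoc, Category.assoc, ← hd₁P, ← hd₁Q, ← hd₂P, ← hd₂Q, ← Category.assoc, ← hd₃P,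
        ← Category.assoc V.ι, ← hd₃Q, hPQ]
    -- every fibre meets the good locus
    haveI : Surjective (V.ι ≫ π) := ⟨fun t => by
      let Ω := AlgebraicClosure (T.residueField t)
      let b : Spec (CommRingCat.of Ω) ⟶ T :=
        Spec.map (CommRingCat.ofHom (algebraMap (T.residueField t) Ω)) ≫ T.fromSpecResidueField t
      have hbt : b (IsLocalRing.closedPoint Ω) = t := by
        show (Spec.map _ ≫ T.fromSpecResidueField t) _ = t
        rw [Scheme.Hom.comp_apply, Scheme.fromSpecResidueField_apply]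
      let F := pullback π b
      letI : F.Over (Spec (CommRingCat.of Ω)) := ⟨pullback.snd π b⟩
      have hF : IsPullback (pullback.fst π b) (F ↘ Spec (CommRingCat.of Ω)) π b := IsPullback.of_hasPullback π b
      haveI : IsProper (F ↘ Spec (CommRingCat.of Ω)) := MorphismProperty.of_isPullback hF inferInstance
      haveI : SmoothOfRelativeDimension 1 (F ↘ Spec (CommRingCat.of Ω)) := MorphismProperty.of_isPullback hF inferInstance
      haveI : Smooth (F ↘ Spec (CommRingCat.of Ω)) := SmoothOfRelativeDimension.smooth 1 _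
      haveI : GeometricallyConnected (F ↘ Spec (CommRingCat.of Ω)) := MorphismProperty.of_isPullback hF inferInstance
      obtain ⟨hint, hdim⟩ := curve_facts Ω F
      haveI := hint
      haveI := H29RR.isNoetherian_of_proper (k := Ω) (X := F)
      let LF := pb (pullback.fst π b) d.L
      have hLF : PicF.IsInvertible LF := H11Ample.isInvertible_pullback _ d.hL
      have r0 : Module.finrank Ω (Coh.HH F LF 0) = 1 := by rw [finrank_HH_point π d.hL b hF 0, hbt, h0]
      have r1 : Module.finrank Ω (Coh.HH F LF 1) = n + 1 := by rw [finrank_HH_point π d.hL b hF 1, hbt, h1]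
      obtain ⟨x, hx, hI, L', hL', ⟨e₁⟩, hh⟩ := exists_point_add_h0_eq (k := Ω) hdim hLF
        (Module.nontrivial_of_finrank_pos (R := Ω) (show 0 < Module.finrank Ω (Coh.HH F LF 1) by omega))
      let τ : Spec (CommRingCat.of Ω) ⟶ F := pointOfClosedPoint (F ↘ Spec (CommRingCat.of Ω)) x hx
      have hτ : τ ≫ (F ↘ Spec (CommRingCat.of Ω)) = 𝟙 _ := pointOfClosedPoint_comp _ _ _
      let y' : Spec (CommRingCat.of Ω) ⟶ Y := τ ≫ pullback.fst π b
      have hy' : y' ≫ π = b := by
        show (τ ≫ pullback.fst π b) ≫ π = b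
        rw [Category.assoc, hF.w, ← Category.assoc, hτ, Category.id_comp]
      let q : F ⟶ Y' := pullback.lift (pullback.fst π b) ((F ↘ Spec (CommRingCat.of Ω)) ≫ y') (by
        rw [Category.assoc, hy', hF.w])
      have hq : IsPullback q (F ↘ Spec (CommRingCat.of Ω)) π' y' := by
        refine IsPullback.of_right ?_ (pullback.lift_snd _ _ _) hsq
        rw [pullback.lift_fst, hy']
        exact hF
      have hτq : τ ≫ q = y' ≫ R := by
        apply pullback.hom_ext
        · rw [Category.assoc, pullback.lift_fst, Category.assoc, pullback.diagonal_fst, Category.comp_id]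
        · rw [Category.assoc, pullback.lift_snd, ← Category.assoc, hτ, Category.id_comp, Category.assoc,
            pullback.diagonal_snd, Category.comp_id]
      obtain ⟨ea⟩ := pullback_addPoint (π := π') R hR (L := pb g d.L) eN hq τ hτ hτq
      have hker : τ.ker = H29RR.ptIdeal x := by
        haveI := H29RR.isClosedImmersion_pt hx
        show (pointOfClosedPoint _ x hx).ker = _
        rw [pointOfClosedPoint, Scheme.Hom.ker_comp_of_isIso]
      obtain ⟨e₂⟩ := H25Theta.cancel_right hI (A := pb q (CohB1.tensorMod (pb g d.L) N)) (B := L')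
        ⟨H10Coh.Tw.commIso _ _ ≪≫ tI (eqToIso (congrArg ClSub.idealMod hker.symm)) (Iso.refl _) ≪≫ ea ≪≫
          pC q g (pullback.lift_fst _ _ _) d.L ≪≫ e₁ ≪≫ H10Coh.Tw.commIso _ _⟩
      have hfr : CohIII.fiberRank π' d₂.L 0 (y' (IsLocalRing.closedPoint Ω)) = 1 := by
        rw [hd₂L, hd₁L, ← finrank_HH_point π' (H11Ample.isInvertible_tensor hgL hN) y' hq 0]
        exact ((H29RR.hhIso (k := Ω) e₂ 0).finrank_eq.trans hh).trans r0
      refine ⟨(⟨y' (IsLocalRing.closedPoint Ω), le_of_eq hfr⟩ : V), ?_⟩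
      rw [Scheme.Hom.comp_apply]
      show π (y' (IsLocalRing.closedPoint Ω)) = t
      rw [← Scheme.Hom.comp_apply, hy', hbt]⟩
    haveI : Epi (V.ι ≫ π) := Flat.epi_of_flat_of_surjective _
    exact (cancel_epi _).1 heq

end Groth.Agent.H12Pic.PicCurve
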