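import Groth.Agent.H12Pic.PicCurve.Good
import Groth.Agent.H28Bc.EulerConst
import Groth.Agent.H12Pic.RigPoints
import Groth.Agent.H12Pic.PicSeparated
import Groth.Agent.H27HilbOps.Basic
import Groth.Prelude.Def_FGA
import Groth.Prelude.Def_AbDual

/-!
# The degree as a function on the Picard scheme of a relative curve
-/

set_option autoImplicit false
set_option linter.style.haveILetI false
set_option linter.unusedSectionVars false
set_option maxHeartbeats 1200000
set_option backward.isDefEq.respectTransparency.types false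

noncomputable section

universe u

open CategoryTheory CategoryTheory.Limits AlgebraicGeometry TopologicalSpace Opposite

namespace Groth.Agent.H12Pic.PicCurve

open Groth.Agent.H17.PullCl Groth.Agent.H12Pic.RigPoints
open Groth.Agent.H25Theta (pb pT pC pI tI pO)

attribute [local instance] fibreOverField

section

variable {Y T : Scheme.{u}} (π : Y ⟶ T) [IsProper π]

/-- The Euler characteristic in degrees at most one on a fibre. -/
def rankDiff (F : Y.Modules) (t : T) : ℤ :=
  (CohIII.fiberRank π F 0 t : ℤ) - (CohIII.fiberRank π F 1 t : ℤ)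

theorem eulerChar_eq_rankDiff (hdim : ∀ t, topologicalKrullDim (π.fiber t) ≤ 1) (F : Y.Modules) (t : T) :
    PerfAux.eulerChar π F t = rankDiff π F t := by
  have hb : ∀ i, PerfAux.betti π F t i = CohIII.fiberRank π F i t := fun i => rfl
  have hv : ∀ i, 2 ≤ i → PerfAux.betti π F t i = 0 := fun i hi => by
    haveI : IsProper (π.fiber t ↘ Spec (CommRingCat.of (T.residueField t))) :=
      MorphismProperty.of_isPullback (IsPullback.of_hasPullback π (T.fromSpecResidueField t)) inferInstance
    haveI := H29RR.isNoetherian_of_proper (k := T.residueField t) (X := π.fiber t)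
    haveI : Subsingleton (PerfAux.fiberH π F t i) :=
      LeadVan.subsingleton_H_of_dim_le 1 (by exact_mod_cast hdim t) _ i (by omega)
    exact Module.finrank_zero_of_subsingleton
  rw [PerfAux.eulerChar, finsum_eq_sum_of_support_subset (s := Finset.range 2) _ ?_, Finset.sum_range_succ,
    Finset.sum_range_one, hb, hb, rankDiff, pow_zero, one_mul, pow_one, neg_one_mul, ← sub_eq_add_neg]
  intro i hi
  rw [Finset.coe_range, Set.mem_Iio]
  by_contra hlt
  exact hi (by show (-1 : ℤ) ^ i * _ = 0; rw [hv i (by omega)]; simp)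

theorem isLocallyConstant_rankDiff [Flat π] [LocallyOfFinitePresentation π]
    (hdim : ∀ t, topologicalKrullDim (π.fiber t) ≤ 1) {F : Y.Modules} (hF : PicF.IsInvertible F) :
    IsLocallyConstant (rankDiff π F) := by
  have hlf := H28Pinch.isFinLocFree_of_isInvertible hF
  haveI : F.IsQuasicoherent := H28Mero.isQCoh_of_isInvertible hF
  have h := H28Bc.isLocallyConstant_eulerChar π F (H8Props.FinLocFree.isFP_of_isFinLocFree F hlf)
    (H10Coh.SheafHom.isFlatOver_of_isFinLocFree π F hlf)
  rwa [show (fun t => PerfAux.eulerChar π F t) = rankDiff π F from funext (eulerChar_eq_rankDiff π hdim F)] at h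

theorem rankDiff_congr {F G : Y.Modules} (e : F ≅ G) (t : T) : rankDiff π F t = rankDiff π G t :=
  congrArg₂ (fun a b : ℕ => (a : ℤ) - b)
    (H29RR.hhIso (k := T.residueField t) ((Scheme.Modules.pullback (π.fiberι t)).mapIso e) 0).finrank_eq
    (H29RR.hhIso (k := T.residueField t) ((Scheme.Modules.pullback (π.fiberι t)).mapIso e) 1).finrank_eq

theorem rankDiff_pullback {F : Y.Modules} (hF : PicF.IsInvertible F) {Y' T' : Scheme.{u}} {π' : Y' ⟶ T'}
    [IsProper π'] {q : T' ⟶ T} {q' : Y' ⟶ Y} (h : IsPullback q' π' π q) (t : T') :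
    rankDiff π' (pb q' F) t = rankDiff π F (q t) := by
  rw [rankDiff, rankDiff, fiberRank_pullback π hF h, fiberRank_pullback π hF h]

end

variable {C S : Scheme.{u}} (f : C ⟶ S) [IsProper f]

theorem isProper_XTproj (T : Over S) : IsProper (PicF.XTproj f T) :=
  MorphismProperty.pullback_snd (P := @IsProper) f T.hom inferInstance

/-- The degree on a fibre of a family. -/
def degAt (T : Over S) (L : (PicF.XT f T).Modules) (t : T.left) : ℤ :=
  rankDiff (PicF.XTproj f T) L t - rankDiff (PicF.XTproj f T) (Coh.structureModule _) t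

theorem degAt_congr {T : Over S} {L L' : (PicF.XT f T).Modules} (e : L ≅ L') (t : T.left) :
    degAt f T L t = degAt f T L' t := by
  haveI := isProper_XTproj f T
  rw [degAt, degAt, rankDiff_congr _ e]

theorem degAt_pullback {T T' : Over S} (g : T' ⟶ T) {L : (PicF.XT f T).Modules} (hL : PicF.IsInvertible L)
    (t : T'.left) : degAt f T' (pb (PicF.XTmap f g) L) t = degAt f T L (g.left t) := by
  haveI := isProper_XTproj f T
  haveI := isProper_XTproj f T'
  have hsq := H27HilbOps.isPullback_XTmap f g
  rw [degAt, degAt, rankDiff_pullback _ hL hsq,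
    ← rankDiff_pullback _ (H11Ample.isInvertible_structureModule (X := PicF.XT f T)) hsq,
    ← rankDiff_congr _ (H16Derived.KFlat.Stalk.structurePullbackIso (PicF.XTmap f g))]

variable (P : Over S) (φ : ∀ T : Over S, PicF.Cl (PicF.XT f T) → (T ⟶ P))
  (hP : AbDual.IsRelPicK Scheme.fppfPrecoverage f P φ)

include hP in
/-- Classes with the same point have the same degree. -/
theorem degAt_eq_of_phi_eq (T : Over S) {L L' : (PicF.XT f T).Modules} (hL : PicF.IsInvertible L)
    (hL' : PicF.IsInvertible L') (h : φ T (PicF.cl L) = φ T (PicF.cl L')) (t : T.left) :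
    degAt f T L t = degAt f T L' t := by
  obtain ⟨R, hR, hR'⟩ := hP.locallyInjective T _ _ ⟨L, rfl, hL⟩ ⟨L', rfl, hL'⟩ h
  obtain ⟨U, v, hv, hz, -, -, -⟩ := exists_member hR
  obtain ⟨z, hzt⟩ := hz t
  obtain ⟨e⟩ := Sep.iso_of_cl_eq (L := pb (PicF.XTmap f (AbDual.ovrHom T (v t))) L)
    (L' := pb (PicF.XTmap f (AbDual.ovrHom T (v t))) L') (hR' (v t) (hv t))
  have h1 := degAt_congr f e z
  rw [degAt_pullback f _ hL, degAt_pullback f _ hL'] at h1
  change degAt f T L ((v t) z) = degAt f T L' ((v t) z) at h1
  rwa [hzt] at h1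

include hP in
/-- The degree function on the Picard scheme. -/
theorem exists_degree [Flat f] [LocallyOfFinitePresentation f]
    (hdim : ∀ (T : Over S) (t : T.left), topologicalKrullDim ((PicF.XTproj f T).fiber t) ≤ 1) :
    ∃ d : ↥P.left → ℤ, IsLocallyConstant d ∧
      ∀ (T : Over S) (L : (PicF.XT f T).Modules), PicF.IsInvertible L → ∀ t : T.left,
        d ((φ T (PicF.cl L)).left t) = degAt f T L t := by
  obtain ⟨R, hR, hR'⟩ := hP.locallySurjective P (𝟙 P)
  obtain ⟨U, v, hv, hz, -, -, -⟩ := exists_member hR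
  choose c hc hφ using fun p => hR' (v p) (hv p)
  choose L hLc hL using hc
  choose z hzp using hz
  let d : ↥P.left → ℤ := fun p => degAt f _ (L p) (z p)
  have key : ∀ (T : Over S) (M : (PicF.XT f T).Modules), PicF.IsInvertible M → ∀ t : T.left,
      d ((φ T (PicF.cl M)).left t) = degAt f T M t := by
    intro T M hM t
    let a := φ T (PicF.cl M)
    let p := a.left t
    let W := pullback (v p) a.left
    obtain ⟨w, hw₁, hw₂⟩ := Scheme.Pullback.exists_preimage_pullback (f := v p) (g := a.left) (z p) t (hzp p)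
    let T' : Over S := Over.mk (pullback.snd (v p) a.left ≫ T.hom)
    let g₂ : T' ⟶ T := Over.homMk (pullback.snd _ _) rfl
    let g₁ : T' ⟶ AbDual.ovr P (v p) := Over.homMk (pullback.fst _ _) (by
      show pullback.fst _ _ ≫ v p ≫ P.hom = pullback.snd _ _ ≫ T.hom
      rw [pullback.condition_assoc, Over.w a])
    have hgg : g₁ ≫ AbDual.ovrHom P (v p) = g₂ ≫ a := Over.OverMorphism.ext pullback.condition
    have e1 : φ T' (PicF.cl (pb (PicF.XTmap f g₁) (L p))) = g₁ ≫ AbDual.ovrHom P (v p) := by
      have h := hP.natural _ _ g₁ (PicF.cl (L p)) ⟨_, rfl, hL p⟩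
      refine h.trans ?_
      rw [hLc, hφ, Category.comp_id]
    have e2 : φ T' (PicF.cl (pb (PicF.XTmap f g₂) M)) = g₂ ≫ a := hP.natural _ _ g₂ (PicF.cl M) ⟨_, rfl, hM⟩
    have h := degAt_eq_of_phi_eq f P φ hP T' (H11Ample.isInvertible_pullback _ (hL p))
      (H11Ample.isInvertible_pullback _ hM) (e1.trans (hgg.trans e2.symm)) w
    rw [degAt_pullback f _ (hL p), degAt_pullback f _ hM] at h
    change degAt f _ (L p) ((pullback.fst (v p) a.left) w) = degAt f T M ((pullback.snd (v p) a.left) w) at h
    rw [hw₁, hw₂] at h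
    exact h
  refine ⟨d, ?_, key⟩
  refine (IsLocallyConstant.iff_exists_open _).2 fun p => ?_
  let T := AbDual.ovr P (v p)
  haveI := isProper_XTproj f T
  haveI : Flat (PicF.XTproj f T) := MorphismProperty.pullback_snd (P := @Flat) f T.hom inferInstance
  haveI : LocallyOfFinitePresentation (PicF.XTproj f T) :=
    MorphismProperty.pullback_snd (P := @LocallyOfFinitePresentation) f T.hom inferInstance
  have hlc : IsLocallyConstant (degAt f T (L p)) :=
    (isLocallyConstant_rankDiff _ (hdim T) (hL p)).comp₂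
      (isLocallyConstant_rankDiff _ (hdim T) (H11Ample.isInvertible_structureModule (X := PicF.XT f T))) (· - ·)
  obtain ⟨O, hO, hzO, hOc⟩ := (IsLocallyConstant.iff_exists_open _).1 hlc (z p)
  haveI : Flat (v p) := (hR.2 (hv p)).1
  haveI : LocallyOfFinitePresentation (v p) := (hR.2 (hv p)).2
  refine ⟨v p '' O, (v p).isOpenMap _ hO, ⟨z p, hzO, hzp p⟩, ?_⟩
  rintro _ ⟨y, hy, rfl⟩
  have h := key T (L p) (hL p) y
  have hLp : φ T (PicF.cl (L p)) = AbDual.ovrHom P (v p) := by rw [hLc, hφ, Category.comp_id]
  rw [hLp] at h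
  exact (h.trans (hOc y hy)).trans rfl

end Groth.Agent.H12Pic.PicCurve
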