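import Groth.Agent.H12Pic.PicCurve.DegreeClass
import Groth.Agent.H12Pic.RigPoints
import Groth.Agent.H12Pic.PicSeparated
import Groth.Agent.H27HilbOps.Basic
import Groth.Agent.H12Pic.RigDescent
import Mathlib.AlgebraicGeometry.Morphisms.FlatDescent

/-!
# A family of genus one curves with a section and its degree zero Picard scheme
-/

set_option autoImplicit false
set_option linter.style.haveILetI false
set_option linter.unusedSectionVars false
set_option maxHeartbeats 1200000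
set_option backward.isDefEq.respectTransparency.types false

noncomputable section

universe u

open CategoryTheory CategoryTheory.Limits AlgebraicGeometry TopologicalSpace Opposite

namespace Groth.Agent.H12Pic.PicCurve

open Groth.Agent.H17.PullCl Groth.Agent.H12Pic.RigPoints
open Groth.Agent.H25Theta (pb pT pC pI tI pO)

attribute [local instance] fibreOverField

theorem fibEuler_congr {Y T : Scheme.{u}} (π : Y ⟶ T) [IsProper π] [SmoothOfRelativeDimension 1 π]
    [GeometricallyConnected π] {L L' : Y.Modules} (e : L ≅ L') (t : T) : fibEuler π L t = fibEuler π L' t := by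
  rw [fibEuler_eq, fibEuler_eq]
  exact congrArg₂ (fun a b : ℕ => (a : ℤ) - b)
    (H29RR.hhIso (k := T.residueField t) ((Scheme.Modules.pullback (π.fiberι t)).mapIso e) 0).finrank_eq
    (H29RR.hhIso (k := T.residueField t) ((Scheme.Modules.pullback (π.fiberι t)).mapIso e) 1).finrank_eq

variable {E S : Scheme.{u}} (f : E ⟶ S)

theorem family_facts [IsProper f] [SmoothOfRelativeDimension 1 f] [GeometricallyConnected f] (T : Over S) :
    IsProper (PicF.XTproj f T) ∧ SmoothOfRelativeDimension 1 (PicF.XTproj f T) ∧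
      GeometricallyConnected (PicF.XTproj f T) := by
  haveI := smoothOfRelativeDimension_isStableUnderBaseChange.{u} (n := 1)
  have hsq : IsPullback (pullback.fst f T.hom) (PicF.XTproj f T) f T.hom := IsPullback.of_hasPullback f T.hom
  exact ⟨MorphismProperty.of_isPullback hsq inferInstance, MorphismProperty.of_isPullback hsq inferInstance,
    MorphismProperty.of_isPullback hsq inferInstance⟩

theorem fibEuler_structure_family [IsProper f] [SmoothOfRelativeDimension 1 f] [GeometricallyConnected f]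
    (hg : ∀ s : S, CohIII.fiberRank f (Coh.structureModule E) 1 s = 1) (T : Over S)
    [IsProper (PicF.XTproj f T)] [SmoothOfRelativeDimension 1 (PicF.XTproj f T)]
    [GeometricallyConnected (PicF.XTproj f T)] (t : T.left) :
    fibEuler (PicF.XTproj f T) (Coh.structureModule _) t = 0 := by
  rw [fibEuler_eq, fiberRank_structure_zero]
  have h := fiberRank_pullback f (H11Ample.isInvertible_structureModule (X := E))
    (IsPullback.of_hasPullback f T.hom) 1 t
  rw [hg] at h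
  have h' : CohIII.fiberRank (PicF.XTproj f T) (Coh.structureModule _) 1 t = 1 := by
    refine Eq.trans ?_ h
    exact (H29RR.hhIso (k := T.left.residueField t) ((Scheme.Modules.pullback _).mapIso
      (H16Derived.KFlat.Stalk.structurePullbackIso (pullback.fst f T.hom)).symm) 1).finrank_eq
  rw [h']; rfl

variable (e : S ⟶ E) (he : e ≫ f = 𝟙 S)

/-- The degree zero class attached to the diagonal and the section. -/
abbrev diagClass (LΔ : (PicF.XT f (Over.mk f)).Modules) : (PicF.XT f (Over.mk f)).Modules :=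
  CohB1.tensorMod LΔ (pb (pullback.fst f f) (ClSub.idealMod e.ker))

variable [IsProper f] [SmoothOfRelativeDimension 1 f] [GeometricallyConnected f]
  {LΔ : (PicF.XT f (Over.mk f)).Modules} (hLΔ : PicF.IsInvertible LΔ)
  (hΔ : ClSub.IsInverseOf LΔ (ClSub.idealMod (pullback.diagonal f).ker))

include he hLΔ hΔ in
/-- The pullback of the diagonal class along a point. -/
theorem pullback_diagClass {T : Over S} (a : T ⟶ Over.mk f) :
    ∃ (P : T.left ⟶ PicF.XT f T) (N : (PicF.XT f T).Modules), P ≫ PicF.XTproj f T = 𝟙 _ ∧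
      P ≫ pullback.fst f T.hom = a.left ∧ PicF.IsInvertible N ∧
      Nonempty (CohB1.tensorMod N (ClSub.idealMod P.ker) ≅ Coh.structureModule _) ∧
      Nonempty (pb (PicF.XTmap f a) (diagClass f e LΔ) ≅
        CohB1.tensorMod N (ClSub.idealMod (PicF.secT f e he T).ker)) := by
  obtain ⟨_, _, _⟩ := family_facts f T
  obtain ⟨_, _, _⟩ := family_facts f (Over.mk f)
  let π := PicF.XTproj f T
  have hw : a.left ≫ f = T.hom := Over.w a
  let P : T.left ⟶ PicF.XT f T := pullback.lift a.left (𝟙 _) (by rw [hw, Category.id_comp])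
  have hP : P ≫ π = 𝟙 _ := pullback.lift_snd _ _ _
  let g := PicF.XTmap f a
  have hΔs : pullback.diagonal f ≫ PicF.XTproj f (Over.mk f) = 𝟙 E := pullback.diagonal_snd f
  have hPg : P ≫ g = a.left ≫ pullback.diagonal f := by
    apply pullback.hom_ext
    · rw [Category.assoc, XTmap_fst, pullback.lift_fst, Category.assoc]
      exact ((Category.comp_id _).symm.trans (congrArg (a.left ≫ ·) (pullback.diagonal_fst f).symm))
    · rw [Category.assoc, XTmap_snd, ← Category.assoc, hP, Category.id_comp, Category.assoc]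
      exact ((Category.comp_id _).symm.trans (congrArg (a.left ≫ ·) hΔs.symm))
  have hc := comap_ker_lift (H27HilbOps.isPullback_XTmap f a) (pullback.diagonal f) hΔs P hP hPg
  have hsec : PicF.secT f e he T ≫ π = 𝟙 _ := RigDescent.secT_snd f he T
  have hce := comap_ker_lift (IsPullback.of_hasPullback f T.hom) e he (PicF.secT f e he T) hsec (pullback.lift_fst _ _ _)
  obtain ⟨eΔ⟩ := H12Pic.CurveFam.nonempty_pullback_idealMod_comap g
    (H12Pic.CurveFam.isEffCartierIdeal_section (PicF.XTproj f (Over.mk f)) (pullback.diagonal f) hΔs)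
    (hc.symm ▸ H12Pic.CurveFam.isEffCartierIdeal_section π P hP)
  obtain ⟨ee⟩ := H12Pic.CurveFam.nonempty_pullback_idealMod_comap (pullback.fst f T.hom)
    (H12Pic.CurveFam.isEffCartierIdeal_section f e he)
    (hce.symm ▸ H12Pic.CurveFam.isEffCartierIdeal_section π (PicF.secT f e he T) hsec)
  exact ⟨P, pb g LΔ, hP, pullback.lift_fst _ _ _, H11Ample.isInvertible_pullback g hLΔ,
    ⟨tI (Iso.refl _) (eΔ ≪≫ eqToIso (congrArg ClSub.idealMod hc)).symm ≪≫ (pT g _ _).symm ≪≫
      (Scheme.Modules.pullback g).mapIso hΔ.some ≪≫ pO g⟩,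
    ⟨pT g _ _ ≪≫ tI (Iso.refl _) (pC g _ (XTmap_fst f a) _ ≪≫ ee ≪≫ eqToIso (congrArg ClSub.idealMod hce))⟩⟩

variable (hg : ∀ s : S, CohIII.fiberRank f (Coh.structureModule E) 1 s = 1)

include he hLΔ hΔ hg in
/-- The inverse of the ideal of a point has degree one and cuts out that point. -/
theorem point_facts {T : Over S} [IsProper (PicF.XTproj f T)] [SmoothOfRelativeDimension 1 (PicF.XTproj f T)]
    [GeometricallyConnected (PicF.XTproj f T)] (P : T.left ⟶ PicF.XT f T) (hP : P ≫ PicF.XTproj f T = 𝟙 _)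
    {N : (PicF.XT f T).Modules} (hN : PicF.IsInvertible N)
    (eN : CohB1.tensorMod N (ClSub.idealMod P.ker) ≅ Coh.structureModule _) :
    IsGood (PicF.XTproj f T) N ∧ IsPointOf (PicF.XTproj f T) N P ∧
      ∀ t, fibEuler (PicF.XTproj f T) N t = 1 := by
  have h1 : ∀ t, fibEuler (PicF.XTproj f T) N t = 1 := fun t => by
    rw [← fibEuler_congr _ (H10Coh.Tw.leftUnitIso N), fibEuler_twist_section _ P hP
      (H11Ample.isInvertible_structureModule (X := PicF.XT f T)) hN eN, fibEuler_structure_family f hg T]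
    rfl
  exact ⟨(isGood_of_euler_one _ (fibEuler_structure_family f hg T) hN h1).1,
    isPointOf_of_iso _ hP eN, h1⟩

include he hLΔ hΔ hg in
/-- The diagonal class has degree zero. -/
theorem isPicZeroCl_pullback_diagClass {T : Over S} (a : T ⟶ Over.mk f) :
    AbDual.IsPicZeroCl f T (PicF.cl (pb (PicF.XTmap f a) (diagClass f e LΔ))) := by
  obtain ⟨P, N, hP, -, hN, ⟨eN⟩, ⟨ea⟩⟩ := pullback_diagClass f e he hLΔ hΔ a
  obtain ⟨_, _, _⟩ := family_facts f T
  have hsec : PicF.secT f e he T ≫ PicF.XTproj f T = 𝟙 _ := RigDescent.secT_snd f he T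
  have hI := H29Blow.isInvertible_of_isEffCartierIdeal _
    (H12Pic.CurveFam.isEffCartierIdeal_section (PicF.XTproj f T) _ hsec)
  have hA := H11Tilde.isInvertible_of_iso ea.symm (H11Ample.isInvertible_tensor hN hI)
  obtain ⟨N', hN', ⟨eN'⟩⟩ := H11Sym.exists_inverse hI
  refine ⟨_, rfl, hA, (forall_isAlgTrivialAt_iff _ hA).2 fun t => ?_⟩
  have h := fibEuler_twist_section _ _ hsec hA hN' eN' t
  rw [fibEuler_congr _ (tI ea (Iso.refl N') ≪≫ H10Coh.Tw.assoc N _ _ ≪≫
    tI (Iso.refl N) (H10Coh.Tw.commIso _ _ ≪≫ eN') ≪≫ H10Coh.Tw.rightUnitIso N),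
    (point_facts f e he hLΔ hΔ hg P hP hN eN).2.2 t] at h
  rw [fibEuler_structure_family f hg T]
  omega

variable {P₀ : Over S} {φ₀ : ∀ T : Over S, PicF.Cl (PicF.XT f T) → (T ⟶ P₀)}
  (hP₀ : AbDual.IsRelPicZeroK Scheme.fppfPrecoverage f P₀ φ₀)

include hP₀ in
/-- Modules differing by one from the base give the same point. -/
theorem phi_congr_base (T : Over S) {L L' : (PicF.XT f T).Modules} (hL : AbDual.IsPicZeroCl f T (PicF.cl L))
    (hL' : AbDual.IsPicZeroCl f T (PicF.cl L')) {M : T.left.Modules} (hM : PicF.IsInvertible M)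
    (e : L ≅ CohB1.tensorMod L' (pb (PicF.XTproj f T) M)) : φ₀ T (PicF.cl L) = φ₀ T (PicF.cl L') := by
  have hloc : ∀ t : T.left, ∃ U : T.left.Opens, t ∈ U ∧ Nonempty (pb U.ι M ≅ Coh.structureModule U) := fun t => by
    obtain ⟨U, ht, ⟨a⟩⟩ := hM t
    exact ⟨U, ht, ⟨((Scheme.Modules.restrictFunctorIsoPullback U.ι).app M).symm ≪≫ a⟩⟩
  choose U hxU a using hloc
  refine Over.OverMorphism.ext (Scheme.Cover.hom_ext (T.left.openCoverOfIsOpenCover U
    (eq_top_iff.2 fun x _ => TopologicalSpace.Opens.mem_iSup.2 ⟨x, hxU x⟩)) _ _ fun t => ?_)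
  let q := AbDual.ovrHom T (U t).ι
  have w₁ : PicF.XTmap f q ≫ PicF.XTproj f T = PicF.XTproj f (AbDual.ovr T (U t).ι) ≫ (U t).ι := XTmap_snd f q
  let π' : PicF.XT f (AbDual.ovr T (U t).ι) ⟶ (U t).toScheme := PicF.XTproj f (AbDual.ovr T (U t).ι)
  let g : PicF.XT f (AbDual.ovr T (U t).ι) ⟶ PicF.XT f T := PicF.XTmap f q
  have eM : pb g (pb (PicF.XTproj f T) M) ≅ Coh.structureModule _ :=
    (Scheme.Modules.pullbackComp g (PicF.XTproj f T)).app M ≪≫ (Scheme.Modules.pullbackCongr w₁).app M ≪≫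
      ((Scheme.Modules.pullbackComp π' (U t).ι).app M).symm ≪≫ (Scheme.Modules.pullback π').mapIso (a t).some ≪≫ pO π'
  have hq : PicF.pullCl (PicF.XTmap f q) (PicF.cl L) = PicF.pullCl (PicF.XTmap f q) (PicF.cl L') :=
    Quot.sound ⟨(Scheme.Modules.pullback g).mapIso e ≪≫ pT g L' _ ≪≫
      tI (Iso.refl (pb g L')) eM ≪≫ H10Coh.Tw.rightUnitIso (pb g L')⟩
  have h : q ≫ φ₀ T (PicF.cl L) = q ≫ φ₀ T (PicF.cl L') :=
    (hP₀.natural T _ q _ hL).symm.trans ((congrArg (φ₀ _) hq).trans (hP₀.natural T _ q _ hL'))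
  exact congrArg CommaMorphism.left h

/-- The point of the degree zero scheme attached to the diagonal class. -/
abbrev abelPoint (φ₀ : ∀ T : Over S, PicF.Cl (PicF.XT f T) → (T ⟶ P₀)) (LΔ : (PicF.XT f (Over.mk f)).Modules) :
    Over.mk f ⟶ P₀ :=
  φ₀ (Over.mk f) (PicF.cl (diagClass f e LΔ))

include he hLΔ hΔ hg hP₀ in
theorem phi_pullback_diagClass {T : Over S} (a : T ⟶ Over.mk f) :
    φ₀ T (PicF.cl (pb (PicF.XTmap f a) (diagClass f e LΔ))) = a ≫ abelPoint f e φ₀ LΔ := by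
  refine hP₀.natural _ _ a (PicF.cl (diagClass f e LΔ)) ?_
  have h := isPicZeroCl_pullback_diagClass f e he hLΔ hΔ hg (𝟙 (Over.mk f))
  rwa [show PicF.cl (pb (PicF.XTmap f (𝟙 (Over.mk f))) (diagClass f e LΔ)) = PicF.cl (diagClass f e LΔ) from
    Quot.sound ⟨pI _ (H27HilbOps.XTmap_id f _) _⟩] at h

include he hLΔ hΔ hg hP₀ in
/-- Every degree zero class comes from a point. -/
theorem exists_point_of_class (T : Over S) (c : PicF.Cl (PicF.XT f T)) (hc : AbDual.IsPicZeroCl f T c) :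
    ∃ a : T ⟶ Over.mk f, a ≫ abelPoint f e φ₀ LΔ = φ₀ T c := by
  obtain ⟨L, rfl, hL, hdeg⟩ := id hc
  obtain ⟨_, _, _⟩ := family_facts f T
  let π := PicF.XTproj f T
  have hsec : PicF.secT f e he T ≫ π = 𝟙 _ := RigDescent.secT_snd f he T
  have hI := H29Blow.isInvertible_of_isEffCartierIdeal _ (H12Pic.CurveFam.isEffCartierIdeal_section π _ hsec)
  obtain ⟨Ne, hNe, ⟨eNe⟩⟩ := H11Sym.exists_inverse hI
  have hW := H11Ample.isInvertible_tensor hL hNe
  have hO := fibEuler_structure_family f hg T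
  have hW1 : ∀ t, fibEuler π (CohB1.tensorMod L Ne) t = 1 := fun t => by
    rw [fibEuler_twist_section π _ hsec hL hNe eNe t, (forall_isAlgTrivialAt_iff π hL).1 hdeg t, hO]; rfl
  obtain ⟨hgood, hO'⟩ := isGood_of_euler_one π hO hW hW1
  obtain ⟨P, ⟨hP, M, hM, ⟨eM⟩⟩, -⟩ := existsUnique_point π hW hgood hO'
  let a : T ⟶ Over.mk f := Over.homMk (P ≫ pullback.fst f T.hom) (by
    show (P ≫ pullback.fst f T.hom) ≫ f = T.hom
    rw [Category.assoc, pullback.condition, ← Category.assoc, hP, Category.id_comp])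
  obtain ⟨P', N, hP', hP'a, hN, ⟨eN⟩, ⟨ea⟩⟩ := pullback_diagClass f e he hLΔ hΔ a
  obtain rfl : P' = P := pullback.hom_ext hP'a (hP'.trans hP.symm)
  refine ⟨a, ?_⟩
  rw [← phi_pullback_diagClass f e he hLΔ hΔ hg hP₀ a]
  refine (phi_congr_base f hP₀ T hc (isPicZeroCl_pullback_diagClass f e he hLΔ hΔ hg a) hM ?_).symm
  let Ie := ClSub.idealMod (PicF.secT f e he T).ker
  let IP := ClSub.idealMod P'.ker
  refine (H10Coh.Tw.rightUnitIso L).symm ≪≫ tI (Iso.refl L) eNe.symm ≪≫ (H10Coh.Tw.assoc L Ne Ie).symm ≪≫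
    tI ((H10Coh.Tw.rightUnitIso _).symm ≪≫ tI (Iso.refl _) (eN.symm ≪≫ H10Coh.Tw.commIso N IP) ≪≫
      (H10Coh.Tw.assoc _ IP N).symm ≪≫ tI eM (Iso.refl N)) (Iso.refl Ie) ≪≫
    H10Coh.Tw.assoc _ N Ie ≪≫ H10Coh.Tw.commIso _ _ ≪≫ tI ea.symm (Iso.refl _)

include he hLΔ hΔ hg hP₀ in
/-- The morphism of the diagonal class is a monomorphism. -/
theorem mono_abelPoint : Mono (abelPoint f e φ₀ LΔ).left := by
  refine ⟨fun {Z} x y hxy => ?_⟩
  let T : Over S := Over.mk (x ≫ f)
  have hy : y ≫ f = x ≫ f := by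
    have h := congr($hxy ≫ P₀.hom)
    rw [Category.assoc, Category.assoc, Over.w (abelPoint f e φ₀ LΔ)] at h
    exact h.symm
  let a : T ⟶ Over.mk f := Over.homMk x rfl
  let b : T ⟶ Over.mk f := Over.homMk y hy
  have hab : a ≫ abelPoint f e φ₀ LΔ = b ≫ abelPoint f e φ₀ LΔ := Over.OverMorphism.ext hxy
  rw [← phi_pullback_diagClass f e he hLΔ hΔ hg hP₀ a, ← phi_pullback_diagClass f e he hLΔ hΔ hg hP₀ b] at hab
  obtain ⟨R, hR, hR'⟩ := hP₀.locallyInjective T _ _ (isPicZeroCl_pullback_diagClass f e he hLΔ hΔ hg a)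
    (isPicZeroCl_pullback_diagClass f e he hLΔ hΔ hg b) hab
  obtain ⟨U, v, hv, -, hfl, -, hsurj⟩ := exists_member hR
  haveI := hfl; haveI := hsurj
  haveI : Epi (Sigma.desc v) := Flat.epi_of_flat_of_surjective _
  rw [← cancel_epi (Sigma.desc v)]
  apply Sigma.hom_ext
  intro t
  rw [Sigma.ι_desc_assoc, Sigma.ι_desc_assoc]
  let q := AbDual.ovrHom T (v t)
  let T' := AbDual.ovr T (v t)
  obtain ⟨_, _, _⟩ := family_facts f T'
  obtain ⟨Pa, Na, hPa, hPa', hNa, ⟨eNa⟩, ⟨ea⟩⟩ := pullback_diagClass f e he hLΔ hΔ (q ≫ a)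
  obtain ⟨Pb, Nb, hPb, hPb', hNb, ⟨eNb⟩, ⟨eb⟩⟩ := pullback_diagClass f e he hLΔ hΔ (q ≫ b)
  have h := hR' (v t) (hv t)
  obtain ⟨θ⟩ := Sep.iso_of_cl_eq (L := pb (PicF.XTmap f q) (pb (PicF.XTmap f a) (diagClass f e LΔ)))
    (L' := pb (PicF.XTmap f q) (pb (PicF.XTmap f b) (diagClass f e LΔ))) h
  have hI := H29Blow.isInvertible_of_isEffCartierIdeal _ (H12Pic.CurveFam.isEffCartierIdeal_section
    (PicF.XTproj f T') _ (RigDescent.secT_snd f he T'))
  obtain ⟨θ'⟩ := H25Theta.cancel_right hI ⟨ea.symm ≪≫ (pC _ _ (H27HilbOps.XTmap_comp f q a).symm _).symm ≪≫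
    θ ≪≫ pC _ _ (H27HilbOps.XTmap_comp f q b).symm _ ≪≫ eb⟩
  obtain ⟨hgood, hpa, -⟩ := point_facts f e he hLΔ hΔ hg Pa hPa hNa eNa
  have hPab : Pa = Pb := isPointOf_unique _ hNa hgood hpa
    (isPointOf_of_iso _ hPb (tI θ' (Iso.refl _) ≪≫ eNb))
  rw [← hPab, hPa'] at hPb'
  exact hPb'

include he hLΔ hΔ hg hP₀ in
/-- The curve is its degree zero Picard scheme. -/
theorem isIso_abelPoint : IsIso (abelPoint f e φ₀ LΔ).left := by
  let α := (abelPoint f e φ₀ LΔ).left
  haveI := mono_abelPoint f e he hLΔ hΔ hg hP₀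
  obtain ⟨R, hR, hR'⟩ := hP₀.locallySurjective P₀ (𝟙 P₀)
  obtain ⟨U, v, hv, -, hfl, hlfp, hsurj⟩ := exists_member hR
  choose c hc hφ using fun t => hR' (v t) (hv t)
  choose a ha using fun t => exists_point_of_class f e he hLΔ hΔ hg hP₀ _ (c t) (hc t)
  let w : (∐ U) ⟶ E := Sigma.desc fun t => (a t).left
  have hw : w ≫ α = Sigma.desc v := Sigma.hom_ext _ _ fun t => by
    rw [Sigma.ι_desc_assoc, Sigma.ι_desc]
    show (a t ≫ abelPoint f e φ₀ LΔ).left = v t
    rw [ha, hφ, Category.comp_id]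
    rfl
  haveI : IsIso (pullback.snd α (Sigma.desc v)) := by
    haveI : IsSplitEpi (pullback.snd α (Sigma.desc v)) :=
      ⟨⟨⟨pullback.lift w (𝟙 _) (hw.trans (Category.id_comp _).symm), pullback.lift_snd _ _ _⟩⟩⟩
    exact isIso_of_mono_of_isSplitEpi _
  exact MorphismProperty.of_pullback_snd_of_descendsAlong (P := MorphismProperty.isomorphisms Scheme.{u})
    (Q := @Surjective ⊓ @Flat ⊓ @LocallyOfFinitePresentation) (f := α) (g := Sigma.desc v)
    ⟨⟨hsurj, hfl⟩, hlfp⟩ (MorphismProperty.isomorphisms.infer_property _)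

end Groth.Agent.H12Pic.PicCurve
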