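import Groth.Agent.H12Pic.PicCurve.AbelInj
import Groth.Agent.H12Pic.PicCurve.EllipticPic
import Groth.Agent.H12Pic.PicCurve.DegreePic
import Groth.Agent.H29RR.MaxSections

/-!
# The Abel map of a relative curve of positive genus
-/

set_option autoImplicit false
set_option linter.style.haveILetI false
set_option linter.unusedSectionVars false
set_option maxHeartbeats 1600000
set_option backward.isDefEq.respectTransparency.types false

noncomputable section

universe u

open CategoryTheory CategoryTheory.Limits AlgebraicGeometry TopologicalSpace Opposite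

namespace Groth.Agent.H12Pic.PicCurve

open Groth.Agent.H17.PullCl Groth.Agent.H12Pic.RigPoints
open Groth.Agent.H25Theta (pb pT pC pI tI pO)

attribute [local instance] fibreOverField

section

variable {Y T : Scheme.{u}} (π : Y ⟶ T) [IsProper π] [SmoothOfRelativeDimension 1 π] [GeometricallyConnected π]

/-- A point of a curve of positive genus does not move. -/
theorem fiberRank_zero_inverse_section (hg : ∀ t, 1 ≤ CohIII.fiberRank π (Coh.structureModule Y) 1 t)
    (R : T ⟶ Y) (hR : R ≫ π = 𝟙 T) {N : Y.Modules} (hN : PicF.IsInvertible N)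
    (eN : CohB1.tensorMod N (ClSub.idealMod R.ker) ≅ Coh.structureModule Y) (t : T) :
    CohIII.fiberRank π N 0 t = 1 := by
  haveI := smoothOfRelativeDimension_isStableUnderBaseChange.{u} (n := 1)
  let Ω := AlgebraicClosure (T.residueField t)
  let b : Spec (CommRingCat.of Ω) ⟶ T :=
    Spec.map (CommRingCat.ofHom (algebraMap (T.residueField t) Ω)) ≫ T.fromSpecResidueField t
  have hbt : b (IsLocalRing.closedPoint Ω) = t := by
    show (Spec.map _ ≫ T.fromSpecResidueField t) _ = t
    rw [Scheme.Hom.comp_apply, Scheme.fromSpecResidueField_apply]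
  let F := pullback π b
  letI : F.Over (Spec (CommRingCat.of Ω)) := ⟨pullback.snd π b⟩
  have hF : IsPullback (pullback.fst π b) (F ↘ Spec (CommRingCat.of Ω)) π b := IsPullback.of_hasPullback π b
  haveI : IsProper (F ↘ Spec (CommRingCat.of Ω)) := MorphismProperty.of_isPullback hF inferInstance
  haveI : SmoothOfRelativeDimension 1 (F ↘ Spec (CommRingCat.of Ω)) := MorphismProperty.of_isPullback hF inferInstance
  haveI : Smooth (F ↘ Spec (CommRingCat.of Ω)) := SmoothOfRelativeDimension.smooth 1 _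
  haveI : GeometricallyConnected (F ↘ Spec (CommRingCat.of Ω)) := MorphismProperty.of_isPullback hF inferInstance
  obtain ⟨hint, hdim⟩ := curve_facts Ω F
  haveI := hint
  haveI := H29RR.isNoetherian_of_proper (k := Ω) (X := F)
  let τ : Spec (CommRingCat.of Ω) ⟶ F := hF.lift (b ≫ R) (𝟙 _)
    (by rw [Category.assoc, hR, Category.comp_id]; exact (Category.id_comp _).symm)
  have hO := H11Ample.isInvertible_structureModule (X := Y)
  obtain ⟨e⟩ := pullback_addPoint R hR (L := Coh.structureModule Y) eN hF τ (hF.lift_snd _ _ _) (hF.lift_fst _ _ _)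
  obtain ⟨hx, hk, hres⟩ := S6487.section_pt τ (hF.lift_snd _ _ _)
  rw [hk] at e
  have hI := H11Ample.isCoh_of_isInvertible (hk ▸ H29Blow.isInvertible_of_isEffCartierIdeal _
      (H12Pic.CurveFam.isEffCartierIdeal_section (F ↘ Spec (CommRingCat.of Ω)) τ (hF.lift_snd _ _ _)) :
    PicF.IsInvertible (ClSub.idealMod (H29RR.ptIdeal (τ (IsLocalRing.closedPoint Ω)))))
  let M := pb (pullback.fst π b) (CohB1.tensorMod (Coh.structureModule Y) N)
  have hM : PicF.IsInvertible M := H11Ample.isInvertible_pullback _ (H11Ample.isInvertible_tensor hO hN)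
  obtain ⟨hle, hge, hchi⟩ := H29RR.twist_point (k := Ω) hx hM hI
  let eO : CohB1.tensorMod (ClSub.idealMod (H29RR.ptIdeal (τ (IsLocalRing.closedPoint Ω)))) M ≅ Coh.structureModule F :=
    e ≪≫ pO _
  rw [hres, (H29RR.hhIso (k := Ω) eO 0).finrank_eq, H29RR.finrank_h0_structure Ω F] at hge
  rw [(H29RR.hhIso (k := Ω) eO 0).finrank_eq, H29RR.finrank_h0_structure Ω F] at hle
  rw [hres, H25Euler.euler_congr eO] at hchi
  have hfr : Module.finrank Ω (Coh.HH F M 0) = CohIII.fiberRank π N 0 t := by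
    rw [(H29RR.hhIso (k := Ω) ((Scheme.Modules.pullback (pullback.fst π b)).mapIso (H10Coh.Tw.leftUnitIso N)) 0).finrank_eq,
      finrank_HH_point π hN b hF 0, hbt]
  rcases Nat.lt_or_ge (Module.finrank Ω (Coh.HH F M 0)) 2 with h | h
  · omega
  · exfalso
    have hd : Curv2.deg Ω F M 1 = 1 := by rw [H29RR.deg_def]; omega
    have hgen := H29RR.genus_eq_zero_of_max_sections (k := Ω) hdim.le (H29RR.finrank_h0_structure Ω F) hM
      (by rw [hd]; exact one_pos) (by rw [hd]; omega)
    have h1 : Curv2.genus Ω F = CohIII.fiberRank π (Coh.structureModule Y) 1 t := by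
      exact (((H29RR.hhIso (k := Ω) (pO (pullback.fst π b)) 1).finrank_eq).symm).trans
        ((finrank_HH_point π hO b hF 1).trans (by rw [hbt]))
    have := hg t
    omega

/-- Two sections with isomorphic modules of positive genus are equal. -/
theorem section_eq_of_iso (hg : ∀ t, 1 ≤ CohIII.fiberRank π (Coh.structureModule Y) 1 t)
    {P Q : T ⟶ Y} (hP : P ≫ π = 𝟙 T) (hQ : Q ≫ π = 𝟙 T) {N : Y.Modules} (hN : PicF.IsInvertible N)
    (eP : CohB1.tensorMod N (ClSub.idealMod P.ker) ≅ Coh.structureModule Y)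
    (eQ : CohB1.tensorMod N (ClSub.idealMod Q.ker) ≅ Coh.structureModule Y) : P = Q := by
  haveI := smoothOfRelativeDimension_isStableUnderBaseChange.{u} (n := 1)
  haveI : Smooth π := SmoothOfRelativeDimension.smooth 1 π
  have h0 := fiberRank_zero_inverse_section π hg P hP hN eP
  have hlc := isLocallyConstant_rankDiff π (fun t => (fibre_of_geometricallyConnected π t).2) hN
  let U : ℕ → T.Opens := fun n => ⟨{t | rankDiff π N t = 1 - (n : ℤ)}, hlc.isOpen_fiber _⟩
  have hU : ∀ t, t ∈ U (CohIII.fiberRank π N 1 t) := fun t => by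
    show rankDiff π N t = _
    rw [rankDiff, h0, Nat.cast_one]
  refine Scheme.Cover.hom_ext (T.openCoverOfIsOpenCover (fun t => U (CohIII.fiberRank π N 1 t))
    (eq_top_iff.2 fun x _ => TopologicalSpace.Opens.mem_iSup.2 ⟨x, hU x⟩)) _ _ fun t => ?_
  let n := CohIII.fiberRank π N 1 t
  let π' := π ∣_ U n
  have hsq : IsPullback (π ⁻¹ᵁ U n).ι π' π (U n).ι := (isPullback_morphismRestrict π (U n)).flip
  haveI : IsProper π' := MorphismProperty.of_isPullback hsq inferInstance
  haveI : SmoothOfRelativeDimension 1 π' := MorphismProperty.of_isPullback hsq inferInstance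
  haveI : GeometricallyConnected π' := MorphismProperty.of_isPullback hsq inferInstance
  let d : AbelData π :=
    { P := P, Q := Q, hP := hP, hQ := hQ, E := 1
      hE := fun x => by
        obtain ⟨V, hV, hxV, -⟩ := exists_isAffineOpen_mem_and_subset (U := (⊤ : Y.Opens)) (x := x) trivial
        exact ⟨⟨V, hV⟩, hxV, 1, one_mem _, by rw [Ideal.span_singleton_one]; rfl⟩
      hEf := fun s x => by
        obtain ⟨V, hV, hxV, -⟩ := exists_isAffineOpen_mem_and_subset (U := (⊤ : (π.fiber s).Opens)) (x := x) trivial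
        exact ⟨⟨V, hV⟩, hxV, 1, one_mem _, by
          rw [Scheme.IdealSheafData.one_eq_top, Scheme.IdealSheafData.comap_top, Ideal.span_singleton_one]; rfl⟩
      L := N, hL := hN
      e := ⟨tI (eqToIso (congrArg ClSub.idealMod (mul_one P.ker))) (Iso.refl N) ≪≫ H10Coh.Tw.commIso _ _ ≪≫ eP⟩
      e' := ⟨tI (eqToIso (congrArg ClSub.idealMod (mul_one Q.ker))) (Iso.refl N) ≪≫ H10Coh.Tw.commIso _ _ ≪≫ eQ⟩ }
  obtain ⟨d', hd'L, hd'P, hd'Q⟩ := d.exists_pullback hsq
  have hPQ : d'.P = d'.Q := eq_of_abelData n π' d'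
    (fun v => by rw [hd'L, fiberRank_pullback π hN hsq]; exact h0 _)
    (fun v => by
      rw [hd'L, fiberRank_pullback π hN hsq]
      have h : rankDiff π N ((U n).ι v) = 1 - (n : ℤ) := v.2
      rw [rankDiff, h0] at h
      push_cast at h
      omega)
  show (U n).ι ≫ P = (U n).ι ≫ Q
  rw [← hd'P, ← hd'Q, hPQ]

end

variable {E S : Scheme.{u}} (f : E ⟶ S) [IsProper f] [SmoothOfRelativeDimension 1 f] [GeometricallyConnected f]
  (hg : ∀ s : S, 1 ≤ CohIII.fiberRank f (Coh.structureModule E) 1 s)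
  {P : Over S} {φ : ∀ T : Over S, PicF.Cl (PicF.XT f T) → (T ⟶ P)}
  (hP : AbDual.IsRelPicK Scheme.fppfPrecoverage f P φ)
  {LΔ : (PicF.XT f (Over.mk f)).Modules} (hLΔ : PicF.IsInvertible LΔ)
  (hΔ : ClSub.IsInverseOf LΔ (ClSub.idealMod (pullback.diagonal f).ker))

include hLΔ hΔ in
/-- The pullback of the module of the diagonal along a point. -/
theorem pullback_diagonal_module {T : Over S} (a : T ⟶ Over.mk f) :
    ∃ R : T.left ⟶ PicF.XT f T, R ≫ PicF.XTproj f T = 𝟙 _ ∧ R ≫ pullback.fst f T.hom = a.left ∧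
      Nonempty (CohB1.tensorMod (pb (PicF.XTmap f a) LΔ) (ClSub.idealMod R.ker) ≅ Coh.structureModule _) := by
  obtain ⟨_, _, _⟩ := family_facts f T
  obtain ⟨_, _, _⟩ := family_facts f (Over.mk f)
  have hw : a.left ≫ f = T.hom := Over.w a
  let R : T.left ⟶ PicF.XT f T := pullback.lift a.left (𝟙 _) (by rw [hw, Category.id_comp])
  have hR : R ≫ PicF.XTproj f T = 𝟙 _ := pullback.lift_snd _ _ _
  let g := PicF.XTmap f a
  have hΔs : pullback.diagonal f ≫ PicF.XTproj f (Over.mk f) = 𝟙 E := pullback.diagonal_snd f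
  have hRg : R ≫ g = a.left ≫ pullback.diagonal f := by
    apply pullback.hom_ext
    · rw [Category.assoc, XTmap_fst, pullback.lift_fst, Category.assoc]
      exact ((Category.comp_id _).symm.trans (congrArg (a.left ≫ ·) (pullback.diagonal_fst f).symm))
    · rw [Category.assoc, XTmap_snd, ← Category.assoc, hR, Category.id_comp, Category.assoc]
      exact ((Category.comp_id _).symm.trans (congrArg (a.left ≫ ·) hΔs.symm))
  have hc := comap_ker_lift (H27HilbOps.isPullback_XTmap f a) (pullback.diagonal f) hΔs R hR hRg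
  obtain ⟨eΔ⟩ := H12Pic.CurveFam.nonempty_pullback_idealMod_comap g
    (H12Pic.CurveFam.isEffCartierIdeal_section (PicF.XTproj f (Over.mk f)) (pullback.diagonal f) hΔs)
    (hc.symm ▸ H12Pic.CurveFam.isEffCartierIdeal_section (PicF.XTproj f T) R hR)
  exact ⟨R, hR, pullback.lift_fst _ _ _,
    ⟨tI (Iso.refl _) (eΔ ≪≫ eqToIso (congrArg ClSub.idealMod hc)).symm ≪≫ (pT g _ _).symm ≪≫
      (Scheme.Modules.pullback g).mapIso hΔ.some ≪≫ pO g⟩⟩

include hg hP hLΔ hΔ in
/-- The Abel map is a monomorphism. -/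
theorem mono_abelMap : Mono (φ (Over.mk f) (PicF.cl LΔ)).left := by
  refine ⟨fun {Z} x y hxy => ?_⟩
  let α := φ (Over.mk f) (PicF.cl LΔ)
  let T : Over S := Over.mk (x ≫ f)
  have hy : y ≫ f = x ≫ f := by
    have h := congr($hxy ≫ P.hom)
    rw [Category.assoc, Category.assoc, Over.w α] at h
    exact h.symm
  let a : T ⟶ Over.mk f := Over.homMk x rfl
  let b : T ⟶ Over.mk f := Over.homMk y hy
  have hab : φ T (PicF.pullCl (PicF.XTmap f a) (PicF.cl LΔ)) = φ T (PicF.pullCl (PicF.XTmap f b) (PicF.cl LΔ)) := by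
    rw [hP.natural _ _ a _ ⟨_, rfl, hLΔ⟩, hP.natural _ _ b _ ⟨_, rfl, hLΔ⟩]
    exact Over.OverMorphism.ext hxy
  obtain ⟨R, hR, hR'⟩ := hP.locallyInjective T _ _ ⟨_, rfl, H11Ample.isInvertible_pullback _ hLΔ⟩
    ⟨_, rfl, H11Ample.isInvertible_pullback _ hLΔ⟩ hab
  obtain ⟨U, v, hv, -, hfl, -, hsurj⟩ := exists_member hR
  haveI := hfl; haveI := hsurj
  haveI : Epi (Sigma.desc v) := Flat.epi_of_flat_of_surjective _
  rw [← cancel_epi (Sigma.desc v)]
  apply Sigma.hom_ext
  intro t
  rw [Sigma.ι_desc_assoc, Sigma.ι_desc_assoc]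
  let q := AbDual.ovrHom T (v t)
  let T' := AbDual.ovr T (v t)
  obtain ⟨_, _, _⟩ := family_facts f T'
  obtain ⟨Ra, hRa, hRa', ⟨ea⟩⟩ := pullback_diagonal_module f hLΔ hΔ (q ≫ a)
  obtain ⟨Rb, hRb, hRb', ⟨eb⟩⟩ := pullback_diagonal_module f hLΔ hΔ (q ≫ b)
  obtain ⟨θ⟩ := Sep.iso_of_cl_eq (L := pb (PicF.XTmap f q) (pb (PicF.XTmap f a) LΔ))
    (L' := pb (PicF.XTmap f q) (pb (PicF.XTmap f b) LΔ)) (hR' (v t) (hv t))
  let θ' : pb (PicF.XTmap f (q ≫ a)) LΔ ≅ pb (PicF.XTmap f (q ≫ b)) LΔ :=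
    (pC _ _ (H27HilbOps.XTmap_comp f q a).symm _).symm ≪≫ θ ≪≫ pC _ _ (H27HilbOps.XTmap_comp f q b).symm _
  have hg' : ∀ z : T'.left, 1 ≤ CohIII.fiberRank (PicF.XTproj f T') (Coh.structureModule _) 1 z := fun z => by
    have h := fiberRank_pullback f (H11Ample.isInvertible_structureModule (X := E))
      (IsPullback.of_hasPullback f T'.hom) 1 z
    refine le_trans (hg (T'.hom z)) (le_of_eq ?_)
    rw [← h]
    exact (H29RR.hhIso (k := T'.left.residueField z) ((Scheme.Modules.pullback _).mapIso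
      (H16Derived.KFlat.Stalk.structurePullbackIso (pullback.fst f T'.hom))) 1).finrank_eq
  have hab' : Ra = Rb := section_eq_of_iso (PicF.XTproj f T') hg' hRa hRb
    (H11Ample.isInvertible_pullback _ hLΔ) ea (tI θ' (Iso.refl _) ≪≫ eb)
  rw [← hab', hRa'] at hRb'
  exact hRb'

end Groth.Agent.H12Pic.PicCurve
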