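import Groth.Agent.H12Pic.PicCurve.PicZeroOpen
import Groth.Agent.H12Pic.PicCurve.AbelMap
import Groth.Agent.H29RR.Choice
import Groth.Agent.H29Curve.Topology

/-!
# Powers of a relative curve mapping onto the algebraically trivial line bundles
-/

set_option autoImplicit false
set_option linter.style.haveILetI false
set_option linter.unusedSectionVars false
set_option maxHeartbeats 1200000
set_option backward.isDefEq.respectTransparency.types false

noncomputable section

universe u

open CategoryTheory CategoryTheory.Limits AlgebraicGeometry TopologicalSpace Opposite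

namespace Groth.Agent.H12Pic.PicCurve

open Groth.Agent.H17.PullCl Groth.Agent.H12Pic.RigPoints
open Groth.Agent.H25Theta (pb pT pC pI tI pO)

attribute [local instance] fibreOverField

variable {C S : Scheme.{u}} (f : C ⟶ S)

/-- The curve over a field valued point as a scheme over the field. -/
@[instance_reducible]
def fieldPointOver {K : Type u} [Field K] (x : Spec (CommRingCat.of K) ⟶ S) :
    (PicF.XT f (Over.mk x)).Over (Spec (CommRingCat.of K)) :=
  ⟨PicF.XTproj f (Over.mk x)⟩

attribute [local instance] fieldPointOver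

/-- The section of a family given by a point of the curve. -/
def sec {T : Over S} (b : T ⟶ Over.mk f) : T.left ⟶ PicF.XT f T :=
  pullback.lift b.left (𝟙 _) (by rw [Category.id_comp]; exact Over.w b)

theorem sec_proj {T : Over S} (b : T ⟶ Over.mk f) : sec f b ≫ PicF.XTproj f T = 𝟙 _ :=
  pullback.lift_snd _ _ _

theorem sec_fst {T : Over S} (b : T ⟶ Over.mk f) : sec f b ≫ pullback.fst f T.hom = b.left :=
  pullback.lift_fst _ _ _

theorem eq_sec {T : Over S} (b : T ⟶ Over.mk f) (R : T.left ⟶ PicF.XT f T)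
    (h₁ : R ≫ PicF.XTproj f T = 𝟙 _) (h₂ : R ≫ pullback.fst f T.hom = b.left) : R = sec f b :=
  pullback.hom_ext (h₂.trans (sec_fst f b).symm) (h₁.trans (sec_proj f b).symm)

variable [IsProper f] [SmoothOfRelativeDimension 1 f] [GeometricallyConnected f]

theorem isInvertible_sec {T : Over S} (b : T ⟶ Over.mk f) : PicF.IsInvertible (ClSub.idealMod (sec f b).ker) := by
  obtain ⟨_, _, _⟩ := family_facts f T
  exact H29Blow.isInvertible_of_isEffCartierIdeal _
    (H12Pic.CurveFam.isEffCartierIdeal_section (PicF.XTproj f T) _ (sec_proj f b))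

/-- The ideal of a section pulls back to the ideal of the section. -/
theorem pullback_sec {T T' : Over S} (g : T' ⟶ T) (b : T ⟶ Over.mk f) :
    Nonempty (pb (PicF.XTmap f g) (ClSub.idealMod (sec f b).ker) ≅ ClSub.idealMod (sec f (g ≫ b)).ker) := by
  obtain ⟨_, _, _⟩ := family_facts f T
  obtain ⟨_, _, _⟩ := family_facts f T'
  have hR : sec f (g ≫ b) ≫ PicF.XTmap f g = g.left ≫ sec f b := by
    apply pullback.hom_ext
    · rw [Category.assoc, XTmap_fst, sec_fst, Category.assoc, sec_fst, Over.comp_left]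
    · rw [Category.assoc, XTmap_snd, ← Category.assoc]
      erw [sec_proj, Category.id_comp, Category.assoc, sec_proj, Category.comp_id]
  have hc := comap_ker_lift (H27HilbOps.isPullback_XTmap f g) (sec f b) (sec_proj f b) _ (sec_proj f (g ≫ b)) hR
  obtain ⟨e⟩ := H12Pic.CurveFam.nonempty_pullback_idealMod_comap (PicF.XTmap f g)
    (H12Pic.CurveFam.isEffCartierIdeal_section (PicF.XTproj f T) _ (sec_proj f b))
    (hc.symm ▸ H12Pic.CurveFam.isEffCartierIdeal_section (PicF.XTproj f T') _ (sec_proj f (g ≫ b)))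
  exact ⟨e ≪≫ eqToIso (congrArg ClSub.idealMod hc)⟩

variable {LΔ : (PicF.XT f (Over.mk f)).Modules} (hLΔ : PicF.IsInvertible LΔ)
  (hΔ : ClSub.IsInverseOf LΔ (ClSub.idealMod (pullback.diagonal f).ker))

include hLΔ hΔ in
/-- The module of the diagonal pulls back to the inverse of the ideal of the section. -/
theorem pullback_diag {T : Over S} (b : T ⟶ Over.mk f) :
    Nonempty (CohB1.tensorMod (pb (PicF.XTmap f b) LΔ) (ClSub.idealMod (sec f b).ker) ≅ Coh.structureModule _) := by
  obtain ⟨R, h₁, h₂, ⟨e⟩⟩ := pullback_diagonal_module f hLΔ hΔ b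
  obtain rfl := eq_sec f b R h₁ h₂
  exact ⟨e⟩

section Field

variable {Ω : Type u} [Field Ω] (x : Spec (CommRingCat.of Ω) ⟶ S)

theorem xtPoint_facts :
    IsProper (PicF.XT f (Over.mk x) ↘ Spec (CommRingCat.of Ω)) ∧
      SmoothOfRelativeDimension 1 (PicF.XT f (Over.mk x) ↘ Spec (CommRingCat.of Ω)) ∧
      GeometricallyConnected (PicF.XT f (Over.mk x) ↘ Spec (CommRingCat.of Ω)) ∧
      IsIntegral (PicF.XT f (Over.mk x)) ∧ topologicalKrullDim (PicF.XT f (Over.mk x)) = 1 := by
  obtain ⟨h₁, h₂, h₃⟩ := family_facts f (Over.mk x)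
  haveI : IsProper (PicF.XT f (Over.mk x) ↘ Spec (CommRingCat.of Ω)) := h₁
  haveI : SmoothOfRelativeDimension 1 (PicF.XT f (Over.mk x) ↘ Spec (CommRingCat.of Ω)) := h₂
  haveI : GeometricallyConnected (PicF.XT f (Over.mk x) ↘ Spec (CommRingCat.of Ω)) := h₃
  exact ⟨h₁, h₂, h₃, curve_facts Ω _⟩

/-- The degree at a field valued point is the degree on the curve over the field. -/
theorem degAt_point {L : (PicF.XT f (Over.mk x)).Modules} (hL : PicF.IsInvertible L)
    (t : (Over.mk x).left) :
    degAt f (Over.mk x) L t = Curv2.deg Ω (PicF.XT f (Over.mk x)) L 1 := by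
  obtain ⟨_, _, _⟩ := family_facts f (Over.mk x)
  obtain ⟨_, _, _, _, hd⟩ := xtPoint_facts f x
  let F := PicF.XT f (Over.mk x)
  let π := PicF.XTproj f (Over.mk x)
  have hsq : IsPullback (𝟙 F) (F ↘ Spec (CommRingCat.of Ω)) π (𝟙 _) :=
    IsPullback.of_horiz_isIso ⟨(Category.id_comp _).trans (Category.comp_id _).symm⟩
  haveI : Subsingleton (Spec (CommRingCat.of Ω)) := inferInstanceAs (Subsingleton (PrimeSpectrum Ω))
  have ht : (𝟙 (Spec (CommRingCat.of Ω)) : _ ⟶ _) (IsLocalRing.closedPoint Ω) = t := Subsingleton.elim _ _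
  have h1 := euler_point π hL (g := 𝟙 _) hsq
  have h2 := euler_point π (H11Ample.isInvertible_structureModule (X := F)) (g := 𝟙 _) hsq
  rw [H25Euler.euler_congr (pI (𝟙 F) rfl L)] at h1
  rw [H25Euler.euler_congr (pI (𝟙 F) rfl (Coh.structureModule F))] at h2
  haveI := H29RR.isNoetherian_of_proper (k := Ω) (X := F)
  rw [H29RR.deg_def, h1, h2]
  erw [ht, fibEuler_eq, fibEuler_eq]
  rfl

/-- The genus at a field valued point is the genus of the fibre. -/
theorem genus_point :
    Curv2.genus Ω (PicF.XT f (Over.mk x)) =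
      CohIII.fiberRank f (Coh.structureModule C) 1 (x (IsLocalRing.closedPoint Ω)) := by
  obtain ⟨_, _, _, _, hd⟩ := xtPoint_facts f x
  haveI := H29RR.isNoetherian_of_proper (k := Ω) (X := PicF.XT f (Over.mk x))
  let F := PicF.XT f (Over.mk x)
  let g' : F ⟶ C := pullback.fst f x
  have hsq : IsPullback g' (F ↘ Spec (CommRingCat.of Ω)) f x := IsPullback.of_hasPullback f x
  exact ((H29RR.hhIso (k := Ω) (pO g') 1).finrank_eq).symm.trans
    (finrank_HH_point f (H11Ample.isInvertible_structureModule (X := C)) x hsq 1)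

variable [IsAlgClosed Ω]

/-- The ideal of a rational point has degree minus one. -/
theorem deg_ideal_sec (b : Over.mk x ⟶ Over.mk f) :
    Curv2.deg Ω (PicF.XT f (Over.mk x)) (ClSub.idealMod (sec f b).ker) 1 = -1 := by
  obtain ⟨_, _, _, _, hd⟩ := xtPoint_facts f x
  let F := PicF.XT f (Over.mk x)
  haveI := H29RR.isNoetherian_of_proper (k := Ω) (X := F)
  let τ : Spec (CommRingCat.of Ω) ⟶ F := sec f b
  obtain ⟨hx, hk, hres⟩ := S6487.section_pt τ (sec_proj f b)
  have hQ : PicF.IsInvertible (ClSub.idealMod τ.ker) := isInvertible_sec f b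
  show Curv2.deg Ω F (ClSub.idealMod τ.ker) 1 = -1
  rw [hk] at hQ ⊢
  have h := (H29RR.twist_point (k := Ω) hx (H11Ample.isInvertible_structureModule (X := F))
    (H11Ample.isCoh_of_isInvertible hQ)).2.2
  rw [hres, H25Euler.euler_congr (H10Coh.Tw.rightUnitIso _)] at h
  simp only [H29RR.deg_def]
  omega

include hLΔ hΔ in
/-- Degree of the difference of two points. -/
theorem deg_diff (b c : Over.mk x ⟶ Over.mk f) :
    Curv2.deg Ω (PicF.XT f (Over.mk x))
      (CohB1.tensorMod (pb (PicF.XTmap f b) LΔ) (ClSub.idealMod (sec f c).ker)) 1 = 0 := by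
  obtain ⟨_, _, _, _, hd⟩ := xtPoint_facts f x
  obtain ⟨e⟩ := pullback_diag f hLΔ hΔ b
  have hN : PicF.IsInvertible (pb (PicF.XTmap f b) LΔ) := H11Ample.isInvertible_pullback _ hLΔ
  have h := H29RR.deg_congr (k := Ω) e
  rw [H29RR.deg_tensor hd.le hN (isInvertible_sec f b), H29RR.deg_structureModule, deg_ideal_sec] at h
  rw [H29RR.deg_tensor hd.le hN (isInvertible_sec f c), deg_ideal_sec]
  omega

end Field

include hLΔ hΔ in
/-- A proper smooth family with connected fibres, with a degree zero module, catching every module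
`M(-n y)` with `M` effective of degree `n`; all its points are of this kind, and only finitely many of them
give a rigid `M`. -/
theorem exists_stage (n : ℕ) :
    ∃ (W : Over S) (y : W ⟶ Over.mk f) (L : (PicF.XT f W).Modules),
      IsProper W.hom ∧ Smooth W.hom ∧ GeometricallyConnected W.hom ∧ SmoothOfRelativeDimension n y.left ∧
      PicF.IsInvertible L ∧ (∀ t, degAt f W L t = 0) ∧
      (∀ (Ω : Type u) [Field Ω] [IsAlgClosed Ω] (x : Spec (CommRingCat.of Ω) ⟶ S) (b : Over.mk x ⟶ Over.mk f)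
        (M : (PicF.XT f (Over.mk x)).Modules), PicF.IsInvertible M →
        Curv2.deg Ω (PicF.XT f (Over.mk x)) M 1 = n →
        0 < Module.finrank Ω (Coh.HH (PicF.XT f (Over.mk x)) M 0) →
        ∃ a : Over.mk x ⟶ W, a ≫ y = b ∧ Nonempty (pb (PicF.XTmap f a) L ≅
          CohB1.tensorMod M (CohB1.tensorPow (ClSub.idealMod (sec f b).ker) n))) ∧
      (∀ (Ω : Type u) [Field Ω] [IsAlgClosed Ω] (x : Spec (CommRingCat.of Ω) ⟶ S) (a : Over.mk x ⟶ W),
        ∃ M : (PicF.XT f (Over.mk x)).Modules, PicF.IsInvertible M ∧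
          0 < Module.finrank Ω (Coh.HH (PicF.XT f (Over.mk x)) M 0) ∧ Nonempty (pb (PicF.XTmap f a) L ≅
            CohB1.tensorMod M (CohB1.tensorPow (ClSub.idealMod (sec f (a ≫ y)).ker) n))) ∧
      ∀ (Ω : Type u) [Field Ω] [IsAlgClosed Ω] (x : Spec (CommRingCat.of Ω) ⟶ S) (b : Over.mk x ⟶ Over.mk f)
        (M : (PicF.XT f (Over.mk x)).Modules), PicF.IsInvertible M →
        Module.finrank Ω (Coh.HH (PicF.XT f (Over.mk x)) M 0) = 1 →
        {a : Over.mk x ⟶ W | a ≫ y = b ∧ Nonempty (pb (PicF.XTmap f a) L ≅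
          CohB1.tensorMod M (CohB1.tensorPow (ClSub.idealMod (sec f b).ker) n))}.Finite := by
  haveI : Smooth f := SmoothOfRelativeDimension.smooth 1 f
  induction n with
  | zero =>
    refine ⟨Over.mk f, 𝟙 _, Coh.structureModule _, inferInstanceAs (IsProper f), inferInstanceAs (Smooth f),
      inferInstanceAs (GeometricallyConnected f), inferInstanceAs (SmoothOfRelativeDimension 0 (𝟙 C)),
      H11Ample.isInvertible_structureModule (X := _), fun t => sub_self _, ?_, ?_, ?_⟩
    rotate_left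
    · intro Ω _ _ x a
      obtain ⟨_, _, _, _, hdim⟩ := xtPoint_facts f x
      refine ⟨Coh.structureModule _, H11Ample.isInvertible_structureModule (X := _), ?_,
        ⟨pO _ ≪≫ (H10Coh.Tw.rightUnitIso (Coh.structureModule _)).symm⟩⟩
      rw [H29RR.finrank_h0_structure Ω _]
      exact one_pos
    · intro Ω _ _ x b M hM h0
      refine (Set.finite_singleton b).subset ?_
      rintro a ⟨ha, -⟩
      rwa [Category.comp_id] at ha
    intro Ω _ _ x b M hM hd h0
    obtain ⟨_, _, _, _, hdim⟩ := xtPoint_facts f x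
    let F := PicF.XT f (Over.mk x)
    haveI := H29RR.isNoetherian_of_proper (k := Ω) (X := F)
    haveI : Module.Finite Ω (Coh.HH F M 0) := H29RR.finite_HH M hM 0
    haveI : Nontrivial (Coh.HH F M 0) := Module.nontrivial_of_finrank_pos h0
    obtain ⟨g, hg⟩ := H29RR.exists_global_ne_zero M inferInstance
    have hs : H11Tilde.homOfGlobal M g ≠ 0 := fun h => hg (by
      have h1 := congrArg (fun φ => φ.app ⊤ (H11Ample.one ⊤)) h
      beta_reduce at h1
      rw [H11Tilde.homOfGlobal_app, H10Coh.mres_self, one_smul] at h1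
      exact h1)
    haveI := (H29RR.deg_nonneg_of_hom (k := Ω) hdim.le hM hs).2 (by omega)
    exact ⟨b, Category.comp_id _,
      ⟨pO _ ≪≫ asIso (H11Tilde.homOfGlobal M g) ≪≫ (H10Coh.Tw.rightUnitIso M).symm⟩⟩
  | succ n ih =>
    obtain ⟨W, y, L, hWp, hWs, hWc, hWn, hL, hL0, hcatch, heff, hfin⟩ := ih
    haveI := hWp; haveI := hWs; haveI := hWc; haveI := hWn
    haveI := smoothOfRelativeDimension_isStableUnderBaseChange.{u} (n := 1)
    let W' : Over S := Over.mk (pullback.fst W.hom f ≫ W.hom)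
    let p : W' ⟶ W := Over.homMk (pullback.fst W.hom f) rfl
    let z : W' ⟶ Over.mk f := Over.homMk (pullback.snd W.hom f) pullback.condition.symm
    let L' := CohB1.tensorMod (pb (PicF.XTmap f p) L)
      (CohB1.tensorMod (pb (PicF.XTmap f z) LΔ) (ClSub.idealMod (sec f (p ≫ y)).ker))
    haveI : UniversallyOpen (pullback.fst W.hom f) := UniversallyOpen.of_flat _
    haveI : UniversallyOpen W.hom := UniversallyOpen.of_flat _
    have hL' : PicF.IsInvertible L' := H11Ample.isInvertible_tensor (H11Ample.isInvertible_pullback _ hL)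
      (H11Ample.isInvertible_tensor (H11Ample.isInvertible_pullback _ hLΔ) (isInvertible_sec f _))
    have key : ∀ {T : Over S} (a : T ⟶ W'), Nonempty (pb (PicF.XTmap f a) L' ≅
        CohB1.tensorMod (pb (PicF.XTmap f (a ≫ p)) L)
          (CohB1.tensorMod (pb (PicF.XTmap f (a ≫ z)) LΔ) (ClSub.idealMod (sec f (a ≫ p ≫ y)).ker))) := by
      intro T a
      obtain ⟨e⟩ := pullback_sec f a (p ≫ y)
      exact ⟨pT _ _ _ ≪≫ tI (pC _ _ (H27HilbOps.XTmap_comp f a p).symm _)
        (pT _ _ _ ≪≫ tI (pC _ _ (H27HilbOps.XTmap_comp f a z).symm _) e)⟩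
    refine ⟨W', p ≫ y, L', inferInstanceAs (IsProper (pullback.fst W.hom f ≫ W.hom)),
      inferInstanceAs (Smooth (pullback.fst W.hom f ≫ W.hom)),
      GeometricallyConnected.comp (pullback.fst W.hom f) W.hom, ?_, hL', ?_, ?_, ?_, ?_⟩
    · haveI : SmoothOfRelativeDimension 1 (pullback.fst W.hom f) :=
        MorphismProperty.pullback_fst (P := @SmoothOfRelativeDimension 1) _ _ inferInstance
      exact Nat.add_comm 1 n ▸ (inferInstanceAs (SmoothOfRelativeDimension (1 + n) (pullback.fst W.hom f ≫ y.left)))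
    · intro t
      let Ω := AlgebraicClosure (W'.left.residueField t)
      let g : Spec (CommRingCat.of Ω) ⟶ W'.left :=
        Spec.map (CommRingCat.ofHom (algebraMap (W'.left.residueField t) Ω)) ≫ W'.left.fromSpecResidueField t
      let x := g ≫ W'.hom
      let a : Over.mk x ⟶ W' := Over.homMk g rfl
      have hgt : a.left (IsLocalRing.closedPoint Ω) = t := by
        show (Spec.map _ ≫ W'.left.fromSpecResidueField t) _ = t
        rw [Scheme.Hom.comp_apply, Scheme.fromSpecResidueField_apply]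
      obtain ⟨e⟩ := key a
      obtain ⟨_, _, _, _, hdim⟩ := xtPoint_facts f x
      have hA : PicF.IsInvertible (pb (PicF.XTmap f (a ≫ p)) L) := H11Ample.isInvertible_pullback _ hL
      have hB := H11Ample.isInvertible_tensor (H11Ample.isInvertible_pullback (PicF.XTmap f (a ≫ z)) hLΔ)
        (isInvertible_sec f (a ≫ p ≫ y))
      have h := degAt_pullback f a hL' (IsLocalRing.closedPoint Ω)
      rw [degAt_point f x (H11Ample.isInvertible_pullback _ hL'), H29RR.deg_congr e,
        H29RR.deg_tensor hdim.le hA hB, deg_diff f hLΔ hΔ,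
        ← degAt_point f x hA (IsLocalRing.closedPoint Ω)] at h
      rw [degAt_pullback f (a ≫ p) hL, hL0, add_zero] at h
      rw [← hgt]
      exact h.symm
    · intro Ω _ _ x b M hM hd h0
      obtain ⟨_, _, _, _, hdim⟩ := xtPoint_facts f x
      let F := PicF.XT f (Over.mk x)
      obtain ⟨q₀, hq₀, hI, h0', hd'⟩ := H12Pic.CurveFam.exists_point_sub (k := Ω) (C := F) hdim hM h0
        (by have h : Curv2.deg Ω F M 1 = ((n + 1 : ℕ) : ℤ) := hd; omega)
      let q : Spec (CommRingCat.of Ω) ⟶ F := pointOfClosedPoint (F ↘ Spec (CommRingCat.of Ω)) q₀ hq₀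
      have hq : q ≫ PicF.XTproj f (Over.mk x) = 𝟙 _ := pointOfClosedPoint_comp _ _ _
      let c : Over.mk x ⟶ Over.mk f := Over.homMk (q ≫ pullback.fst f x) (by
        show (q ≫ pullback.fst f x) ≫ f = x
        rw [Category.assoc, pullback.condition, ← Category.assoc]
        erw [hq, Category.id_comp])
      have hqc : q = sec f c := eq_sec f c q hq rfl
      have hker : (sec f c).ker = H29RR.ptIdeal q₀ := by
        rw [← hqc]
        haveI := H29RR.isClosedImmersion_pt hq₀
        show (pointOfClosedPoint _ q₀ hq₀).ker = _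
        rw [pointOfClosedPoint, Scheme.Hom.ker_comp_of_isIso]
      obtain ⟨a', ha', ⟨e'⟩⟩ := hcatch Ω x b _ (H11Ample.isInvertible_tensor hI hM)
        (by rw [hd', hd]; push_cast; ring) h0'
      let a : Over.mk x ⟶ W' := Over.homMk (pullback.lift a'.left c.left ((Over.w a').trans (Over.w c).symm)) (by
        show pullback.lift _ _ _ ≫ pullback.fst W.hom f ≫ W.hom = x
        rw [pullback.lift_fst_assoc]
        exact Over.w a')
      have hap : a ≫ p = a' := Over.OverMorphism.ext (pullback.lift_fst _ _ _)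
      have haz : a ≫ z = c := Over.OverMorphism.ext (pullback.lift_snd _ _ _)
      have hay : a ≫ p ≫ y = b := by rw [← Category.assoc, hap, ha']
      refine ⟨a, hay, ?_⟩
      obtain ⟨e⟩ := key a
      rw [hap, haz, hay] at e
      obtain ⟨eN⟩ := pullback_diag f hLΔ hΔ c
      rw [hker] at eN
      let I := ClSub.idealMod (H29RR.ptIdeal q₀)
      let N := pb (PicF.XTmap f c) LΔ
      let Q := ClSub.idealMod (sec f b).ker
      let P' := CohB1.tensorMod M (CohB1.tensorPow Q n)
      exact ⟨e ≪≫ tI e' (Iso.refl _) ≪≫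
        tI (H10Coh.Tw.assoc I M (CohB1.tensorPow Q n) ≪≫ H10Coh.Tw.commIso I P') (Iso.refl _) ≪≫
        H10Coh.Tw.assoc P' I _ ≪≫
        tI (Iso.refl P') ((H10Coh.Tw.assoc I N Q).symm ≪≫
          tI (H10Coh.Tw.commIso I N ≪≫ eN) (Iso.refl Q) ≪≫ H10Coh.Tw.leftUnitIso Q) ≪≫
        H10Coh.Tw.assoc M (CohB1.tensorPow Q n) Q⟩
    · intro Ω _ _ x a
      obtain ⟨_, _, _, _, hdim⟩ := xtPoint_facts f x
      let F := PicF.XT f (Over.mk x)
      haveI := H29RR.isNoetherian_of_proper (k := Ω) (X := F)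
      obtain ⟨M', hM', h0', ⟨e'⟩⟩ := heff Ω x (a ≫ p)
      obtain ⟨eN⟩ := pullback_diag f hLΔ hΔ (a ≫ z)
      obtain ⟨e⟩ := key a
      let N := pb (PicF.XTmap f (a ≫ z)) LΔ
      let τ : Spec (CommRingCat.of Ω) ⟶ F := sec f (a ≫ z)
      obtain ⟨hx, hk, hres⟩ := S6487.section_pt τ (sec_proj f (a ≫ z))
      have hk' : (sec f (a ≫ z)).ker = _ := hk
      have hI := hk' ▸ isInvertible_sec f (a ≫ z)
      rw [hk'] at eN
      have hM : PicF.IsInvertible (CohB1.tensorMod M' N) :=
        H11Ample.isInvertible_tensor hM' (H11Ample.isInvertible_pullback _ hLΔ)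
      refine ⟨_, hM, ?_, ?_⟩
      · have hle : Module.finrank Ω (Coh.HH F (CohB1.tensorMod (ClSub.idealMod (H29RR.ptIdeal
            (τ (IsLocalRing.closedPoint Ω)))) (CohB1.tensorMod M' N)) 0) ≤
            Module.finrank Ω (Coh.HH F (CohB1.tensorMod M' N) 0) :=
          (H29RR.twist_point (k := Ω) hx hM (H11Ample.isCoh_of_isInvertible hI)).1
        let eM : CohB1.tensorMod (ClSub.idealMod (H29RR.ptIdeal (τ (IsLocalRing.closedPoint Ω))))
            (CohB1.tensorMod M' N) ≅ M' :=
          H10Coh.Tw.commIso _ _ ≪≫ H10Coh.Tw.assoc M' N _ ≪≫ tI (Iso.refl M') eN ≪≫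
            H10Coh.Tw.rightUnitIso M'
        rw [(H29RR.hhIso (k := Ω) eM 0).finrank_eq] at hle
        exact lt_of_lt_of_le h0' hle
      · let Q := ClSub.idealMod (sec f (a ≫ p ≫ y)).ker
        let eQ : CohB1.tensorPow (ClSub.idealMod (sec f ((a ≫ p) ≫ y)).ker) n ≅ CohB1.tensorPow Q n :=
          eqToIso (congrArg (fun b => CohB1.tensorPow (ClSub.idealMod (sec f b).ker) n) (Category.assoc _ _ _))
        exact ⟨e ≪≫ tI (e' ≪≫ tI (Iso.refl M') eQ) (Iso.refl _) ≪≫
          H10Coh.Tw.assoc M' _ _ ≪≫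
          tI (Iso.refl M') ((H10Coh.Tw.assoc (CohB1.tensorPow Q n) N Q).symm ≪≫
            tI (H10Coh.Tw.commIso (CohB1.tensorPow Q n) N) (Iso.refl Q) ≪≫
            H10Coh.Tw.assoc N (CohB1.tensorPow Q n) Q) ≪≫
          (H10Coh.Tw.assoc M' N _).symm⟩
    · intro Ω _ _ x b M hM h1
      obtain ⟨_, _, _, _, hdim⟩ := xtPoint_facts f x
      let F := PicF.XT f (Over.mk x)
      haveI := H29RR.isNoetherian_of_proper (k := Ω) (X := F)
      haveI : Module.Finite Ω (Coh.HH F M 0) := H29RR.finite_HH M hM 0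
      haveI : Nontrivial (Coh.HH F M 0) := Module.nontrivial_of_finrank_pos
        (R := Ω) (show 0 < Module.finrank Ω (Coh.HH F M 0) from h1 ▸ one_pos)
      obtain ⟨g, hg⟩ := H29RR.exists_global_ne_zero M inferInstance
      let Z : Set F := (H11Ample.gen M g : Set F)ᶜ
      have hZ : Z.Finite := H29Curve.finite_of_isClosed_ne_univ hdim.le
        (H11Ample.gen M g).isOpen.isClosed_compl fun h => by
          have hmem : genericPoint F ∈ Z := h ▸ Set.mem_univ _
          exact hmem (H29RR.genericPoint_mem_gen hM hg)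
      let pt : (Over.mk x ⟶ Over.mk f) → F := fun c => sec f c (IsLocalRing.closedPoint Ω)
      have hinj : Function.Injective pt := fun c c' h => by
        have h' : sec f c = sec f c' :=
          ext_of_apply_closedPoint_eq (F ↘ Spec (CommRingCat.of Ω)) (sec_proj f c) (sec_proj f c') h
        apply Over.OverMorphism.ext
        rw [← sec_fst f c, ← sec_fst f c', h']
      let Cs : Set (Over.mk x ⟶ Over.mk f) := pt ⁻¹' Z
      have hCs : Cs.Finite := hZ.preimage hinj.injOn
      let good : (Over.mk x ⟶ Over.mk f) → Set (Over.mk x ⟶ W) := fun c => {a' | a' ≫ y = b ∧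
        Module.finrank Ω (Coh.HH F (CohB1.tensorMod (ClSub.idealMod (sec f c).ker) M) 0) = 1 ∧
        Nonempty (pb (PicF.XTmap f a') L ≅ CohB1.tensorMod (CohB1.tensorMod (ClSub.idealMod (sec f c).ker) M)
          (CohB1.tensorPow (ClSub.idealMod (sec f b).ker) n))}
      have hgood : ∀ c, (good c).Finite := fun c => by
        by_cases h : Module.finrank Ω (Coh.HH F (CohB1.tensorMod (ClSub.idealMod (sec f c).ker) M) 0) = 1
        · exact (hfin Ω x b _ (H11Ample.isInvertible_tensor (isInvertible_sec f c) hM) h).subset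
            fun a' ha' => ⟨ha'.1, ha'.2.2⟩
        · exact Set.finite_empty.subset fun a' ha' => (h ha'.2.1).elim
      refine Set.Finite.of_finite_image (f := fun a => (a ≫ p, a ≫ z)) ?_ ?_
      swap
      · rintro a - a' - h
        obtain ⟨h₁, h₂⟩ := Prod.mk.inj h
        exact Over.OverMorphism.ext (pullback.hom_ext (congrArg CommaMorphism.left h₁)
          (congrArg CommaMorphism.left h₂))
      refine (hCs.biUnion fun c _ => (hgood c).prod (Set.finite_singleton c)).subset ?_
      rintro _ ⟨a, ⟨hay, ⟨e₁⟩⟩, rfl⟩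
      let c := a ≫ z
      let Q := ClSub.idealMod (sec f b).ker
      let N := pb (PicF.XTmap f c) LΔ
      let I := ClSub.idealMod (sec f c).ker
      have hQ : PicF.IsInvertible Q := isInvertible_sec f b
      have hI : PicF.IsInvertible I := isInvertible_sec f c
      obtain ⟨M', hM', h0', he'⟩ := heff Ω x (a ≫ p)
      rw [show (a ≫ p) ≫ y = b from (Category.assoc _ _ _).trans hay] at he'
      obtain ⟨e'⟩ := he'
      obtain ⟨e⟩ := key a
      rw [hay] at e
      obtain ⟨eN⟩ := pullback_diag f hLΔ hΔ c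
      have hMN : Nonempty (CohB1.tensorMod M' N ≅ M) := by
        refine H25Theta.cancel_right (H11Ample.isInvertible_tensorPow hQ (n + 1)) ⟨?_⟩
        exact (e ≪≫ tI e' (Iso.refl _) ≪≫ H10Coh.Tw.assoc M' _ _ ≪≫
          tI (Iso.refl M') ((H10Coh.Tw.assoc (CohB1.tensorPow Q n) N Q).symm ≪≫
            tI (H10Coh.Tw.commIso (CohB1.tensorPow Q n) N) (Iso.refl Q) ≪≫
            H10Coh.Tw.assoc N (CohB1.tensorPow Q n) Q) ≪≫
          (H10Coh.Tw.assoc M' N _).symm).symm ≪≫ e₁
      obtain ⟨eMN⟩ := hMN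
      let eM' : M' ≅ CohB1.tensorMod I M :=
        ((H10Coh.Tw.commIso _ _ ≪≫ H10Coh.Tw.assoc M' N I ≪≫ tI (Iso.refl M') eN ≪≫
          H10Coh.Tw.rightUnitIso M' : CohB1.tensorMod I (CohB1.tensorMod M' N) ≅ M')).symm ≪≫
          tI (Iso.refl I) eMN
      let τ : Spec (CommRingCat.of Ω) ⟶ F := sec f c
      obtain ⟨hx, hk, hres⟩ := S6487.section_pt τ (sec_proj f c)
      have hk' : (sec f c).ker = H29RR.ptIdeal (pt c) := hk
      have hIc := H11Ample.isCoh_of_isInvertible (hk' ▸ hI :
        PicF.IsInvertible (ClSub.idealMod (H29RR.ptIdeal (pt c))))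
      have hle : Module.finrank Ω (Coh.HH F (CohB1.tensorMod I M) 0) ≤ 1 := by
        have h := (H29RR.twist_point (k := Ω) hx hM hIc).1
        change Module.finrank Ω (Coh.HH F (CohB1.tensorMod (ClSub.idealMod (H29RR.ptIdeal (pt c))) M) 0) ≤ _ at h
        rw [← hk'] at h
        exact h.trans h1.le
      have hpos : 0 < Module.finrank Ω (Coh.HH F (CohB1.tensorMod I M) 0) := by
        have h := (H29RR.hhIso (k := Ω) eM' 0).finrank_eq
        exact lt_of_lt_of_eq h0' h
      have hcZ : pt c ∈ Z := fun hmem => by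
        have h := (H29RR.h0_add_one_iff (k := Ω) hx hres hM hIc).2 ⟨g, hmem⟩
        change Module.finrank Ω (Coh.HH F (CohB1.tensorMod (ClSub.idealMod (H29RR.ptIdeal (pt c))) M) 0) + 1 = _ at h
        rw [← hk'] at h
        have h' : Module.finrank Ω (Coh.HH F (CohB1.tensorMod I M) 0) + 1 = 1 := h.trans h1
        have hp' : 0 < Module.finrank Ω (Coh.HH F (CohB1.tensorMod I M) 0) := hpos
        exact absurd (Nat.succ.inj h') hp'.ne'
      refine Set.mem_biUnion (show c ∈ Cs from hcZ) ⟨⟨(Category.assoc _ _ _).trans hay, ?_,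
        ⟨e' ≪≫ tI eM' (Iso.refl _)⟩⟩, rfl⟩
      exact le_antisymm hle hpos

end Groth.Agent.H12Pic.PicCurve
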