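import Groth.Agent.H12Pic.PicCurve.AbelStage
import Groth.Agent.H12Pic.PicSeparated
import Groth.Agent.H21Taylor.GeomInt

/-!
# The algebraically trivial part of the Picard scheme of a smooth proper curve is proper
-/

set_option autoImplicit false
set_option linter.style.haveILetI false
set_option linter.unusedSectionVars false
set_option maxHeartbeats 1200000
set_option backward.isDefEq.respectTransparency.types false

noncomputable section

universe u

open CategoryTheory CategoryTheory.Limits AlgebraicGeometry TopologicalSpace Opposite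

namespace Groth.Agent.H12Pic.PicCurve

open Groth.Agent.H17.PullCl Groth.Agent.H12Pic.RigPoints
open Groth.Agent.H25Theta (pb pT pC pI tI pO)

attribute [local instance] fibreOverField fieldPointOver

variable {C S : Scheme.{u}} (f : C ⟶ S) [IsProper f] [SmoothOfRelativeDimension 1 f] [GeometricallyConnected f]

theorem isLocallyConstant_genus :
    IsLocallyConstant fun s => CohIII.fiberRank f (Coh.structureModule C) 1 s := by
  haveI : Smooth f := SmoothOfRelativeDimension.smooth 1 f
  have h := (isLocallyConstant_rankDiff f (fun s => (fibre_of_geometricallyConnected f s).2)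
    (H11Ample.isInvertible_structureModule (X := C))).comp fun d : ℤ => (1 - d).toNat
  convert h using 1
  funext s
  show CohIII.fiberRank f (Coh.structureModule C) 1 s = (1 - rankDiff f (Coh.structureModule C) s).toNat
  rw [rankDiff, fiberRank_structure_zero f s]
  omega

/-- A smooth curve with connected fibres is geometrically integral. -/
theorem geometricallyIntegral_curve : GeometricallyIntegral f := by
  haveI : Smooth f := SmoothOfRelativeDimension.smooth 1 f
  exact H21Taylor.geometricallyIntegral_of_smooth f fun s =>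
    GeometricallyConnected.geometrically_connectedSpace _ _ _ (IsPullback.of_hasPullback _ _)

variable (P₀ : Over S) (φ₀ : ∀ T : Over S, PicF.Cl (PicF.XT f T) → (T ⟶ P₀))
  (hP₀ : AbDual.IsRelPicZeroK Scheme.fppfPrecoverage f P₀ φ₀)

include hP₀ in
/-- A point over an algebraically closed field is the class of a module of degree zero. -/
theorem exists_class_of_point {Ω : Type u} [Field Ω] [IsAlgClosed Ω] (x : Spec (CommRingCat.of Ω) ⟶ S)
    (pt : Over.mk x ⟶ P₀) :
    ∃ L : (PicF.XT f (Over.mk x)).Modules, PicF.IsInvertible L ∧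
      AbDual.IsPicZeroCl f (Over.mk x) (PicF.cl L) ∧ φ₀ _ (PicF.cl L) = pt := by
  obtain ⟨R, hR, hR'⟩ := hP₀.locallySurjective _ pt
  obtain ⟨U, v, hv, hz, -, -, -⟩ := exists_member hR
  let t₀ : Spec (CommRingCat.of Ω) := IsLocalRing.closedPoint Ω
  let v₀ : U t₀ ⟶ Spec (CommRingCat.of Ω) := v t₀
  obtain ⟨c, hc, hφ⟩ := hR' (v t₀) (hv t₀)
  haveI : LocallyOfFinitePresentation v₀ := (hR.2 (hv t₀)).2
  haveI : JacobsonSpace (U t₀) := LocallyOfFiniteType.jacobsonSpace v₀
  obtain ⟨z₀, hz₀⟩ := hz t₀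
  obtain ⟨z, -, hz'⟩ := nonempty_inter_closedPoints (Z := (Set.univ : Set (U t₀))) ⟨z₀, trivial⟩
    isOpen_univ.isLocallyClosed
  rw [mem_closedPoints_iff] at hz'
  let σ := pointOfClosedPoint v₀ z hz'
  have hσ : σ ≫ v₀ = 𝟙 _ := pointOfClosedPoint_comp _ _ _
  let g : Over.mk x ⟶ AbDual.ovr (Over.mk x) (v t₀) := Over.homMk σ (by
    show σ ≫ v₀ ≫ x = x
    rw [← Category.assoc, hσ, Category.id_comp])
  have hg : g ≫ AbDual.ovrHom (Over.mk x) (v t₀) = 𝟙 _ := Over.OverMorphism.ext hσ
  obtain ⟨L, rfl, hL, -⟩ := id hc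
  have hL' : PicF.IsInvertible (pb (PicF.XTmap f g) L) := H11Ample.isInvertible_pullback _ hL
  refine ⟨_, hL', (isPicZeroCl_iff_degAt f _ hL').2 fun t => ?_, ?_⟩
  · rw [degAt_pullback f g hL]
    exact (isPicZeroCl_iff_degAt f _ hL).1 hc _
  · refine (hP₀.natural _ _ g _ hc).trans ?_
    rw [hφ, ← Category.assoc, hg, Category.id_comp]

include hP₀ in
/-- For every genus a proper smooth connected family covers the points over that genus. -/
theorem exists_cover (n : ℕ) :
    ∃ (W : Over S) (h : W ⟶ P₀), IsProper W.hom ∧ GeometricallyConnected W.hom ∧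
      ∀ p : P₀.left, CohIII.fiberRank f (Coh.structureModule C) 1 (P₀.hom p) = n → p ∈ Set.range h.left := by
  obtain ⟨_, _, _⟩ := family_facts f (Over.mk f)
  obtain ⟨LΔ, hLΔ, ⟨eΔ⟩⟩ := H11Sym.exists_inverse
    (H29Blow.isInvertible_of_isEffCartierIdeal _ (H12Pic.CurveFam.isEffCartierIdeal_section
      (PicF.XTproj f (Over.mk f)) (pullback.diagonal f) (pullback.diagonal_snd f)))
  have hΔ : ClSub.IsInverseOf LΔ (ClSub.idealMod (pullback.diagonal f).ker) :=
    (by first | exact ⟨eΔ⟩ | exact ⟨H10Coh.Tw.commIso _ _ ≪≫ eΔ⟩)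
  obtain ⟨W, y, L, hWp, -, hWc, -, hL, hL0, hcatch, -, -⟩ := exists_stage f hLΔ hΔ n
  have hc : AbDual.IsPicZeroCl f W (PicF.cl L) := (isPicZeroCl_iff_degAt f _ hL).2 hL0
  refine ⟨W, φ₀ W (PicF.cl L), hWp, hWc, fun p hp => ?_⟩
  let Ω := AlgebraicClosure (P₀.left.residueField p)
  let σ : Spec (CommRingCat.of Ω) ⟶ P₀.left :=
    Spec.map (CommRingCat.ofHom (algebraMap (P₀.left.residueField p) Ω)) ≫ P₀.left.fromSpecResidueField p
  have hσp : σ (IsLocalRing.closedPoint Ω) = p := by
    show (Spec.map _ ≫ P₀.left.fromSpecResidueField p) _ = p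
    rw [Scheme.Hom.comp_apply, Scheme.fromSpecResidueField_apply]
  let x := σ ≫ P₀.hom
  let pt : Over.mk x ⟶ P₀ := Over.homMk σ rfl
  obtain ⟨M₀, hM₀, hM₀c, hφ⟩ := exists_class_of_point f P₀ φ₀ hP₀ x pt
  obtain ⟨_, _, _, _, hdim⟩ := xtPoint_facts f x
  let F := PicF.XT f (Over.mk x)
  haveI := H29RR.isNoetherian_of_proper (k := Ω) (X := F)
  have hd0 : Curv2.deg Ω F M₀ 1 = 0 := by
    rw [← degAt_point f x hM₀ (IsLocalRing.closedPoint Ω)]
    exact (isPicZeroCl_iff_degAt f _ hM₀).1 hM₀c _
  have hg : Curv2.genus Ω F = n := by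
    rw [genus_point f x]
    show CohIII.fiberRank f _ 1 ((σ ≫ P₀.hom) _) = n
    rw [Scheme.Hom.comp_apply, hσp, hp]
  haveI : JacobsonSpace F := LocallyOfFiniteType.jacobsonSpace (F ↘ Spec (CommRingCat.of Ω))
  obtain ⟨q₀, -, hq₀⟩ := nonempty_inter_closedPoints (Z := (Set.univ : Set F)) Set.univ_nonempty
    isOpen_univ.isLocallyClosed
  rw [mem_closedPoints_iff] at hq₀
  let q := pointOfClosedPoint (F ↘ Spec (CommRingCat.of Ω)) q₀ hq₀
  have hq : q ≫ PicF.XTproj f (Over.mk x) = 𝟙 _ := pointOfClosedPoint_comp _ _ _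
  let b : Over.mk x ⟶ Over.mk f := Over.homMk (q ≫ pullback.fst f x) (by
    show (q ≫ pullback.fst f x) ≫ f = x
    rw [Category.assoc, pullback.condition, ← Category.assoc]
    erw [hq, Category.id_comp])
  let Q := ClSub.idealMod (sec f b).ker
  let N := pb (PicF.XTmap f b) LΔ
  have hQ : PicF.IsInvertible Q := isInvertible_sec f b
  have hN : PicF.IsInvertible N := H11Ample.isInvertible_pullback _ hLΔ
  obtain ⟨eN⟩ := pullback_diag f hLΔ hΔ b
  have hdN : Curv2.deg Ω F N 1 = 1 := by
    have h := H29RR.deg_congr (k := Ω) eN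
    rw [H29RR.deg_tensor hdim.le hN hQ, H29RR.deg_structureModule, deg_ideal_sec] at h
    have h' : Curv2.deg Ω F N 1 + (-1) = 0 := h
    omega
  have hdpow : ∀ j : ℕ, Curv2.deg Ω F (CohB1.tensorPow N j) 1 = j := fun j => by
    induction j with
    | zero => exact H29RR.deg_structureModule
    | succ j ih =>
      show Curv2.deg Ω F (CohB1.tensorMod _ N) 1 = _
      rw [H29RR.deg_tensor hdim.le (H11Ample.isInvertible_tensorPow hN j) hN, ih, hdN]
      push_cast; ring
  let M := CohB1.tensorMod M₀ (CohB1.tensorPow N n)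
  have hM : PicF.IsInvertible M := H11Ample.isInvertible_tensor hM₀ (H11Ample.isInvertible_tensorPow hN n)
  have hdM : Curv2.deg Ω F M 1 = n := by
    show Curv2.deg Ω F (CohB1.tensorMod _ _) 1 = _
    rw [H29RR.deg_tensor hdim.le hM₀ (H11Ample.isInvertible_tensorPow hN n), hd0, hdpow, zero_add]
  have h0 : 0 < Module.finrank Ω (Coh.HH F M 0) := by
    have h : (Module.finrank Ω (Coh.HH F M 0) : ℤ) - Module.finrank Ω (Coh.HH F M 1) =
        Curv2.deg Ω F M 1 + Module.finrank Ω (Coh.HH F (Coh.structureModule F) 0) - Curv2.genus Ω F :=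
      H29RR.riemann_roch (k := Ω) hdim.le M
    rw [hdM, H29RR.finrank_h0_structure Ω F, hg] at h
    show 0 < Module.finrank Ω (Coh.HH F M 0)
    omega
  obtain ⟨a, -, ⟨e⟩⟩ := hcatch Ω x b M hM hdM h0
  obtain ⟨φ⟩ := H10Coh.Tw.nonempty_tensorPow_inverse eN hN hQ n
  have hcl : PicF.pullCl (PicF.XTmap f a) (PicF.cl L) = PicF.cl M₀ :=
    Quot.sound ⟨e ≪≫ H10Coh.Tw.assoc M₀ _ _ ≪≫ tI (Iso.refl M₀) φ ≪≫ H10Coh.Tw.rightUnitIso M₀⟩
  have h := hP₀.natural _ _ a _ hc
  rw [hcl, hφ] at h
  refine ⟨a.left (IsLocalRing.closedPoint Ω), ?_⟩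
  rw [← Scheme.Hom.comp_apply, ← Over.comp_left, ← h]
  exact hσp

include hP₀ in
/-- The algebraically trivial part is proper with geometrically connected fibres. -/
theorem picZero_proper_connected [IsSeparated P₀.hom] [LocallyOfFiniteType P₀.hom] :
    IsProper P₀.hom ∧ GeometricallyConnected P₀.hom := by
  have hlc := isLocallyConstant_genus f
  let U : ℕ → S.Opens := fun n =>
    ⟨{s | CohIII.fiberRank f (Coh.structureModule C) 1 s = n}, hlc.isOpen_fiber n⟩
  have hU : iSup U = ⊤ := eq_top_iff.2 fun s _ => TopologicalSpace.Opens.mem_iSup.2 ⟨_, rfl⟩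
  have key : ∀ n, IsProper (P₀.hom ∣_ U n) ∧ GeometricallyConnected (P₀.hom ∣_ U n) := by
    intro n
    obtain ⟨W, h, hWp, hWc, hcov⟩ := exists_cover f P₀ φ₀ hP₀ n
    haveI := hWp; haveI := hWc
    let q := P₀.hom ∣_ U n
    let h' := h.left ∣_ (P₀.hom ⁻¹ᵁ U n)
    haveI : Surjective h' := ⟨fun p => by
      obtain ⟨w, hw⟩ := hcov p.1 p.2
      refine ⟨⟨w, show h.left w ∈ P₀.hom ⁻¹ᵁ U n from hw.symm ▸ p.2⟩, Subtype.ext ?_⟩
      rw [morphismRestrict_base]
      exact hw⟩
    have hw : IsProper (h' ≫ q) ∧ GeometricallyConnected (h' ≫ q) := by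
      rw [← morphismRestrict_comp]
      have hwh : h.left ≫ P₀.hom = W.hom := Over.w h
      haveI : IsProper (h.left ≫ P₀.hom) := hwh.symm ▸ hWp
      haveI : GeometricallyConnected (h.left ≫ P₀.hom) := hwh.symm ▸ hWc
      exact ⟨IsZariskiLocalAtTarget.restrict (P := @IsProper) inferInstance _,
        MorphismProperty.of_isPullback (P := @GeometricallyConnected)
          (isPullback_morphismRestrict (h.left ≫ P₀.hom) (U n)).flip inferInstance⟩
    haveI := hw.1; haveI := hw.2
    haveI : IsSeparated q := IsZariskiLocalAtTarget.restrict (P := @IsSeparated) inferInstance _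
    haveI : LocallyOfFiniteType q := IsZariskiLocalAtTarget.restrict (P := @LocallyOfFiniteType) inferInstance _
    haveI : UniversallyClosed q := UniversallyClosed.of_comp_surjective h' q
    refine ⟨{}, ⟨geometrically_iff_of_isClosedUnderIsomorphisms.mpr fun K _ x => ?_⟩⟩
    haveI : ConnectedSpace ↥(pullback (h' ≫ q) x) :=
      GeometricallyConnected.geometrically_connectedSpace _ _ _ (IsPullback.of_hasPullback _ _)
    let m : pullback (h' ≫ q) x ⟶ pullback q x := pullback.map (h' ≫ q) x q x h' (𝟙 _) (𝟙 _)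
      (by rw [Category.comp_id]) (by rw [Category.comp_id, Category.id_comp])
    haveI : Surjective m := by
      exact MorphismProperty.of_isPullback (P := @Surjective)
        (show IsPullback (pullback.fst (h' ≫ q) x) m h' (pullback.fst q x) from
          IsPullback.of_bot (by
            have h1 : m ≫ pullback.snd q x = pullback.snd (h' ≫ q) x := (pullback.lift_snd _ _ _).trans (Category.comp_id _)
            rw [h1]; exact IsPullback.of_hasPullback _ _)
            (pullback.lift_fst _ _ _).symm (IsPullback.of_hasPullback q x)) inferInstance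
    exact m.surjective.connectedSpace m.continuous
  refine ⟨IsZariskiLocalAtTarget.of_iSup_eq_top (P := @IsProper) U hU fun n => (key n).1, ?_⟩
  haveI : IsZariskiLocalAtTarget @GeometricallyConnected := by
    rw [GeometricallyConnected.eq_geometrically]; infer_instance
  exact IsZariskiLocalAtTarget.of_iSup_eq_top (P := @GeometricallyConnected) U hU fun n => (key n).2

end Groth.Agent.H12Pic.PicCurve
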