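import Groth.Agent.H29RR.Choice

/-!
# Adding a point to a module with first cohomology
-/

set_option autoImplicit false
set_option linter.style.haveILetI false
set_option linter.unusedSectionVars false

universe u

open CategoryTheory CategoryTheory.Limits AlgebraicGeometry TopologicalSpace Opposite

namespace Groth.Agent.H12Pic.PicCurve

open Groth.Agent.H29RR

attribute [local instance 10000] H10Coh.hasSheafifyAb H10Coh.hasWeakSheafifyAb H10Coh.hasExtAb H10Coh.enoughInjAb

variable {k : Type u} [Field k] {X : Scheme.{u}} [X.Over (Spec (CommRingCat.of k))]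
  [IsProper (X ↘ Spec (CommRingCat.of k))] [IsIntegral X] [Smooth (X ↘ Spec (CommRingCat.of k))] [IsAlgClosed k]

/-- A closed point whose addition does not increase `h⁰` exists as long as `h¹` is nonzero. -/
theorem exists_point_add_h0_eq (hdim : topologicalKrullDim X = 1) {L : X.Modules} (hL : PicF.IsInvertible L)
    (h : Nontrivial (Coh.HH X L 1)) :
    ∃ x : X, IsClosed ({x} : Set X) ∧ PicF.IsInvertible (ClSub.idealMod (ptIdeal x)) ∧
      ∃ L' : X.Modules, PicF.IsInvertible L' ∧
        Nonempty (L ≅ CohB1.tensorMod (ClSub.idealMod (ptIdeal x)) L') ∧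
        Module.finrank k (Coh.HH X L' 0) = Module.finrank k (Coh.HH X L 0) := by
  haveI := isNoetherian_of_proper (k := k) (X := X)
  by_contra hno
  push Not at hno
  let O := Coh.structureModule X
  have hO : PicF.IsInvertible O := H11Ample.isInvertible_structureModule (X := X)
  have h00 := finrank_h0_structure k X
  have step : ∀ n : ℕ, ∃ (D : X.Modules) (t : Γ(D, ⊤)), PicF.IsInvertible D ∧ t ≠ 0 ∧
      Curv2.deg k X (CohB1.tensorMod L D) 1 = Curv2.deg k X L 1 + n ∧
      Module.finrank k (Coh.HH X (CohB1.tensorMod L D) 0) = Module.finrank k (Coh.HH X L 0) + n := by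
    intro n
    induction n with
    | zero =>
      haveI : Nontrivial (Coh.HH X O 0) := Module.nontrivial_of_finrank_pos (R := k) (by rw [h00]; exact one_pos)
      obtain ⟨t, ht⟩ := exists_global_ne_zero O inferInstance
      refine ⟨O, t, hO, ht, ?_, ?_⟩
      · rw [deg_congr (k := k) (H10Coh.Tw.rightUnitIso L), Nat.cast_zero, add_zero]
      · exact (hhIso (k := k) (H10Coh.Tw.rightUnitIso L) 0).finrank_eq
    | succ n ih =>
      obtain ⟨D, t, hD, ht, hdeg, hh⟩ := ih
      have hLD := H11Ample.isInvertible_tensor hL hD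
      obtain ⟨x, hxt, hx, hI⟩ := exists_point (k := k) hdim _ (genericPoint_mem_gen hD ht)
      have hIc := H16Derived.KFlat.Stalk.isCoh_of_isFinLocFree (H28Pinch.isFinLocFree_of_isInvertible hI)
      have hx1 := finrank_residue_eq_one (k := k) hx
      -- the module of the point
      obtain ⟨N, hN, ⟨eN⟩, hNdeg, hN0, -⟩ := exists_add_point (k := k) hx hI hO
      rw [hx1, deg_structureModule] at hNdeg
      haveI : Nontrivial (Coh.HH X N 0) := Module.nontrivial_of_finrank_pos (R := k) (by rw [h00] at hN0; omega)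
      obtain ⟨s, hs⟩ := exists_global_ne_zero N inferInstance
      -- adding the point to L
      obtain ⟨L₁, hL₁, ⟨e₁⟩, hL₁deg, hL₁0, hL₁1⟩ := exists_add_point (k := k) hx hI hL
      rw [hx1] at hL₁deg hL₁1
      have hne := hno x hx hI L₁ hL₁ ⟨e₁⟩
      obtain ⟨g, hg⟩ := (h0_add_one_iff (k := k) hx hx1 hL₁ hIc).1 (by
        rw [← (hhIso (k := k) e₁ 0).finrank_eq]; omega)
      -- the new divisor
      have hD' := H11Ample.isInvertible_tensor hN hD
      have hst : (H11Ample.tm s t : Γ(CohB1.tensorMod N D, ⊤)) ≠ 0 := fun h0 => by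
        have hmem : genericPoint X ∈ H11Ample.gen (CohB1.tensorMod N D) (H11Ample.tm s t) := by
          rw [H11Ample.gen_tm hN hD]
          exact ⟨genericPoint_mem_gen hN hs, genericPoint_mem_gen hD ht⟩
        have hb := (H11Ample.mem_gen_iff hD' _ _).1 hmem
        rw [h0, map_zero] at hb
        exact one_ne_zero (hb.1 (a₁ := (1 : X.presheaf.stalk (genericPoint X))) (a₂ := 0)
          ((smul_zero _).trans (smul_zero _).symm))
      refine ⟨CohB1.tensorMod N D, H11Ample.tm s t, hD', hst, ?_, ?_⟩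
      · rw [deg_tensor (k := k) hdim.le hL hD'] 
        rw [deg_tensor (k := k) hdim.le hN hD]
        rw [deg_tensor (k := k) hdim.le hL hD] at hdeg
        push_cast
        omega
      · have hG := H11Ample.isInvertible_tensor hL₁ hD
        -- L₁ ≅ L ⊗ N
        let eIN : CohB1.tensorMod (ClSub.idealMod (ptIdeal x)) N ≅ O := eN.symm
        let eLN : L₁ ≅ CohB1.tensorMod L N :=
          (H10Coh.Tw.leftUnitIso L₁).symm ≪≫
            PicGrp.tensorModIso (eN ≪≫ H10Coh.Tw.commIso _ _) (Iso.refl L₁) ≪≫ H10Coh.Tw.assoc N _ L₁ ≪≫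
            PicGrp.tensorModIso (Iso.refl N) e₁.symm ≪≫ H10Coh.Tw.commIso _ _
        have hiff := (h0_add_one_iff (k := k) hx hx1 hG hIc).2 ⟨H11Ample.tm g t, by
          rw [H11Ample.gen_tm hL₁ hD]; exact ⟨hg, hxt⟩⟩
        have eA : CohB1.tensorMod (ClSub.idealMod (ptIdeal x)) (CohB1.tensorMod L₁ D) ≅ CohB1.tensorMod L D :=
          (H10Coh.Tw.assoc _ L₁ D).symm ≪≫ PicGrp.tensorModIso e₁.symm (Iso.refl D)
        have eB : CohB1.tensorMod L₁ D ≅ CohB1.tensorMod L (CohB1.tensorMod N D) :=
          PicGrp.tensorModIso eLN (Iso.refl D) ≪≫ H10Coh.Tw.assoc L N D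
        rw [(hhIso (k := k) eA 0).finrank_eq, (hhIso (k := k) eB 0).finrank_eq] at hiff
        omega
  haveI := finite_HH (k := k) L hL 1
  have hpos := Module.finrank_pos (R := k) (M := Coh.HH X L 1)
  obtain ⟨n, hn⟩ : ∃ n : ℕ, 2 * (Curv2.genus k X : ℤ) - 1 - Curv2.deg k X L 1 ≤ n :=
    ⟨_, Int.self_le_toNat _⟩
  obtain ⟨D, t, hD, -, hdeg, hh⟩ := step n
  have hLD := H11Ample.isInvertible_tensor hL hD
  haveI := h1_vanish_of_deg (k := k) hdim.le h00 hLD (by omega)
  have r1 := riemann_roch (k := k) hdim.le (CohB1.tensorMod L D)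
  have r2 := riemann_roch (k := k) hdim.le L
  rw [Module.finrank_zero_of_subsingleton (M := Coh.HH X (CohB1.tensorMod L D) 1)] at r1
  omega

end Groth.Agent.H12Pic.PicCurve
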