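import Groth.Agent.H17.PullCl
import Groth.Agent.H12Pic.PicSeparated
import Groth.Prelude.Def_AbDual

/-!
# Base change of a scheme representing the relative Picard sheaf
-/

set_option autoImplicit false
set_option backward.isDefEq.respectTransparency.types false

noncomputable section

universe u

open CategoryTheory CategoryTheory.Limits AlgebraicGeometry

namespace Groth.Agent.H12Pic.PicCurve.BaseChangePic

open Groth.Agent.H17.PullCl

variable {X S S' : Scheme.{u}} (f : X ⟶ S) (g : S' ⟶ S) (P : Over S)
  (φ : ∀ T : Over S, PicF.Cl (PicF.XT f T) → (T ⟶ P))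

/-- A scheme over `S'` as a scheme over `S`. -/
abbrev down (T : Over S') : Over S := Over.mk (T.hom ≫ g)

/-- A morphism over `S'` as a morphism over `S`. -/
abbrev downHom {T T' : Over S'} (h : T' ⟶ T) : down g T' ⟶ down g T :=
  Over.homMk h.left (by simp [reassoc_of% Over.w h])

/-- the base change of the representing scheme -/
abbrev bcP : Over S' := Over.mk (pullback.snd P.hom g)

/-- the class seen over `S` -/
def toS (T : Over S') (c : PicF.Cl (PicF.XT (pullback.snd f g) T)) : PicF.Cl (PicF.XT f (down g T)) :=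
  PicF.pullCl (pullbackLeftPullbackSndIso f g T.hom).inv c

/-- the base change of the point map -/
def bcφ (T : Over S') (c : PicF.Cl (PicF.XT (pullback.snd f g) T)) : T ⟶ bcP g P :=
  Over.homMk (pullback.lift (φ (down g T) (toS f g T c)).left T.hom (Over.w (φ (down g T) (toS f g T c))))
    (pullback.lift_snd _ _ _)

@[reassoc]
theorem bcφ_fst (T : Over S') (c : PicF.Cl (PicF.XT (pullback.snd f g) T)) :
    (bcφ f g P φ T c).left ≫ pullback.fst P.hom g = (φ (down g T) (toS f g T c)).left :=
  pullback.lift_fst _ _ _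

theorem isInvertibleCl_toS (T : Over S') {c : PicF.Cl (PicF.XT (pullback.snd f g) T)}
    (hc : PicF.IsInvertibleCl c) : PicF.IsInvertibleCl (toS f g T c) :=
  isInvertibleCl_pullCl _ hc

theorem toS_pullCl {T T' : Over S'} (h : T' ⟶ T) (c : PicF.Cl (PicF.XT (pullback.snd f g) T)) :
    toS f g T' (PicF.pullCl (PicF.XTmap (pullback.snd f g) h) c) =
      PicF.pullCl (PicF.XTmap f (downHom g h)) (toS f g T c) := by
  rw [toS, toS, ← pullCl_comp, ← pullCl_comp, inv_XTmap]

/-- morphisms into the base change are determined by the first projection -/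
theorem hom_ext_bcP {T : Over S'} {a b : T ⟶ bcP g P}
    (h : a.left ≫ pullback.fst P.hom g = b.left ≫ pullback.fst P.hom g) : a = b :=
  Over.OverMorphism.ext (pullback.hom_ext h ((Over.w a).trans (Over.w b).symm))

variable {φ} {P}

/-- The base change of a scheme representing the relative Picard sheaf represents it. -/
theorem isRelPicK_bc (hP : AbDual.IsRelPicK Scheme.fppfPrecoverage f P φ) :
    AbDual.IsRelPicK Scheme.fppfPrecoverage (pullback.snd f g) (bcP g P) (bcφ f g P φ) where
  natural T T' h c hc := hom_ext_bcP g P <| by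
    rw [Over.comp_left, Category.assoc, bcφ_fst, bcφ_fst, toS_pullCl,
      hP.natural _ _ (downHom g h) _ (isInvertibleCl_toS f g T hc)]
    rfl
  locallySurjective T a := by
    let a₀ : down g T ⟶ P := Over.homMk (a.left ≫ pullback.fst P.hom g) (by
      rw [Category.assoc, pullback.condition, ← Category.assoc]
      exact congrArg (· ≫ g) (Over.w a))
    obtain ⟨R, hR, hR'⟩ := hP.locallySurjective (down g T) a₀
    refine ⟨R, hR, fun U v hv => ?_⟩
    obtain ⟨c, hc, hφ⟩ := hR' v hv
    let i : down g (AbDual.ovr T v) ⟶ AbDual.ovr (down g T) v :=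
      Over.homMk (𝟙 U) ((Category.id_comp _).trans (Category.assoc v T.hom g).symm)
    refine ⟨PicF.pullCl (pullbackLeftPullbackSndIso f g (AbDual.ovr T v).hom).hom
      (PicF.pullCl (PicF.XTmap f i) c), isInvertibleCl_pullCl _ (isInvertibleCl_pullCl _ hc),
      hom_ext_bcP g P ?_⟩
    rw [bcφ_fst, toS, ← pullCl_comp, Iso.inv_hom_id]
    erw [pullCl_id]
    rw [hP.natural _ _ i _ hc, hφ]
    exact (Category.id_comp _).trans (Category.assoc _ _ _).symm
  locallyInjective T c c' hc hc' h := by
    have h' : φ (down g T) (toS f g T c) = φ (down g T) (toS f g T c') := Over.OverMorphism.ext <| by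
      rw [← bcφ_fst, ← bcφ_fst, h]
    obtain ⟨R, hR, hR'⟩ := hP.locallyInjective _ _ _ (isInvertibleCl_toS f g T hc)
      (isInvertibleCl_toS f g T hc') h'
    refine ⟨R, hR, fun U v hv => ?_⟩
    let i : down g (AbDual.ovr T v) ⟶ AbDual.ovr (down g T) v :=
      Over.homMk (𝟙 U) ((Category.id_comp _).trans (Category.assoc v T.hom g).symm)
    have hi : downHom g (AbDual.ovrHom T v) = i ≫ AbDual.ovrHom (down g T) v :=
      Over.OverMorphism.ext (Category.id_comp v).symm
    have h2 := congrArg (PicF.pullCl (PicF.XTmap f i)) (hR' v hv)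
    rw [← pullCl_comp, ← pullCl_comp, ← XTmap_comp, ← hi, ← toS_pullCl, ← toS_pullCl] at h2
    have h3 := congrArg (PicF.pullCl (pullbackLeftPullbackSndIso f g (AbDual.ovr T v).hom).hom) h2
    have key : ∀ d, PicF.pullCl (pullbackLeftPullbackSndIso f g (AbDual.ovr T v).hom).hom
        (toS f g (AbDual.ovr T v) d) = d := fun d => by
      rw [toS, ← pullCl_comp, Iso.hom_inv_id]
      exact pullCl_id d
    rwa [key, key] at h3

end Groth.Agent.H12Pic.PicCurve.BaseChangePic
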