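import Groth.Agent.H29RR.Points
import Groth.Agent.H29RR.Degree
import Mathlib.AlgebraicGeometry.Morphisms.FlatRank

/-!
# The degree of a finite closed subscheme of a curve as an Euler characteristic
-/

set_option autoImplicit false
set_option linter.style.haveILetI false
set_option linter.unusedSectionVars false
set_option backward.isDefEq.respectTransparency.types false

noncomputable section

universe u

open CategoryTheory CategoryTheory.Limits AlgebraicGeometry TopologicalSpace Opposite

namespace Groth.Agent.H12Pic.PicCurve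

attribute [local instance 10000] H10Coh.hasSheafifyAb H10Coh.hasWeakSheafifyAb H10Coh.hasExtAb H10Coh.enoughInjAb

variable {K : Type u} [Field K] {Y : Scheme.{u}} [Y.Over (Spec (CommRingCat.of K))]
  [IsProper (Y ↘ Spec (CommRingCat.of K))]

/-- The rank of the spectrum of a finite algebra over a field. -/
theorem finrank_specMap_field (K' S : Type u) [Field K'] [CommRing S] [Algebra K' S] [Module.Finite K' S]
    (z : PrimeSpectrum K') :
    (Spec.map (CommRingCat.ofHom (algebraMap K' S))).finrank z = Module.finrank K' S := by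
  rw [Scheme.Hom.finrank_SpecMap_algebraMap, Module.rankAtStalk_eq_finrank_of_free]
  simp

omit [Y.Over (Spec (CommRingCat.of K))] [IsProper (Y ↘ Spec (CommRingCat.of K))] in
/-- The rank of a finite scheme over a field is the dimension of its functions. -/
theorem finrank_affine {Z : Scheme.{u}} [IsAffine Z] (p : Z ⟶ Spec (CommRingCat.of K)) [IsFinite p]
    (z : Spec (CommRingCat.of K)) :
    letI := ((Scheme.ΓSpecIso (CommRingCat.of K)).inv ≫ p.appTop).hom.toAlgebra
    p.finrank z = Module.finrank K Γ(Z, ⊤) := by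
  let φ : CommRingCat.of K ⟶ Γ(Z, ⊤) := (Scheme.ΓSpecIso (CommRingCat.of K)).inv ≫ p.appTop
  letI : Algebra K Γ(Z, ⊤) := φ.hom.toAlgebra
  have hp : p = Z.isoSpec.hom ≫ Spec.map (CommRingCat.ofHom (algebraMap K Γ(Z, ⊤))) := by
    show p = Z.isoSpec.hom ≫ Spec.map φ
    rw [Scheme.isoSpec_hom, Spec.map_comp, ← Scheme.toSpecΓ_naturality_assoc, toSpecΓ_SpecMap_ΓSpecIso_inv,
      Category.comp_id]
  haveI : IsFinite (Spec.map (CommRingCat.ofHom (algebraMap K Γ(Z, ⊤)))) :=
    (MorphismProperty.cancel_left_of_respectsIso @IsFinite Z.isoSpec.hom _).mp (hp ▸ ‹IsFinite p›)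
  haveI : Module.Finite K Γ(Z, ⊤) := RingHom.finite_algebraMap.mp ((IsFinite.SpecMap_iff (f := _)).mp this)
  haveI : Flat (Spec.map (CommRingCat.ofHom (algebraMap K Γ(Z, ⊤)))) :=
    Flat.SpecMap_iff.mpr (RingHom.flat_algebraMap_iff.mpr inferInstance)
  show p.finrank z = _
  conv_lhs => rw [hp, Scheme.Hom.finrank_comp_left_of_isIso]
  exact finrank_specMap_field K Γ(Z, ⊤) z

/-- The rank of a finite closed subscheme is the dimension of its functions. -/
theorem finrank_subscheme_eq_h0 (I : Y.IdealSheafData) [IsFinite (I.subschemeι ≫ Y ↘ Spec (CommRingCat.of K))]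
    (z : Spec (CommRingCat.of K)) :
    (I.subschemeι ≫ Y ↘ Spec (CommRingCat.of K)).finrank z = Module.finrank K (Coh.HH Y (ClSub.quotMod I) 0) := by
  let f := Y ↘ Spec (CommRingCat.of K)
  let p := I.subschemeι ≫ f
  haveI : IsAffine I.subscheme := isAffine_of_isAffineHom p
  let φ : CommRingCat.of K ⟶ Γ(I.subscheme, ⊤) := (Scheme.ΓSpecIso (CommRingCat.of K)).inv ≫ p.appTop
  letI : Algebra K Γ(I.subscheme, ⊤) := φ.hom.toAlgebra
  show p.finrank z = _
  rw [finrank_affine p z]
  let e : Coh.HH Y (ClSub.quotMod I) 0 ≃ₗ[K] Γ(I.subscheme, ⊤) :=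
    { (H29RR.sec (ClSub.quotMod I)).trans
        (show Γ(ClSub.quotMod I, ⊤) ≃+ Γ(I.subscheme, ⊤) from AddEquiv.refl _) with
      map_smul' := fun c v => by
        show H29RR.sec (ClSub.quotMod I) (c • v) = φ c * (show Γ(I.subscheme, ⊤) from H29RR.sec (ClSub.quotMod I) v)
        rw [H29RR.sec_smul]
        rfl }
  exact e.finrank_eq.symm

/-- The rank of a finite closed subscheme with invertible ideal. -/
theorem finrank_subscheme_eq_euler (I : Y.IdealSheafData) [IsFinite (I.subschemeι ≫ Y ↘ Spec (CommRingCat.of K))]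
    (hI : PicF.IsInvertible (ClSub.idealMod I)) (z : Spec (CommRingCat.of K)) :
    ((I.subschemeι ≫ Y ↘ Spec (CommRingCat.of K)).finrank z : ℤ) =
      Curv2.euler K Y (Coh.structureModule Y) - Curv2.euler K Y (ClSub.idealMod I) := by
  haveI := H29RR.isNoetherian_of_proper (k := K) (X := Y)
  let p := I.subschemeι ≫ Y ↘ Spec (CommRingCat.of K)
  haveI : Finite I.subscheme := by
    have h := p.finite_preimage_singleton z
    have hu : p ⁻¹' {z} = Set.univ := Set.eq_univ_of_forall fun w =>
      Subsingleton.elim (α := PrimeSpectrum K) (p w) z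
    rw [hu] at h
    exact Set.finite_univ_iff.mp h
  have hsupp : CohB1.support (ClSub.quotMod I) ⊆ Set.range I.subschemeι := fun y hy =>
    LeadProper.support_subset_range (F := ClSub.quotMod I)
      (@H10Coh.isQuasicoherent_pushforward _ _ I.subschemeι inferInstance inferInstance _ H10Coh.isQuasicoherent_unit)
      I.subschemeι (Iso.refl _) hy
  haveI : JacobsonSpace I.subscheme := LocallyOfFiniteType.jacobsonSpace p
  haveI := H10Coh.epi_toSubscheme I
  have hS : (ShortComplex.mk (ClSub.idealModι I) (ClSub.toSubscheme I) (kernel.condition _)).ShortExact :=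
    { exact := ShortComplex.exact_kernel _
      mono_f := inferInstanceAs (Mono (kernel.ι _)) }
  have hIc := H16Derived.KFlat.Stalk.isCoh_of_isFinLocFree (H28Pinch.isFinLocFree_of_isInvertible hI)
  obtain ⟨-, -, h⟩ := (H29RR.twist_seq (k := K) hS (H11Ample.isInvertible_structureModule (X := Y)) hIc
    (H10Coh.isCoh_structureModule' Y)
    (H24FSch.isCoh_pushforward_of_isClosedImmersion I.subschemeι (H10Coh.isCoh_structureModule' _))
    ((Set.finite_range _).subset hsupp) (fun w hw => by
      obtain ⟨d, rfl⟩ := hsupp hw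
      rw [← Set.image_singleton]
      exact I.subschemeι.isClosedEmbedding.isClosedMap _ (isClosed_singleton)))
  change Curv2.euler K Y (CohB1.tensorMod (Coh.structureModule Y) (Coh.structureModule Y)) =
    Curv2.euler K Y (CohB1.tensorMod (ClSub.idealMod I) (Coh.structureModule Y)) +
      (Module.finrank K (Coh.HH Y (ClSub.quotMod I) 0) : ℤ) at h
  rw [H25Euler.euler_congr (H10Coh.Tw.rightUnitIso _), H25Euler.euler_congr (H10Coh.Tw.rightUnitIso _),
    ← finrank_subscheme_eq_h0 I z] at h
  omega

end Groth.Agent.H12Pic.PicCurve
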