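import Groth.Agent.H12Pic.PicCurve.Divisor
import Groth.Agent.H12Pic.CurveFam.PointFamily
import Groth.Agent.H27HilbOne.Basic
import Groth.Agent.LeadBC.GenBC.AppIsoApps
import Groth.Agent.H28Pinch.DirectImageTrivial
import Groth.Agent.H29RR.CurveIntegral
import Groth.Agent.H8Props.FieldDimEquidim
import Groth.Agent.H8Props.FieldDimSmooth

/-!
# Points of a family of genus one curves from modules of degree one
-/

set_option autoImplicit false
set_option linter.style.haveILetI false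
set_option linter.unusedSectionVars false
set_option maxHeartbeats 1600000
set_option backward.isDefEq.respectTransparency.types false

noncomputable section

universe u

open CategoryTheory CategoryTheory.Limits AlgebraicGeometry TopologicalSpace Opposite

namespace Groth.Agent.H12Pic.PicCurve

open Groth.Agent.H28Mero
open Groth.Agent.H25Theta (pb pT pC pI tI pO)

attribute [local instance] fibreOverField

section sections

variable {Y T : Scheme.{u}} {π : Y ⟶ T} [IsSeparated π]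

/-- Sections with the same kernel are equal. -/
theorem section_eq_of_ker_eq {P P' : T ⟶ Y} (hP : P ≫ π = 𝟙 T) (hP' : P' ≫ π = 𝟙 T) (h : P.ker = P'.ker) :
    P = P' := by
  haveI : IsClosedImmersion (P' ≫ π) := by rw [hP']; infer_instance
  haveI : IsClosedImmersion P' := IsClosedImmersion.of_comp P' π
  have hl := IsClosedImmersion.lift_fac P' P (le_of_eq h.symm)
  have h1 : IsClosedImmersion.lift P' P (le_of_eq h.symm) = 𝟙 T := by
    have := congr($hl ≫ π)
    rw [Category.assoc, hP', Category.comp_id, hP] at this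
    exact this
  rw [← hl, h1, Category.id_comp]

/-- The base change of a section and of its ideal. -/
theorem comap_ker_lift {Y' T' : Scheme.{u}} {π' : Y' ⟶ T'} {g : Y' ⟶ Y} {b : T' ⟶ T}
    (hsq : IsPullback g π' π b) (P : T ⟶ Y) (hP : P ≫ π = 𝟙 T) (P' : T' ⟶ Y') (hP' : P' ≫ π' = 𝟙 T')
    (h : P' ≫ g = b ≫ P) : P.ker.comap g = P'.ker := by
  haveI : IsClosedImmersion (P ≫ π) := by rw [hP]; infer_instance
  haveI : IsClosedImmersion P := IsClosedImmersion.of_comp P π
  have h2 : IsPullback P' b g P := by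
    refine IsPullback.of_right ?_ h hsq.flip
    rw [hP', hP]
    exact IsPullback.of_horiz_isIso ⟨(Category.id_comp _).trans (Category.comp_id _).symm⟩
  rw [← Scheme.IdealSheafData.ker_fst_of_isClosedImmersion, ← h2.isoPullback_hom_fst,
    Scheme.Hom.ker_comp_of_isIso]

/-- A divisor of degree one is the image of a section. -/
theorem exists_section_of_deg_one (I : Y.IdealSheafData) (h : Mor2.IsFinLocFreeOfDeg 1 (I.subschemeι ≫ π)) :
    ∃ P : T ⟶ Y, P ≫ π = 𝟙 T ∧ I = P.ker := by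
  obtain ⟨⟨hfin, hflat, hlfp⟩, hrk⟩ := h
  haveI := hfin; haveI := hflat; haveI := hlfp
  haveI : IsIso (I.subschemeι ≫ π) := (Scheme.Hom.isIso_iff_finrank_eq _).mpr (funext hrk)
  refine ⟨inv (I.subschemeι ≫ π) ≫ I.subschemeι, ?_, ?_⟩
  · rw [Category.assoc]
    exact IsIso.inv_hom_id (I.subschemeι ≫ π)
  · rw [Scheme.Hom.ker_comp_of_isIso, Scheme.IdealSheafData.ker_subschemeι]

end sections

variable {Y T : Scheme.{u}} (π : Y ⟶ T)

/-- A section whose ideal twists `L` to a module from the base. -/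
def IsPointOf (L : Y.Modules) (P : T ⟶ Y) : Prop :=
  P ≫ π = 𝟙 T ∧ ∃ M : T.Modules, PicF.IsInvertible M ∧
    Nonempty (CohB1.tensorMod L (ClSub.idealMod P.ker) ≅ pb π M)

variable [IsProper π] [SmoothOfRelativeDimension 1 π]

theorem isEffCartierIdeal_fibre_section (P : T ⟶ Y) (hP : P ≫ π = 𝟙 T) (t : T) :
    BlowUp.IsEffCartierIdeal (P.ker.comap (π.fiberι t)) := by
  haveI := smoothOfRelativeDimension_isStableUnderBaseChange.{u} (n := 1)
  have hsq : IsPullback (π.fiberι t) (π.fiberToSpecResidueField t) π (T.fromSpecResidueField t) :=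
    IsPullback.of_hasPullback π (T.fromSpecResidueField t)
  haveI : SmoothOfRelativeDimension 1 (π.fiberToSpecResidueField t) := MorphismProperty.of_isPullback hsq inferInstance
  haveI : IsProper (π.fiberToSpecResidueField t) := MorphismProperty.of_isPullback hsq inferInstance
  let P' : Spec (T.residueField t) ⟶ π.fiber t := hsq.lift (T.fromSpecResidueField t ≫ P) (𝟙 _)
    (by rw [Category.assoc, hP, Category.comp_id]; exact (Category.id_comp _).symm)
  rw [comap_ker_lift hsq P hP P' (hsq.lift_snd _ _ _) (hsq.lift_fst _ _ _)]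
  exact H12Pic.CurveFam.isEffCartierIdeal_section _ P' (hsq.lift_snd _ _ _)

theorem IsPointOf.pullback {L : Y.Modules} {P : T ⟶ Y} (h : IsPointOf π L P) {Y' T' : Scheme.{u}} {π' : Y' ⟶ T'}
    [IsProper π'] [SmoothOfRelativeDimension 1 π']
    {g : Y' ⟶ Y} {b : T' ⟶ T} (hsq : IsPullback g π' π b) (P' : T' ⟶ Y') (hP' : P' ≫ π' = 𝟙 T')
    (hg : P' ≫ g = b ≫ P) : IsPointOf π' (pb g L) P' := by
  obtain ⟨hP, M, hM, ⟨e⟩⟩ := h
  have hI := H12Pic.CurveFam.isEffCartierIdeal_section π P hP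
  have hc := comap_ker_lift hsq P hP P' hP' hg
  obtain ⟨eI⟩ := H12Pic.CurveFam.nonempty_pullback_idealMod_comap g hI
    (hc.symm ▸ H12Pic.CurveFam.isEffCartierIdeal_section π' P' hP')
  exact ⟨hP', pb b M, H11Ample.isInvertible_pullback b hM, ⟨tI (Iso.refl _) (eI ≪≫
    eqToIso (congrArg ClSub.idealMod hc)).symm ≪≫ (pT g _ _).symm ≪≫ (Scheme.Modules.pullback g).mapIso e ≪≫
      pC g π hsq.w M ≪≫ (pC π' b rfl M).symm⟩⟩

/-- An isomorphism to the structure sheaf turns a module from the base into the structure sheaf. -/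
theorem isPointOf_of_iso {L : Y.Modules} {P : T ⟶ Y} (hP : P ≫ π = 𝟙 T)
    (e : CohB1.tensorMod L (ClSub.idealMod P.ker) ≅ Coh.structureModule Y) : IsPointOf π L P :=
  ⟨hP, _, H11Ample.isInvertible_structureModule (X := T), ⟨e ≪≫ (pO π).symm⟩⟩

/-- The fibres of a family of smooth connected curves. -/
theorem fibre_of_geometricallyConnected [GeometricallyConnected π] (t : T) :
    IsIntegral (π.fiber t) ∧ topologicalKrullDim (π.fiber t) ≤ 1 := by
  haveI := smoothOfRelativeDimension_isStableUnderBaseChange.{u} (n := 1)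
  let K := T.residueField t
  have hsq : IsPullback (π.fiberι t) (π.fiber t ↘ Spec (CommRingCat.of K)) π (T.fromSpecResidueField t) :=
    IsPullback.of_hasPullback π (T.fromSpecResidueField t)
  haveI : IsProper (π.fiber t ↘ Spec (CommRingCat.of K)) := MorphismProperty.of_isPullback hsq inferInstance
  haveI : SmoothOfRelativeDimension 1 (π.fiber t ↘ Spec (CommRingCat.of K)) :=
    MorphismProperty.of_isPullback hsq inferInstance
  haveI : Smooth (π.fiber t ↘ Spec (CommRingCat.of K)) := SmoothOfRelativeDimension.smooth 1 _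
  haveI : GeometricallyConnected (π.fiber t ↘ Spec (CommRingCat.of K)) :=
    MorphismProperty.of_isPullback hsq inferInstance
  haveI := H29RR.isIntegral_of_geomConnected K (π.fiber t)
  refine ⟨inferInstance, le_of_eq ?_⟩
  rw [← H8Props.FieldDim.localDim_eq_dim_of_irreducible (π.fiber t ↘ Spec (CommRingCat.of K)) (genericPoint _),
    H8Props.FieldDim.localDim_eq_of_smooth (π.fiber t ↘ Spec (CommRingCat.of K)) 1, Nat.cast_one]

variable [GeometricallyConnected π] {L : Y.Modules} (hL : PicF.IsInvertible L) (hg : IsGood π L)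

include hL hg in
/-- There is at most one such section. -/
theorem isPointOf_unique {P P' : T ⟶ Y} (h : IsPointOf π L P) (h' : IsPointOf π L P') : P = P' := by
  haveI := smoothOfRelativeDimension_isStableUnderBaseChange.{u} (n := 1)
  haveI : Smooth π := SmoothOfRelativeDimension.smooth 1 π
  obtain ⟨hP, M, hM, ⟨e⟩⟩ := h
  obtain ⟨hP', M', hM', ⟨e'⟩⟩ := h'
  have hloc : ∀ t : T, ∃ U : T.Opens, t ∈ U ∧
      Nonempty (pb U.ι M ≅ Coh.structureModule U) ∧ Nonempty (pb U.ι M' ≅ Coh.structureModule U) := by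
    intro t
    obtain ⟨U₁, h₁, ⟨a₁⟩⟩ := hM t
    obtain ⟨U₂, h₂, ⟨a₂⟩⟩ := hM' t
    let r₁ := ((Scheme.Modules.restrictFunctorIsoPullback U₁.ι).app M).symm ≪≫ a₁
    let r₂ := ((Scheme.Modules.restrictFunctorIsoPullback U₂.ι).app M').symm ≪≫ a₂
    exact ⟨U₁ ⊓ U₂, ⟨h₁, h₂⟩,
      ⟨(pC _ _ (T.homOfLE_ι inf_le_left) _).symm ≪≫ (Scheme.Modules.pullback _).mapIso r₁ ≪≫ pO _⟩,
      ⟨(pC _ _ (T.homOfLE_ι inf_le_right) _).symm ≪≫ (Scheme.Modules.pullback _).mapIso r₂ ≪≫ pO _⟩⟩
  choose U hxU a a' using hloc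
  refine Scheme.Cover.hom_ext (T.openCoverOfIsOpenCover U
    (eq_top_iff.2 fun x _ => TopologicalSpace.Opens.mem_iSup.2 ⟨x, hxU x⟩)) _ _ fun t => ?_
  let π' := π ∣_ U t
  let g := (π ⁻¹ᵁ U t).ι
  have hsq : IsPullback g π' π (U t).ι := (isPullback_morphismRestrict π (U t)).flip
  haveI : IsProper π' := MorphismProperty.of_isPullback hsq inferInstance
  haveI : SmoothOfRelativeDimension 1 π' := MorphismProperty.of_isPullback hsq inferInstance
  haveI : Smooth π' := SmoothOfRelativeDimension.smooth 1 π'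
  haveI : GeometricallyConnected π' := MorphismProperty.of_isPullback hsq inferInstance
  have key : ∀ (Q : T ⟶ Y) (hQ : Q ≫ π = 𝟙 T) (N : T.Modules), Nonempty (pb (U t).ι N ≅ Coh.structureModule _) →
      Nonempty (CohB1.tensorMod L (ClSub.idealMod Q.ker) ≅ pb π N) →
      ∃ Q' : (U t).toScheme ⟶ (π ⁻¹ᵁ U t).toScheme, Q' ≫ π' = 𝟙 _ ∧ Q' ≫ g = (U t).ι ≫ Q ∧
        Nonempty (CohB1.tensorMod (ClSub.idealMod Q'.ker) (pb g L) ≅ Coh.structureModule _) := by
    rintro Q hQ N ⟨b⟩ hN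
    let Q' := hsq.lift ((U t).ι ≫ Q) (𝟙 _) (by rw [Category.assoc, hQ, Category.comp_id, Category.id_comp])
    have h1 : Q' ≫ g = (U t).ι ≫ Q := hsq.lift_fst _ _ _
    have h2 : Q' ≫ π' = 𝟙 _ := hsq.lift_snd _ _ _
    have hI := H12Pic.CurveFam.isEffCartierIdeal_section π Q hQ
    have hc := comap_ker_lift hsq Q hQ Q' h2 h1
    obtain ⟨eI⟩ := H12Pic.CurveFam.nonempty_pullback_idealMod_comap g hI
      (hc.symm ▸ H12Pic.CurveFam.isEffCartierIdeal_section π' Q' h2)
    exact ⟨Q', h2, h1, ⟨H10Coh.Tw.commIso _ _ ≪≫ tI (Iso.refl _) (eI ≪≫ eqToIso (congrArg ClSub.idealMod hc)).symm ≪≫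
      (pT g _ _).symm ≪≫ (Scheme.Modules.pullback g).mapIso hN.some ≪≫ pC g π hsq.w N ≪≫ (pC π' (U t).ι rfl N).symm ≪≫
        (Scheme.Modules.pullback π').mapIso b ≪≫ pO π'⟩⟩
  obtain ⟨Q, hQ1, hQ2, ⟨eQ⟩⟩ := key P hP M (a t) ⟨e⟩
  obtain ⟨Q', hQ1', hQ2', ⟨eQ'⟩⟩ := key P' hP' M' (a' t) ⟨e'⟩
  have hk := divisor_unique π' (H11Ample.isInvertible_pullback g hL) (fun s => (fibre_of_geometricallyConnected π' s).1)
    (hg.pullback π hL hsq) (H12Pic.CurveFam.isEffCartierIdeal_section π' Q hQ1)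
    (H12Pic.CurveFam.isEffCartierIdeal_section π' Q' hQ1') (isEffCartierIdeal_fibre_section π' Q hQ1)
    (isEffCartierIdeal_fibre_section π' Q' hQ1') eQ eQ'
  rw [← section_eq_of_ker_eq hQ1 hQ1' hk] at hQ2'
  exact hQ2.symm.trans hQ2'

include hL hg in
/-- A good module on a family of genus one curves determines a section. -/
theorem existsUnique_point
    (hO : ∀ t : T, CohIII.fiberRank π (Coh.structureModule Y) 0 t = 1 ∧
      CohIII.fiberRank π (Coh.structureModule Y) 1 t = 1) :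
    ∃! P : T ⟶ Y, IsPointOf π L P := by
  haveI := smoothOfRelativeDimension_isStableUnderBaseChange.{u} (n := 1)
  haveI : Smooth π := SmoothOfRelativeDimension.smooth 1 π
  have hloc : ∀ t : T, ∃ U : T.Opens, t ∈ U ∧ ∃ Q : U.toScheme ⟶ (π ⁻¹ᵁ U).toScheme, Q ≫ (π ∣_ U) = 𝟙 _ ∧
      Nonempty (CohB1.tensorMod (pb (π ⁻¹ᵁ U).ι L) (ClSub.idealMod Q.ker) ≅ Coh.structureModule _) := by
    intro t
    obtain ⟨V, hV, htV, he, -⟩ := exists_nhd_of_fiberRank_one_eq_zero π hL (hg t).2
    obtain ⟨hex, -⟩ := good_sections π (fun s => (fibre_of_geometricallyConnected π s).1) hL hg hV he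
    obtain ⟨m, y, hy, hyt⟩ := hex t htV
    let U : T.Opens := ⟨π '' genAt L m ∩ V, (π.isOpenMap _ (isOpen_genAt hL m)).inter V.2⟩
    refine ⟨U, ⟨⟨y, hy, hyt⟩, htV⟩, ?_⟩
    let g := (π ⁻¹ᵁ U).ι
    let π' := π ∣_ U
    have hsq : IsPullback g π' π U.ι := (isPullback_morphismRestrict π U).flip
    haveI : IsProper π' := MorphismProperty.of_isPullback hsq inferInstance
    haveI : SmoothOfRelativeDimension 1 π' := MorphismProperty.of_isPullback hsq inferInstance
    haveI : Smooth π' := SmoothOfRelativeDimension.smooth 1 π'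
    haveI : GeometricallyConnected π' := MorphismProperty.of_isPullback hsq inferInstance
    have hle : (⊤ : ((π ⁻¹ᵁ U).toScheme).Opens) ≤ g ⁻¹ᵁ (π ⁻¹ᵁ V) := fun z _ => z.2.2
    let L' := pb g L
    have hL' : PicF.IsInvertible L' := H11Ample.isInvertible_pullback g hL
    let m' : Γ(L', ⊤) := L'.presheaf.map (homOfLE hle).op (OmegaSh.pullSect g L (π ⁻¹ᵁ V) m)
    have hm' : ∀ s : U.toScheme, ∃ z, π' z = s ∧ zeroGerm L' (H11Tilde.homOfGlobal L' m') z = ⊤ := by
      intro s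
      obtain ⟨⟨x, hx, hxs⟩, -⟩ := s.2
      obtain ⟨z, hz, hzs⟩ := Scheme.exists_preimage_of_isPullback hsq x s hxs
      refine ⟨z, hzs, zeroGerm_homOfGlobal_eq_top m' ⟨trivial, ?_⟩⟩
      have hb := bijective_germ_pullSect g hL m z (hz.symm ▸ hx)
      rw [TopCat.Presheaf.germ_res_apply]
      exact hb
    obtain ⟨J, hJd, ⟨eJ⟩⟩ := exists_divisor_of_section π' hL'
      (fun s => (fibre_of_geometricallyConnected π' s).1) (fun s => (fibre_of_geometricallyConnected π' s).2) 1
      (fun s => by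
        have hr : ∀ p, CohIII.fiberRank π' (Coh.structureModule _) p s =
            CohIII.fiberRank π (Coh.structureModule Y) p (U.ι s) := fun p => by
          rw [← fiberRank_pullback π (H11Ample.isInvertible_structureModule (X := Y)) hsq p s]
          exact (H29RR.hhIso (k := (↑U : Scheme).residueField s) ((Scheme.Modules.pullback _).mapIso
            (H16Derived.KFlat.Stalk.structurePullbackIso g).symm) p).finrank_eq
        rw [hr, hr]
        exact hO _)
      (hg.pullback π hL hsq) _ hm'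
    obtain ⟨Q, hQ, rfl⟩ := exists_section_of_deg_one J hJd
    exact ⟨Q, hQ, ⟨H10Coh.Tw.commIso _ _ ≪≫ eJ⟩⟩
  choose U htU Q hQ eQ using hloc
  have hpoint : ∀ t, ∀ {T' Y' : Scheme.{u}} {π' : Y' ⟶ T'} {g : Y' ⟶ Y} {b : T' ⟶ T} (hsq : IsPullback g π' π b)
      [IsProper π'] [SmoothOfRelativeDimension 1 π'] (v : T' ⟶ (U t).toScheme) (hv : v ≫ (U t).ι = b) (P' : T' ⟶ Y')
      (hP' : P' ≫ π' = 𝟙 T') (hg' : P' ≫ g = v ≫ Q t ≫ (π ⁻¹ᵁ U t).ι), IsPointOf π' (pb g L) P' := by
    intro t T' Y' π' g b hsq _ _ v hv P' hP' hg'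
    have hsqU : IsPullback (π ⁻¹ᵁ U t).ι (π ∣_ U t) π (U t).ι := (isPullback_morphismRestrict π (U t)).flip
    haveI : IsProper (π ∣_ U t) := MorphismProperty.of_isPullback hsqU inferInstance
    haveI : SmoothOfRelativeDimension 1 (π ∣_ U t) := MorphismProperty.of_isPullback hsqU inferInstance
    let w : Y' ⟶ (π ⁻¹ᵁ U t).toScheme := hsqU.lift g (π' ≫ v) (by rw [Category.assoc, hv]; exact hsq.w)
    have hw : w ≫ (π ⁻¹ᵁ U t).ι = g := hsqU.lift_fst _ _ _
    have hw' : IsPullback w π' (π ∣_ U t) v := by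
      refine IsPullback.of_right ?_ (hsqU.lift_snd _ _ _) hsqU
      rw [hw, hv]; exact hsq
    have h := (isPointOf_of_iso (π ∣_ U t) (hQ t) (eQ t).some).pullback (π ∣_ U t) hw' P' hP' (by
      rw [← cancel_mono (π ⁻¹ᵁ U t).ι, Category.assoc, hw, hg', Category.assoc])
    obtain ⟨hP'', M, hM, ⟨e⟩⟩ := h
    exact ⟨hP'', M, hM, ⟨tI (pC w _ hw L).symm (Iso.refl _) ≪≫ e⟩⟩
  let 𝒰 := T.openCoverOfIsOpenCover U (eq_top_iff.2 fun x _ => TopologicalSpace.Opens.mem_iSup.2 ⟨x, htU x⟩)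
  let P : T ⟶ Y := Scheme.Cover.glueMorphisms 𝒰 (fun t => Q t ≫ (π ⁻¹ᵁ U t).ι) fun a b => by
    let Z := pullback (U a).ι (U b).ι
    let j : Z ⟶ T := pullback.fst (U a).ι (U b).ι ≫ (U a).ι
    let Y' := Limits.pullback π j
    have hsq : IsPullback (pullback.fst π j) (pullback.snd π j) π j := IsPullback.of_hasPullback π j
    haveI : IsProper (pullback.snd π j) := MorphismProperty.of_isPullback hsq inferInstance
    haveI : SmoothOfRelativeDimension 1 (pullback.snd π j) := MorphismProperty.of_isPullback hsq inferInstance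
    have hπQ : ∀ t, (Q t ≫ (π ⁻¹ᵁ U t).ι) ≫ π = (U t).ι := fun t => by
      rw [Category.assoc, ← morphismRestrict_ι, ← Category.assoc, hQ, Category.id_comp]
    let Pa : Z ⟶ Y' := hsq.lift (pullback.fst _ _ ≫ Q a ≫ (π ⁻¹ᵁ U a).ι) (𝟙 _) (by
      rw [Category.assoc, hπQ, Category.id_comp])
    let Pb : Z ⟶ Y' := hsq.lift (pullback.snd _ _ ≫ Q b ≫ (π ⁻¹ᵁ U b).ι) (𝟙 _) (by
      rw [Category.assoc, hπQ, Category.id_comp]; exact pullback.condition.symm)
    haveI : GeometricallyConnected (pullback.snd π j) := MorphismProperty.of_isPullback hsq inferInstance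
    have := isPointOf_unique (pullback.snd π j)
      (H11Ample.isInvertible_pullback _ hL) (hg.pullback π hL hsq)
      (hpoint a hsq (pullback.fst _ _) rfl Pa (hsq.lift_snd _ _ _) (hsq.lift_fst _ _ _))
      (hpoint b hsq (pullback.snd _ _) pullback.condition.symm Pb (hsq.lift_snd _ _ _) (hsq.lift_fst _ _ _))
    have h := congr($this ≫ pullback.fst π j)
    rw [hsq.lift_fst, hsq.lift_fst] at h
    exact h
  have hfac : ∀ t, (U t).ι ≫ P = Q t ≫ (π ⁻¹ᵁ U t).ι := fun t => Scheme.Cover.ι_glueMorphisms 𝒰 _ _ t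
  have hP : P ≫ π = 𝟙 T := Scheme.Cover.hom_ext 𝒰 _ _ fun t => by
    show (U t).ι ≫ P ≫ π = (U t).ι ≫ 𝟙 T
    rw [← Category.assoc, hfac, Category.assoc, ← morphismRestrict_ι, ← Category.assoc, hQ, Category.id_comp,
      Category.comp_id]
  have hK : ∀ s : T, IsIso (π.fiberToSpecResidueField s).appTop := fun s =>
    LeadBC.GenBC.isIso_appTop_of_hRank _ (Eq.trans ((H29RR.hhIso (k := T.residueField s)
      (H16Derived.KFlat.Stalk.structurePullbackIso (π.fiberι s)) 0).finrank_eq).symm (hO s).1)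
  have hI := H12Pic.CurveFam.isEffCartierIdeal_section π P hP
  obtain ⟨M, hM, ⟨eM⟩⟩ := H28Pinch.exists_invertible_of_locally_trivial π
    (fun U => haveI := LeadBC.GenBC.isIso_app_of_fibres π hK U; ConcreteCategory.bijective_of_isIso (π.app U))
    (CohB1.tensorMod L (ClSub.idealMod P.ker)) fun t => ⟨U t, htU t, by
      have hsq : IsPullback (π ⁻¹ᵁ U t).ι (π ∣_ U t) π (U t).ι := (isPullback_morphismRestrict π (U t)).flip
      haveI : IsProper (π ∣_ U t) := MorphismProperty.of_isPullback hsq inferInstance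
      haveI : SmoothOfRelativeDimension 1 (π ∣_ U t) := MorphismProperty.of_isPullback hsq inferInstance
      have hc := comap_ker_lift hsq P hP (Q t) (hQ t) (hfac t).symm
      obtain ⟨eI⟩ := H12Pic.CurveFam.nonempty_pullback_idealMod_comap (π ⁻¹ᵁ U t).ι hI
        (hc.symm ▸ H12Pic.CurveFam.isEffCartierIdeal_section (π ∣_ U t) (Q t) (hQ t))
      exact ⟨pT _ L _ ≪≫ tI (Iso.refl _) (eI ≪≫ eqToIso (congrArg ClSub.idealMod hc)) ≪≫ (eQ t).some⟩⟩
  exact ⟨P, ⟨hP, M, hM, ⟨eM⟩⟩, fun P' hP' => isPointOf_unique π hL hg hP' ⟨hP, M, hM, ⟨eM⟩⟩⟩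

end Groth.Agent.H12Pic.PicCurve
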