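import Groth.Agent.H12Pic.PicCurve.Good
import Groth.Agent.S6487
import Groth.Agent.LeadBC.GenBC.AppIsoApps
import Groth.Agent.H27HilbOps.Basic
import Groth.Agent.H29RR.Consts
import Groth.Agent.H27CurveDiv.AddPoint

/-!
# The families of a smooth proper curve over a separably closed field
-/

set_option autoImplicit false
set_option linter.style.haveILetI false
set_option linter.unusedSectionVars false
set_option maxHeartbeats 800000
set_option backward.isDefEq.respectTransparency.types false

noncomputable section

universe u

open CategoryTheory CategoryTheory.Limits AlgebraicGeometry TopologicalSpace Opposite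

namespace Groth.Agent.H12Pic.PicCurve

attribute [local instance] fibreOverField

variable {k : Type u} [Field k] [IsSepClosed k] {X : Scheme.{u}} {f : X ⟶ Spec (CommRingCat.of k)}

variable (hX : Curve.IsSmoothProperCurve k X f) (T : Over (Spec (CommRingCat.of k)))

include hX in
theorem smoothRelDim_curve : SmoothOfRelativeDimension 1 f := by
  obtain ⟨_, _, _, hdim⟩ := hX
  exact H27CurveDiv.smoothOfRelativeDimension_of_dim f 1 (by exact_mod_cast hdim)

include hX in
theorem geometricallyConnected_curve : GeometricallyConnected f := by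
  obtain ⟨_, _, _, hdim⟩ := hX
  exact H22Alg.VarGeom.geometricallyConnected_of_isSepClosed f

include hX in
theorem isProper_family : IsProper (PicF.XTproj f T) :=
  haveI := hX.1
  MorphismProperty.pullback_snd (P := @IsProper) f T.hom inferInstance

include hX in
theorem smooth_family : SmoothOfRelativeDimension 1 (PicF.XTproj f T) :=
  haveI := smoothRelDim_curve hX
  H27CurveDiv.smooth_XTproj f T

include hX in
/-- The fibres of a family are integral curves. -/
theorem fibre_family (t : T.left) :
    IsIntegral ((PicF.XTproj f T).fiber t) ∧ topologicalKrullDim ((PicF.XTproj f T).fiber t) ≤ 1 := by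
  haveI := geometricallyConnected_curve hX
  obtain ⟨_, _, _, hdim⟩ := hX
  let π := PicF.XTproj f T
  let K := T.left.residueField t
  let g : Spec K ⟶ Spec (CommRingCat.of k) := T.left.fromSpecResidueField t ≫ T.hom
  let d : CommRingCat.of k ⟶ K := Spec.preimage g
  letI : Algebra k K := d.hom.toAlgebra
  have hsq : IsPullback (π.fiberι t ≫ pullback.fst f T.hom)
      (π.fiber t ↘ Spec (CommRingCat.of K)) f (Spec.map (CommRingCat.ofHom (algebraMap k K))) := by
    show IsPullback _ _ f (Spec.map d)
    rw [Spec.map_preimage]
    exact (IsPullback.of_hasPullback π (T.left.fromSpecResidueField t)).paste_horiz (IsPullback.of_hasPullback f T.hom)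
  haveI : IsProper (π.fiber t ↘ Spec (CommRingCat.of K)) := MorphismProperty.of_isPullback hsq inferInstance
  haveI : Smooth (π.fiber t ↘ Spec (CommRingCat.of K)) := MorphismProperty.of_isPullback hsq inferInstance
  haveI : GeometricallyConnected (π.fiber t ↘ Spec (CommRingCat.of K)) :=
    MorphismProperty.of_isPullback hsq inferInstance
  exact ⟨H29RR.isIntegral_of_geomConnected K _, ((H8Props.FieldDim.dim_baseChange _ _ _ hsq).trans hdim).le⟩

include hX in
/-- The cohomology of the structure sheaf on a curve. -/
theorem exists_genus : ∃ γ : ℕ, ∀ (T : Over (Spec (CommRingCat.of k))) (t : T.left),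
    CohIII.fiberRank (PicF.XTproj f T) (Coh.structureModule _) 0 t = 1 ∧
      CohIII.fiberRank (PicF.XTproj f T) (Coh.structureModule _) 1 t = γ := by
  haveI hg := geometricallyConnected_curve hX
  have hp := fun T => isProper_family hX T
  obtain ⟨_, _, _, hdim⟩ := hX
  letI : X.Over (Spec (CommRingCat.of k)) := ⟨f⟩
  haveI : IsProper (X ↘ Spec (CommRingCat.of k)) := ‹IsProper f›
  let pt := IsLocalRing.closedPoint k
  have hO : PicF.IsInvertible (Coh.structureModule X) := H11Ample.isInvertible_structureModule (X := X)
  have h0 : Module.finrank k (Coh.HH X (Coh.structureModule X) 0) = 1 := by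
    haveI := H29RR.isNoetherian_of_proper (k := k) (X := X)
    let Ω := AlgebraicClosure k
    let b := Spec.map (CommRingCat.ofHom (algebraMap k Ω))
    let Z := pullback f b
    letI : Z.Over (Spec (CommRingCat.of Ω)) := ⟨pullback.snd f b⟩
    have hsq : IsPullback (pullback.fst f b) (Z ↘ Spec (CommRingCat.of Ω)) f b := IsPullback.of_hasPullback f b
    haveI : IsProper (Z ↘ Spec (CommRingCat.of Ω)) := MorphismProperty.of_isPullback hsq inferInstance
    haveI : Smooth (Z ↘ Spec (CommRingCat.of Ω)) := MorphismProperty.of_isPullback hsq inferInstance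
    haveI : GeometricallyConnected (Z ↘ Spec (CommRingCat.of Ω)) := MorphismProperty.of_isPullback hsq inferInstance
    haveI := H29RR.isIntegral_of_geomConnected Ω Z
    rw [← H28Int.FieldExt.finrank_HH_bc Ω hsq (H10Coh.isCoh_structureModule' X) 0,
      (H29RR.hhIso (k := Ω) (H16Derived.KFlat.Stalk.structurePullbackIso (pullback.fst f b)) 0).finrank_eq]
    exact H29RR.finrank_h0_structure Ω Z
  refine ⟨Module.finrank k (Coh.HH X (Coh.structureModule X) 1), fun T t => ?_⟩
  have key : ∀ p, CohIII.fiberRank (PicF.XTproj f T) (Coh.structureModule _) p t =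
      Module.finrank k (Coh.HH X (Coh.structureModule X) p) := by
    intro p
    haveI := hp T
    have h1 := fiberRank_pullback f hO (π' := PicF.XTproj f T) (IsPullback.of_hasPullback f T.hom) p t
    have h2 := finrank_HH_point f hO (K := k) (Y' := X) (𝟙 _) (g' := 𝟙 X)
      (show IsPullback (𝟙 X) f f (𝟙 _) from IsPullback.of_horiz_isIso ⟨by simp⟩) p
    rw [Subsingleton.elim (α := PrimeSpectrum k) ((𝟙 (Spec (CommRingCat.of k)) : _ ⟶ _) pt) (T.hom t)] at h2
    rw [(H29RR.hhIso (k := k) ((Scheme.Modules.pullbackId X).app _) p).finrank_eq] at h2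
    refine Eq.trans ?_ h2.symm
    rw [← h1]
    exact (H29RR.hhIso (k := T.left.residueField t) ((Scheme.Modules.pullback _).mapIso
      (H16Derived.KFlat.Stalk.structurePullbackIso (pullback.fst f T.hom)).symm) p).finrank_eq
  exact ⟨(key 0).trans h0, key 1⟩

include hX in
/-- Functions on a family are functions on the base. -/
theorem isIso_app_family (U : T.left.Opens) : IsIso ((PicF.XTproj f T).app U) := by
  obtain ⟨γ, hγ⟩ := exists_genus hX
  haveI := isProper_family hX T
  haveI := smooth_family hX T
  haveI : Smooth (PicF.XTproj f T) := SmoothOfRelativeDimension.smooth 1 _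
  refine LeadBC.GenBC.isIso_app_of_fibres (PicF.XTproj f T) (fun s => LeadBC.GenBC.isIso_appTop_of_hRank _ ?_) U
  refine Eq.trans ?_ (hγ T s).1
  exact ((H29RR.hhIso (k := T.left.residueField s)
    (H16Derived.KFlat.Stalk.structurePullbackIso ((PicF.XTproj f T).fiberι s)) 0).finrank_eq).symm

end Groth.Agent.H12Pic.PicCurve
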