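import Groth.Agent.H12Pic.PicCurve.PicGroup
import Groth.Agent.H12Pic.PicCurve.BaseChangePic
import Groth.Agent.H12Pic.CurveFam.AlgEquivGroup
import Groth.Agent.H12Pic.FibreConst
import Groth.Agent.H19Grp.Components
import Groth.Agent.H19Grp.GrpToGrpd
import Groth.Agent.H21Taylor.GeomInt
import Groth.Agent.LeadBC.GenBC.AppIso

/-!
# The Picard scheme of a geometric fibre: components and differences of points
-/

set_option autoImplicit false
set_option linter.style.haveILetI false
set_option linter.unusedSectionVars false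
set_option backward.isDefEq.respectTransparency.types false

noncomputable section

universe u

open CategoryTheory CategoryTheory.Limits AlgebraicGeometry TopologicalSpace MonoidalCategory CartesianMonoidalCategory MonObj

namespace Groth.Agent.H12Pic.PicCurve.FibrePic

open Groth.Agent.H17.PullCl Groth.Agent.H12Pic.PicCurve.BaseChangePic
open Groth.Agent.H25Theta (Cls cls pull pb nonempty_iso_of_subsingleton isUnit_cls)

variable {X S : Scheme.{u}} (f : X ⟶ S) {Ω : Type u} [Field Ω] (x : Spec (CommRingCat.of Ω) ⟶ S)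

/-- The point of the fibre as an object over the base field. -/
abbrev T₁ (Ω : Type u) [Field Ω] : Over (Spec (CommRingCat.of Ω)) := Over.mk (𝟙 _)

/-- The fibre as the trivial base change of itself. -/
abbrev p₁ : PicF.XT (pullback.snd f x) (T₁ Ω) ⟶ pullback f x := pullback.fst _ _

/-- The inverse of `p₁`. -/
abbrev q₁ : pullback f x ⟶ PicF.XT (pullback.snd f x) (T₁ Ω) :=
  pullback.lift (𝟙 _) (pullback.snd f x) (by simp)

theorem q₁_p₁ : q₁ f x ≫ p₁ f x = 𝟙 _ := pullback.lift_fst _ _ _

theorem p₁_q₁ : p₁ f x ≫ q₁ f x = 𝟙 _ := by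
  apply pullback.hom_ext
  · rw [Category.assoc, pullback.lift_fst, Category.comp_id, Category.id_comp]
  · rw [Category.assoc, pullback.lift_snd, Category.id_comp, pullback.condition]
    exact Category.comp_id _

variable (P : Over S) (φ : ∀ T : Over S, PicF.Cl (PicF.XT f T) → (T ⟶ P))

/-- The point of the fibre of `P` given by a class. -/
def clsPt (c : PicF.Cl (pullback f x)) : T₁ Ω ⟶ bcP x P :=
  bcφ f x P φ (T₁ Ω) (PicF.pullCl (p₁ f x) c)

variable (hP : AbDual.IsRelPicK Scheme.fppfPrecoverage f P φ)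

include hP in
theorem clsPt_fst {c : PicF.Cl (pullback f x)} (hc : PicF.IsInvertibleCl c) :
    (clsPt f x P φ c).left ≫ pullback.fst P.hom x = (φ (Over.mk x) c).left := by
  rw [clsPt, bcφ_fst]
  let i : Over.mk x ⟶ down x (T₁ Ω) := Over.homMk (𝟙 _) (by simp)
  have hi : PicF.XTmap f i ≫ (pullbackLeftPullbackSndIso f x (T₁ Ω).hom).inv ≫ p₁ f x = 𝟙 _ := by
    apply pullback.hom_ext
    · simp only [Category.assoc, Category.id_comp]
      rw [pullbackLeftPullbackSndIso_inv_fst]
      exact XTmap_fst f i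
    · simp only [Category.assoc, Category.id_comp]
      rw [pullbackLeftPullbackSndIso_inv_fst_snd]
      erw [XTmap_snd_assoc]
      simp [i]
  have hcl : PicF.pullCl (PicF.XTmap f i) (toS f x (T₁ Ω) (PicF.pullCl (p₁ f x) c)) = c := by
    rw [toS, ← pullCl_comp, ← pullCl_comp, Category.assoc]
    exact (pullCl_congr hi c).trans (pullCl_id c)
  have h := congrArg CommaMorphism.left ((congrArg (φ (Over.mk x)) hcl).symm.trans
    (hP.natural _ _ i (toS f x (T₁ Ω) (PicF.pullCl (p₁ f x) c))
      (isInvertibleCl_toS f x _ (isInvertibleCl_pullCl _ hc))))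
  exact ((Category.id_comp _).symm.trans h.symm)

variable [IsProper f] [Smooth f] [GeometricallyConnected f] [IsAlgClosed Ω]

/-- The structure of the geometric fibre. -/
theorem exists_section : ∃ σ : Spec (CommRingCat.of Ω) ⟶ pullback f x, σ ≫ pullback.snd f x = 𝟙 _ := by
  haveI : ConnectedSpace ↥(pullback f x) :=
    GeometricallyConnected.geometrically_connectedSpace (f := f) _ _ _ (IsPullback.of_hasPullback f x)
  haveI : Smooth (pullback.snd f x) := MorphismProperty.pullback_snd _ _ ‹Smooth f›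
  haveI : JacobsonSpace ↥(pullback f x) := LocallyOfFiniteType.jacobsonSpace (pullback.snd f x)
  obtain ⟨z, -, hz⟩ := nonempty_inter_closedPoints (Z := (Set.univ : Set ↥(pullback f x))) Set.univ_nonempty
    isOpen_univ.isLocallyClosed
  rw [mem_closedPoints_iff] at hz
  exact ⟨pointOfClosedPoint (pullback.snd f x) z hz, pointOfClosedPoint_comp _ _ _⟩

theorem isIso_app (T : Over (Spec (CommRingCat.of Ω))) (U : T.left.Opens) :
    IsIso ((PicF.XTproj (pullback.snd f x) T).app U) := by
  haveI : Smooth (pullback.snd f x) := MorphismProperty.pullback_snd _ _ ‹Smooth f›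
  haveI : IsProper (pullback.snd f x) := MorphismProperty.pullback_snd _ _ ‹IsProper f›
  haveI : GeometricallyConnected (pullback.snd f x) :=
    MorphismProperty.pullback_snd _ _ ‹GeometricallyConnected f›
  haveI : GeometricallyIntegral (pullback.snd f x) :=
    H21Taylor.geometricallyIntegral_of_smooth (pullback.snd f x) fun s =>
      GeometricallyConnected.geometrically_connectedSpace (f := pullback.snd f x) _ _ _
        (IsPullback.of_hasPullback _ (Red.geomPt s))
  exact LeadBC.GenBC.isIso_app_of_fibres (pullback.snd (pullback.snd f x) T.hom)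
    (LeadBC.GenBC.isIso_appTop_fibre_baseChange (pullback.snd f x) (IsPullback.of_hasPullback _ T.hom)
      (H12Pic.isIso_appTop_fiber_of_geomIntegral (pullback.snd f x))) U

/-- A chosen section of the geometric fibre. -/
abbrev sec : Spec (CommRingCat.of Ω) ⟶ pullback f x := (exists_section f x).choose

theorem sec_snd : sec f x ≫ pullback.snd f x = 𝟙 _ := (exists_section f x).choose_spec

/-- The rigidified units over the point of the fibre. -/
abbrev U₁ : Type (u + 1) := PicGroup.rigSub (pullback.snd f x) (sec_snd f x) (T₁ Ω)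

include hP in
/-- Points of the fibre of `P` over the base field. -/
theorem point_bijective₁ :
    Function.Bijective fun v : U₁ f x => bcφ f x P φ (T₁ Ω) v.1.1 :=
  PicGroup.point_bijective _ _ (bcP x P) (isRelPicK_bc f x hP) (isIso_app f x) _

/-- Every invertible class on the point of the fibre is rigidified. -/
theorem exists_unit {c : PicF.Cl (pullback f x)} (hc : PicF.IsInvertibleCl c) :
    ∃ v : U₁ f x, (v.1.1 : PicF.Cl _) = PicF.pullCl (p₁ f x) c := by
  obtain ⟨L, rfl, hL⟩ := hc
  have hL' : PicF.IsInvertible (pb (p₁ f x) L) := H11Ample.isInvertible_pullback _ hL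
  haveI : Subsingleton ↥(T₁ Ω).left := inferInstanceAs (Subsingleton ↥(Spec (CommRingCat.of Ω)))
  haveI : Nonempty ↥(T₁ Ω).left := inferInstanceAs (Nonempty ↥(Spec (CommRingCat.of Ω)))
  exact ⟨⟨(isUnit_cls hL').unit, ⟨_, rfl, hL'⟩,
    Quot.sound (nonempty_iso_of_subsingleton (H11Ample.isInvertible_pullback _ hL'))⟩, rfl⟩

include hP in
/-- Over an algebraically closed field the point determines the class. -/
theorem phi_injective {c c' : PicF.Cl (pullback f x)} (hc : PicF.IsInvertibleCl c) (hc' : PicF.IsInvertibleCl c')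
    (h : φ (Over.mk x) c = φ (Over.mk x) c') : c = c' := by
  obtain ⟨v, hv⟩ := exists_unit f x hc
  obtain ⟨w, hw⟩ := exists_unit f x hc'
  have e : v = w := (point_bijective₁ f x P φ hP).1 (hom_ext_bcP x P (by
    simp only [hv, hw]
    show (clsPt f x P φ c).left ≫ _ = (clsPt f x P φ c').left ≫ _
    rw [clsPt_fst f x P φ hP hc, clsPt_fst f x P φ hP hc', h]))
  have h2 := congrArg (fun z : U₁ f x => PicF.pullCl (q₁ f x) z.1.1) e
  simp only [hv, hw, ← pullCl_comp, q₁_p₁] at h2
  rwa [pullCl_id, pullCl_id] at h2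

include hP in
/-- Over an algebraically closed field every point is a class. -/
theorem phi_surjective (a : Over.mk x ⟶ P) :
    ∃ c : PicF.Cl (pullback f x), PicF.IsInvertibleCl c ∧ φ (Over.mk x) c = a := by
  let a' : T₁ Ω ⟶ bcP x P := Over.homMk (pullback.lift a.left (𝟙 _) (by simp)) (pullback.lift_snd _ _ _)
  obtain ⟨v, hv⟩ := (point_bijective₁ f x P φ hP).2 a'
  have hc : PicF.IsInvertibleCl (PicF.pullCl (q₁ f x) v.1.1) := isInvertibleCl_pullCl _ v.2.1
  refine ⟨_, hc, Over.OverMorphism.ext ?_⟩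
  rw [← clsPt_fst f x P φ hP hc, clsPt, ← pullCl_comp, p₁_q₁]
  erw [pullCl_id]
  rw [show bcφ f x P φ (T₁ Ω) v.1.1 = a' from hv]
  exact pullback.lift_fst _ _ _

/-- The structure map of a scheme over the field as a morphism to the point. -/
abbrev toT₁ (G : Over (Spec (CommRingCat.of Ω))) : G ⟶ T₁ Ω := Over.homMk G.hom (Category.comp_id _)

/-- The underlying point of a point of the fibre of `P`. -/
abbrev ptOf (a : T₁ Ω ⟶ bcP x P) : (bcP x P).left := a.left (IsLocalRing.closedPoint Ω)

include hP in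
theorem ptOf_clsPt {c : PicF.Cl (pullback f x)} (hc : PicF.IsInvertibleCl c) :
    pullback.fst P.hom x (ptOf x P (clsPt f x P φ c)) = (φ (Over.mk x) c).left (IsLocalRing.closedPoint Ω) := by
  rw [← clsPt_fst f x P φ hP hc]
  rfl

include hP in
/-- The point of a module algebraically equivalent to zero lies in every connected set in the component
of the zero point. -/
theorem mem_component {L : (pullback f x).Modules}
    (h : @Pic13.IsAlgEquivZero Ω _ (pullback f x) ⟨pullback.snd f x⟩ L) :
    ptOf x P (clsPt f x P φ (PicF.cl L)) ∈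
      connectedComponent (ptOf x P (clsPt f x P φ (PicF.cl (Coh.structureModule (pullback f x))))) := by
  letI : (pullback f x).Over (Spec (CommRingCat.of Ω)) := ⟨pullback.snd f x⟩
  obtain ⟨T, q, hT, -, -, M, hM, t, t₀, ht, ht₀, ⟨e⟩, ⟨e₀⟩⟩ := h
  let g : Over.mk q ⟶ bcP x P := bcφ f x P φ (Over.mk q) (PicF.cl M)
  have key : ∀ (s : Spec (CommRingCat.of Ω) ⟶ T) (hs : s ≫ q = 𝟙 _) (L' : (pullback f x).Modules),
      (Pic13.fibreMod Ω (pullback f x) q s hs M ≅ L') → ptOf x P (clsPt f x P φ (PicF.cl L')) ∈ Set.range g.left := by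
    intro s hs L' e'
    let s' : T₁ Ω ⟶ Over.mk q := Over.homMk s hs
    have hm : p₁ f x ≫ Pic13.sliceAt Ω (pullback f x) q s hs = PicF.XTmap (pullback.snd f x) s' := by
      refine pullback.hom_ext ?_ ?_
      · exact (Category.assoc _ _ _).trans ((congrArg (p₁ f x ≫ ·) (pullback.lift_fst _ _ _)).trans
          ((Category.comp_id _).trans (XTmap_fst (pullback.snd f x) s').symm))
      · exact (Category.assoc _ _ _).trans ((congrArg (p₁ f x ≫ ·) (pullback.lift_snd _ _ _)).trans
          ((Category.assoc _ _ _).symm.trans ((congrArg (· ≫ s) (pullback.condition.trans (Category.comp_id _))).trans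
            (XTmap_snd (pullback.snd f x) s').symm)))
    have hn := (isRelPicK_bc f x hP).natural _ _ s' (PicF.cl M) ⟨M, rfl, hM⟩
    have e1 : PicF.pullCl (PicF.XTmap (pullback.snd f x) s') (PicF.cl M) = PicF.pullCl (p₁ f x) (PicF.cl L') :=
      (pullCl_congr hm.symm _).trans ((pullCl_comp _ _ _).trans (congrArg (PicF.pullCl (p₁ f x)) (Quot.sound ⟨e'⟩)))
    have hn' : clsPt f x P φ (PicF.cl L') = s' ≫ g := (congrArg (bcφ f x P φ (T₁ Ω)) e1).symm.trans hn
    exact ⟨s (IsLocalRing.closedPoint Ω), (congrArg (fun a : T₁ Ω ⟶ bcP x P => ptOf x P a) hn').symm⟩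
  haveI : ConnectedSpace ↥(Over.mk q).left := hT
  exact (isPreconnected_range g.left.continuous).subset_connectedComponent (key t₀ ht₀ _ e₀) (key t ht _ e)

include hP in
/-- Inside the component of zero, every point is a difference of two points of a given neighbourhood of zero. -/
theorem exists_difference [LocallyOfFiniteType P.hom] (O : P.left.Opens)
    (h0 : (φ (Over.mk x) (PicF.cl (Coh.structureModule (pullback f x)))).left (IsLocalRing.closedPoint Ω) ∈ O)
    {L : (pullback f x).Modules} (hL : PicF.IsInvertible L)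
    (h : @Pic13.IsAlgEquivZero Ω _ (pullback f x) ⟨pullback.snd f x⟩ L) :
    ∃ M M' : (pullback f x).Modules, PicF.IsInvertible M ∧ PicF.IsInvertible M' ∧
      (φ (Over.mk x) (PicF.cl M)).left (IsLocalRing.closedPoint Ω) ∈ O ∧
      (φ (Over.mk x) (PicF.cl M')).left (IsLocalRing.closedPoint Ω) ∈ O ∧
      Nonempty (CohB1.tensorMod M L ≅ M') := by
  let G := bcP x P
  letI : GrpObj G := PicGroup.grpObj (pullback.snd f x) (sec_snd f x) G (isRelPicK_bc f x hP) (isIso_app f x)
  haveI : LocallyOfFiniteType G.hom := MorphismProperty.pullback_snd _ _ ‹LocallyOfFiniteType P.hom›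
  haveI : JacobsonSpace G.left := LocallyOfFiniteType.jacobsonSpace G.hom
  let E := PicGroup.pointEquiv (pullback.snd f x) (sec_snd f x) G (isRelPicK_bc f x hP) (isIso_app f x) (T₁ Ω)
  have hE : ∀ v : U₁ f x, E v = bcφ f x P φ (T₁ Ω) v.1.1 := fun _ => rfl
  have hEmul : ∀ v w, E (v * w) = E v * E w :=
    PicGroup.pointEquiv_mul (pullback.snd f x) (sec_snd f x) G (isRelPicK_bc f x hP) (isIso_app f x) (T₁ Ω)
  -- the zero
  let one₀ : PicF.Cl (pullback f x) := PicF.cl (Coh.structureModule (pullback f x))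
  have hone : PicF.IsInvertibleCl one₀ := ⟨_, rfl, H11Ample.isInvertible_structureModule⟩
  have hpt1 : clsPt f x P φ one₀ = 1 := by
    have e : E 1 = 1 := by
      have := hEmul 1 1
      rw [_root_.mul_one] at this
      exact left_eq_mul.mp this
    rw [← e, hE]
    exact congrArg (bcφ f x P φ (T₁ Ω)) ((pull (p₁ f x)).map_one)
  obtain ⟨b, hb⟩ := exists_unit f x (c := PicF.cl L) ⟨L, rfl, hL⟩
  let β : T₁ Ω ⟶ G := E b
  have hβ : β = clsPt f x P φ (PicF.cl L) := (hE b).trans (congrArg (bcφ f x P φ (T₁ Ω)) hb)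
  let C := connectedComponent (ptOf x P (1 : T₁ Ω ⟶ G))
  have hbC : ptOf x P β ∈ C := by
    have := mem_component f x P φ hP h
    rwa [← hβ, hpt1] at this
  have hη : (1 : T₁ Ω ⟶ G).left = η[G].left := by
    rw [Hom.one_def, Over.comp_left, Over.toUnit_left]
    exact Category.id_comp _
  have hirr : IsIrreducible C := by
    haveI : LocallyOfFiniteType (H19Grp.grpToGrpd G).s := inferInstanceAs (LocallyOfFiniteType G.hom)
    haveI : LocallyOfFiniteType (H19Grp.grpToGrpd G).t := inferInstanceAs (LocallyOfFiniteType G.hom)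
    have h1 := (H19Grp.component_unit (H19Grp.grpToGrpd G) (Iso.refl _)).1
    have he : H19Grp.ePt (H19Grp.grpToGrpd G) (Iso.refl _) = ptOf x P (1 : T₁ Ω ⟶ G) := by
      rw [ptOf, hη]; rfl
    rwa [he] at h1
  -- translations
  let τ : (T₁ Ω ⟶ G) → (G ⟶ G) := fun a => 𝟙 G * (toT₁ G ≫ a)
  have hτ : ∀ a a' : T₁ Ω ⟶ G, (τ a).left (ptOf x P a') = ptOf x P (a' * a) := by
    intro a a'
    have hu : a' ≫ toT₁ G = 𝟙 _ := Over.OverMorphism.ext (Over.w a')
    have e : a' ≫ τ a = a' * a := by
      rw [MonObj.comp_mul, Category.comp_id, ← Category.assoc, hu, Category.id_comp]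
    rw [← e]
    rfl
  have hτC : ∀ a a' : T₁ Ω ⟶ G, ptOf x P a' ∈ C → (τ a).left (ptOf x P a') ∈ C →
      ∀ p ∈ C, (τ a).left p ∈ C := fun a a' h₁ h₂ p hp =>
    (connectedComponent_eq h₂).ge
      ((isPreconnected_connectedComponent.image _ (τ a).left.continuous.continuousOn).subset_connectedComponent
        ⟨_, h₁, rfl⟩ ⟨p, hp, rfl⟩)
  have hinvC : ptOf x P β⁻¹ ∈ C := by
    have h2 := hτC β⁻¹ β hbC (by rw [hτ, mul_inv_cancel]; exact mem_connectedComponent) _ mem_connectedComponent
    rwa [hτ, _root_.one_mul] at h2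
  let O' : Set G.left := pullback.fst P.hom x ⁻¹' (O : Set P.left)
  have hO' : IsOpen O' := O.isOpen.preimage (pullback.fst P.hom x).continuous
  have h1O : ptOf x P (1 : T₁ Ω ⟶ G) ∈ O' := by
    show pullback.fst P.hom x _ ∈ O
    rw [← hpt1, ptOf_clsPt f x P φ hP hone]
    exact h0
  have hne : (C ∩ (O' ∩ (τ β).left ⁻¹' O')).Nonempty :=
    hirr.isPreirreducible _ _ hO' (hO'.preimage (τ β).left.continuous) ⟨_, mem_connectedComponent, h1O⟩
      ⟨_, hinvC, by rw [Set.mem_preimage, hτ, inv_mul_cancel]; exact h1O⟩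
  obtain ⟨z, ⟨-, hzO, hzb⟩, hz⟩ := nonempty_inter_closedPoints hne
    ((isClosed_connectedComponent.isLocallyClosed).inter (hO'.inter (hO'.preimage (τ β).left.continuous)).isLocallyClosed)
  rw [mem_closedPoints_iff] at hz
  let gam : T₁ Ω ⟶ G := Over.homMk (pointOfClosedPoint G.hom z hz) (pointOfClosedPoint_comp _ _ _)
  have hgam : ptOf x P gam = z := pointOfClosedPoint_apply _ _ _ _
  obtain ⟨g, hg⟩ := E.surjective gam
  have hcl : ∀ v : U₁ f x, clsPt f x P φ (PicF.pullCl (q₁ f x) v.1.1) = E v := fun v => by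
    rw [hE, clsPt, ← pullCl_comp, p₁_q₁]
    exact congrArg (bcφ f x P φ (T₁ Ω)) (pullCl_id _)
  obtain ⟨M, hM, hMi⟩ : PicF.IsInvertibleCl (PicF.pullCl (q₁ f x) g.1.1) := isInvertibleCl_pullCl _ g.2.1
  obtain ⟨M', hM', hMi'⟩ : PicF.IsInvertibleCl (PicF.pullCl (q₁ f x) (g * b).1.1) :=
    isInvertibleCl_pullCl _ (g * b).2.1
  refine ⟨M, M', hMi, hMi', ?_, ?_, Groth.Agent.H25Theta.cls_eq.1 ?_⟩
  · rw [hM, ← ptOf_clsPt f x P φ hP (isInvertibleCl_pullCl _ g.2.1), hcl, hg, hgam]
    exact hzO
  · rw [hM', ← ptOf_clsPt f x P φ hP (isInvertibleCl_pullCl _ (g * b).2.1), hcl, hEmul, hg, ← hτ, hgam]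
    exact hzb
  · rw [Groth.Agent.H25Theta.cls_tensor, show cls M' = pull (q₁ f x) ((g.1 * b.1 : (Cls _)ˣ).1) from hM',
      Units.val_mul, map_mul, show cls M = pull (q₁ f x) g.1.1 from hM,
      show (b.1.1 : Cls _) = pull (p₁ f x) (cls L) from hb, Groth.Agent.H25Theta.pull_pull, q₁_p₁,
      Groth.Agent.H25Theta.pull_id]

end Groth.Agent.H12Pic.PicCurve.FibrePic
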