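import Groth.Agent.H12Pic.RigPoints
import Groth.Agent.H8Props.WeilRes.Cover

/-!
# The rigidified Picard functor as a Zariski sheaf, and gluing of representing schemes
-/

set_option autoImplicit false
set_option linter.style.haveILetI false
set_option linter.unusedSectionVars false

noncomputable section

universe u

open CategoryTheory CategoryTheory.Limits AlgebraicGeometry TopologicalSpace Opposite

namespace Groth.Agent.H12Pic.PicCurve

open Groth.Agent.H17.PullCl Groth.Agent.H12Pic.RigPoints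

variable {X S : Scheme.{u}} (f : X ⟶ S) {σ : S ⟶ X} (hσ : σ ≫ f = 𝟙 S)

/-- The inclusion of a piece in a disjoint union over the base. -/
abbrev sigmaIncl (T : Over S) {κ : Type u} {U : κ → Scheme.{u}} (v : ∀ k, U k ⟶ T.left) (k : κ) :
    AbDual.ovr T (v k) ⟶ AbDual.ovr T (Sigma.desc v) :=
  Over.homMk (Sigma.ι U k) (Sigma.ι_desc_assoc v k T.hom)

/-- Rigidified classes on the pieces of a disjoint union form one on the union. -/
theorem exists_rig_disjointUnion (T : Over S) {κ : Type u} {U : κ → Scheme.{u}} (v : ∀ k, U k ⟶ T.left)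
    (c : ∀ k, PicF.Rig f σ hσ (AbDual.ovr T (v k))) :
    ∃ c' : PicF.Rig f σ hσ (AbDual.ovr T (Sigma.desc v)),
      ∀ k, PicF.pullCl (PicF.XTmap f (sigmaIncl T v k)) c'.1 = (c k).1 := by
  let A := AbDual.ovr T (Sigma.desc v)
  let j : ∀ k, AbDual.ovr T (v k) ⟶ A := fun k => Over.homMk (Sigma.ι U k) (Sigma.ι_desc_assoc v k T.hom)
  let π : PicF.XT f A ⟶ ∐ U := pullback.snd f A.hom
  let O : κ → (PicF.XT f A).Opens := fun k => π ⁻¹ᵁ (Sigma.ι U k).opensRange
  let l : ∀ k, (O k).toScheme ⟶ U k := fun k => IsOpenImmersion.lift (Sigma.ι U k) ((O k).ι ≫ π) (by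
    rintro _ ⟨x, rfl⟩
    exact x.2)
  let b : ∀ k, (O k).toScheme ⟶ PicF.XT f (AbDual.ovr T (v k)) := fun k =>
    pullback.lift ((O k).ι ≫ pullback.fst f A.hom) (l k) (by
      refine (Category.assoc _ _ _).trans ((congrArg ((O k).ι ≫ ·) pullback.condition).trans ?_)
      refine ((Category.assoc _ _ _).symm.trans (congrArg (· ≫ A.hom) ?_)).trans
        ((Category.assoc _ _ _).trans (congrArg (l k ≫ ·) (Over.w (j k))))
      exact (IsOpenImmersion.lift_fac _ _ _).symm)
  let m : ∀ k, PicF.XT f (AbDual.ovr T (v k)) ⟶ (O k).toScheme := fun k =>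
    IsOpenImmersion.lift (O k).ι (PicF.XTmap f (j k)) (by
      rintro _ ⟨x, rfl⟩
      rw [Scheme.Opens.range_ι]
      change (PicF.XTmap f (j k) ≫ π) x ∈ (Sigma.ι U k).opensRange
      rw [XTmap_snd]
      exact ⟨_, rfl⟩)
  have hmb : ∀ k, m k ≫ b k = 𝟙 _ := fun k => by
    apply pullback.hom_ext
    · rw [Category.assoc, pullback.lift_fst, ← Category.assoc, IsOpenImmersion.lift_fac, XTmap_fst, Category.id_comp]
    · rw [Category.assoc, pullback.lift_snd, Category.id_comp, ← cancel_mono (Sigma.ι U k), Category.assoc,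
        IsOpenImmersion.lift_fac, ← Category.assoc, IsOpenImmersion.lift_fac, XTmap_snd]
      rfl
  choose L hLc hL using fun k => (c k).2.1
  obtain ⟨M, hM, θ⟩ := InvDesc.Eff.exists_line_of_disjoint O
    (fun x => (sigmaOpenCover U).exists_eq (π x))
    (fun k k' hkk' => by
      change π ⁻¹ᵁ _ ⊓ π ⁻¹ᵁ _ = ⊥
      rw [← Scheme.Hom.preimage_inf, (disjoint_opensRange_sigmaι U k k' hkk').eq_bot]
      rfl)
    (fun k => (Scheme.Modules.pullback (b k)).obj (L k)) (fun k => H11Ample.isInvertible_pullback _ (hL k))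
  have hres : ∀ k, PicF.pullCl (PicF.XTmap f (j k)) (PicF.cl M) = (c k).1 := fun k => by
    have h1 : PicF.pullCl (O k).ι (PicF.cl M) = PicF.pullCl (b k) (PicF.cl (L k)) := Quot.sound (θ k)
    rw [show PicF.XTmap f (j k) = m k ≫ (O k).ι from (IsOpenImmersion.lift_fac _ _ _).symm, pullCl_comp, h1,
      ← pullCl_comp, hmb, pullCl_id, hLc]
  have htriv : Nonempty ((Scheme.Modules.pullback (PicF.secT f σ hσ A)).obj M ≅ Coh.structureModule (∐ U)) := by
    have hg : ∀ k, ∃ e : Γ((Scheme.Modules.pullback (PicF.secT f σ hσ A)).obj M,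
        (Sigma.ι U k).opensRange.ι ''ᵁ ⊤), H11Tilde.IsGen _ e := fun k => by
      have h2 : PicF.pullCl (Sigma.ι U k) (PicF.pullCl (PicF.secT f σ hσ A) (PicF.cl M)) =
          PicF.cl (Coh.structureModule (U k)) := by
        rw [← pullCl_comp, ← show PicF.secT f σ hσ _ ≫ PicF.XTmap f (j k) = Sigma.ι U k ≫ PicF.secT f σ hσ A from
          secT_XTmap f hσ (j k), pullCl_comp, hres k]
        exact (c k).2.2
      have h3 := congrArg (PicF.pullCl (Sigma.ι U k).isoOpensRange.inv) h2
      rw [← pullCl_comp, show (Sigma.ι U k).isoOpensRange.inv ≫ Sigma.ι U k = (Sigma.ι U k).opensRange.ι from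
        (Sigma.ι U k).isoOpensRange_inv_comp] at h3
      exact InvDesc.exists_gen_of_restrict_iso ((Scheme.Modules.restrictFunctorIsoPullback _).app _ ≪≫
        (Sep.iso_of_cl_eq h3).some ≪≫ PicLoc.pullbackStructureIso _)
    choose e he using hg
    refine InvDesc.nonempty_iso_of_disjoint_gens (fun k => (Sigma.ι U k).opensRange.ι ''ᵁ ⊤) (fun x => ?_)
      (fun k k' hkk' => ?_) e he
    · obtain ⟨k, hk⟩ := (sigmaOpenCover U).exists_eq x
      exact ⟨k, ⟨x, hk⟩, trivial, rfl⟩
    · rw [Scheme.Opens.ι_image_top, Scheme.Opens.ι_image_top]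
      exact (disjoint_opensRange_sigmaι U k k' hkk').eq_bot
  exact ⟨⟨PicF.cl M, ⟨M, rfl, hM⟩, Quot.sound htriv⟩, hres⟩

theorem rigPull_comp {T T' T'' : Over S} (a : T'' ⟶ T') (b : T' ⟶ T) (c : PicF.Rig f σ hσ T) :
    rigPull f hσ a (rigPull f hσ b c) = rigPull f hσ (a ≫ b) c := by
  refine Subtype.ext ?_
  show PicF.pullCl _ (PicF.pullCl _ c.1) = PicF.pullCl _ c.1
  rw [← pullCl_comp]
  refine pullCl_congr (pullback.hom_ext ?_ ?_) _
  · rw [Category.assoc, XTmap_fst, XTmap_fst, XTmap_fst]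
  · rw [Category.assoc, XTmap_snd, XTmap_snd_assoc, XTmap_snd, Over.comp_left]

theorem rigPull_id {T : Over S} (c : PicF.Rig f σ hσ T) : rigPull f hσ (𝟙 T) c = c := by
  refine Subtype.ext ?_
  show PicF.pullCl _ c.1 = c.1
  refine (pullCl_congr (pullback.hom_ext ?_ ?_) _).trans (pullCl_id c.1)
  · rw [XTmap_fst, Category.id_comp]
  · rw [XTmap_snd, Category.id_comp]
    exact Category.comp_id _

variable (ha : ∀ (T : Over S) (U : T.left.Opens), IsIso ((PicF.XTproj f T).app U))

include ha in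
/-- Rigidified classes agreeing on an open cover are equal. -/
theorem rig_ext_of_cover (T : Over S) {κ : Type u} (C : κ → Over S) (π : ∀ i, C i ⟶ T)
    (ho : ∀ i, IsOpenImmersion (π i).left) (hc : ∀ x : T.left, ∃ i, x ∈ Set.range (π i).left)
    (c d : PicF.Rig f σ hσ T) (h : ∀ i, rigPull f hσ (π i) c = rigPull f hσ (π i) d) : c = d := by
  let v := fun k => (π k).left
  haveI : ∀ k, IsOpenImmersion (v k) := ho
  haveI : Flat (Sigma.desc v) := IsZariskiLocalAtSource.sigmaDesc fun _ => inferInstance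
  haveI : LocallyOfFinitePresentation (Sigma.desc v) := IsZariskiLocalAtSource.sigmaDesc fun _ => inferInstance
  haveI : Surjective (Sigma.desc v) := ⟨fun x => by
    obtain ⟨k, z, hz⟩ := hc x
    exact ⟨Sigma.ι (fun i => (C i).left) k z, by rw [← Scheme.Hom.comp_apply, Sigma.ι_desc]; exact hz⟩⟩
  refine RigDescent.eq_of_cover f hσ ha T (Sigma.desc v) c d (pullCl_eq_sigma f T v c.2.1 d.2.1 fun k => ?_)
  let a : AbDual.ovr T (v k) ⟶ C k := Over.homMk (𝟙 _) ((Category.id_comp _).trans (Over.w (π k)).symm)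
  have e : AbDual.ovrHom T (v k) = a ≫ π k := Over.OverMorphism.ext (Category.id_comp _).symm
  have h1 := congrArg Subtype.val (congrArg (rigPull f hσ a) (h k))
  rw [rigPull_comp, rigPull_comp, ← e] at h1
  exact h1

include ha in
/-- Compatible rigidified classes on an open cover glue uniquely. -/
theorem existsUnique_rig_glue (T : Over S) (κ : Type u) (C : κ → Over S) (π : ∀ i, C i ⟶ T)
    (ho : ∀ i, IsOpenImmersion (π i).left) (hc : ∀ x : T.left, ∃ i, x ∈ Set.range (π i).left)
    (s : ∀ i, PicF.Rig f σ hσ (C i))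
    (hs : ∀ (i j : κ) (Z : Over S) (a : Z ⟶ C i) (b : Z ⟶ C j), a ≫ π i = b ≫ π j →
      rigPull f hσ a (s i) = rigPull f hσ b (s j)) :
    ∃! t : PicF.Rig f σ hσ T, ∀ i, rigPull f hσ (π i) t = s i := by
  let v := fun k => (π k).left
  haveI : ∀ k, IsOpenImmersion (v k) := ho
  let u := Sigma.desc v
  haveI : Flat u := IsZariskiLocalAtSource.sigmaDesc fun _ => inferInstance
  haveI : LocallyOfFinitePresentation u := IsZariskiLocalAtSource.sigmaDesc fun _ => inferInstance
  haveI : Surjective u := ⟨fun x => by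
    obtain ⟨k, z, hz⟩ := hc x
    exact ⟨Sigma.ι (fun i => (C i).left) k z, by rw [← Scheme.Hom.comp_apply, Sigma.ι_desc]; exact hz⟩⟩
  let a : ∀ k, AbDual.ovr T (v k) ⟶ C k := fun k =>
    Over.homMk (𝟙 _) ((Category.id_comp _).trans (Over.w (π k)).symm)
  let a' : ∀ k, C k ⟶ AbDual.ovr T (v k) := fun k =>
    Over.homMk (𝟙 _) ((Category.id_comp _).trans (Over.w (π k)))
  obtain ⟨c', hc'⟩ := exists_rig_disjointUnion f hσ T v fun k => rigPull f hσ (a k) (s k)
  let A := AbDual.ovr T u
  let Z := AbDual.ovr A (pullback.fst u u)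
  let p₁ : Z ⟶ A := AbDual.ovrHom A (pullback.fst u u)
  let p₂ : Z ⟶ A := Over.homMk (pullback.snd u u) (pullback.condition_assoc T.hom).symm
  have hglue : rigPull f hσ p₁ c' = rigPull f hσ p₂ c' := by
    let C' : κ × κ → Over S := fun ij => Over.mk (pullback.fst (v ij.1) (v ij.2) ≫ v ij.1 ≫ T.hom)
    let w : ∀ ij, C' ij ⟶ Z := fun ij =>
      Over.homMk (pullback.map (v ij.1) (v ij.2) u u (Sigma.ι (fun i => (C i).left) ij.1) (Sigma.ι (fun i => (C i).left) ij.2) (𝟙 _)
        (by simp [u]) (by simp [u])) (by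
          show pullback.map _ _ _ _ _ _ _ _ _ ≫ pullback.fst u u ≫ u ≫ T.hom = _
          rw [pullback.lift_fst_assoc, Category.assoc, Sigma.ι_desc_assoc]
          rfl)
    let b₁ : ∀ ij, C' ij ⟶ AbDual.ovr T (v ij.1) := fun ij => Over.homMk (pullback.fst _ _) rfl
    let b₂ : ∀ ij, C' ij ⟶ AbDual.ovr T (v ij.2) := fun ij => Over.homMk (pullback.snd _ _)
      (pullback.condition_assoc T.hom).symm
    refine rig_ext_of_cover f hσ ha Z C' w (fun ij => ?_) (fun z => ?_) _ _ fun ij => ?_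
    · exact MorphismProperty.pullback_map (P := @IsOpenImmersion) (inferInstance) (inferInstance)
        (Sigma.ι_desc v ij.1).symm (Sigma.ι_desc v ij.2).symm
    · obtain ⟨i, y, hy⟩ := (sigmaOpenCover fun i => (C i).left).exists_eq (pullback.fst u u z)
      obtain ⟨j, y', hy'⟩ := (sigmaOpenCover fun i => (C i).left).exists_eq (pullback.snd u u z)
      exact ⟨(i, j), (Scheme.Pullback.range_map (v i) (v j) u u (Sigma.ι (fun i => (C i).left) i)
        (Sigma.ι (fun i => (C i).left) j) (𝟙 _) (by simp [u]) (by simp [u])).ge ⟨⟨y, hy⟩, ⟨y', hy'⟩⟩⟩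
    · have e₁ : w ij ≫ p₁ = b₁ ij ≫ sigmaIncl T v ij.1 := Over.OverMorphism.ext (pullback.lift_fst _ _ _)
      have e₂ : w ij ≫ p₂ = b₂ ij ≫ sigmaIncl T v ij.2 := Over.OverMorphism.ext (pullback.lift_snd _ _ _)
      have hi : ∀ k, rigPull f hσ (sigmaIncl T v k) c' = rigPull f hσ (a k) (s k) := fun k => Subtype.ext (hc' k)
      rw [rigPull_comp, rigPull_comp, e₁, e₂, ← rigPull_comp, ← rigPull_comp, hi, hi, rigPull_comp, rigPull_comp]
      refine hs _ _ _ _ _ (Over.OverMorphism.ext ?_)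
      show (pullback.fst _ _ ≫ 𝟙 _) ≫ v ij.1 = (pullback.snd _ _ ≫ 𝟙 _) ≫ v ij.2
      rw [Category.comp_id, Category.comp_id, pullback.condition]
  obtain ⟨t, ht⟩ := RigDescent.exists_descended f hσ ha T u c' (congrArg Subtype.val hglue)
  have htk : ∀ k, rigPull f hσ (π k) t = s k := fun k => by
    have h1 : rigPull f hσ (AbDual.ovrHom T u) t = c' := Subtype.ext ht
    have e : π k = a' k ≫ sigmaIncl T v k ≫ AbDual.ovrHom T u := by
      refine Over.OverMorphism.ext ?_
      show (π k).left = 𝟙 _ ≫ Sigma.ι (fun i => (C i).left) k ≫ Sigma.desc v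
      rw [Category.id_comp, Sigma.ι_desc]
    rw [e, ← rigPull_comp, ← rigPull_comp, h1, show rigPull f hσ (sigmaIncl T v k) c' = rigPull f hσ (a k) (s k) from
      Subtype.ext (hc' k), rigPull_comp, show a' k ≫ a k = 𝟙 _ from Over.OverMorphism.ext (Category.id_comp _),
      rigPull_id]
  exact ⟨t, htk, fun t' ht' => rig_ext_of_cover f hσ ha T C π ho hc t' t fun k => (ht' k).trans (htk k).symm⟩

variable {ι : Type u} (W : ι → Over S) (u₀ : ∀ i, PicF.Rig f σ hσ (W i))
  (hopen : ∀ (T : Over S) (c : PicF.Rig f σ hσ T), ∃ O : ι → T.left.Opens,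
    (∀ x : T.left, ∃ i, x ∈ O i) ∧ ∀ i (T' : Over S) (p : T' ⟶ T),
      (∃ h : T' ⟶ W i, rigPull f hσ h (u₀ i) = rigPull f hσ p c) ↔
        Set.range p.left ⊆ (O i : Set T.left))

include ha hopen in
/-- Classes covered by a set of families form a small set. -/
theorem small_rig (T : Over S) : Small.{u} (PicF.Rig f σ hσ T) := by
  choose O hcov hO using hopen T
  have hex : ∀ c i, ∃ h : H8Props.WeilRes.openPart T (O c i) ⟶ W i,
      rigPull f hσ h (u₀ i) = rigPull f hσ (H8Props.WeilRes.partIncl T (O c i)) c := fun c i =>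
    (hO c i _ _).2 (Scheme.Opens.range_ι (O c i)).le
  choose h hh using hex
  refine small_of_injective (β := Σ O' : ι → T.left.Opens, ∀ i, H8Props.WeilRes.openPart T (O' i) ⟶ W i)
    (f := fun c => ⟨O c, h c⟩) fun c d e => ?_
  simp only [Sigma.mk.injEq] at e
  obtain ⟨eO, eh⟩ := e
  have key : ∀ (O' : ι → T.left.Opens) (h' : ∀ i, H8Props.WeilRes.openPart T (O' i) ⟶ W i),
      O' = O d → HEq h' (h d) →
        ∀ i, rigPull f hσ (h' i) (u₀ i) = rigPull f hσ (H8Props.WeilRes.partIncl T (O' i)) d := by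
    rintro O' h' rfl e'
    exact eq_of_heq e' ▸ hh d
  refine rig_ext_of_cover f hσ ha T _ (fun i => H8Props.WeilRes.partIncl T (O c i))
    (fun i => inferInstanceAs (IsOpenImmersion (O c i).ι)) (fun x => ?_) c d fun i => ?_
  · obtain ⟨i, hi⟩ := hcov c x
    exact ⟨i, ⟨x, hi⟩, rfl⟩
  · exact (hh c i).symm.trans (key _ _ eO eh i)

include ha hopen in
/-- A rigidified Picard functor covered by representable open subfunctors is representable. -/
theorem rigRepresentable_of_open_cover
    (hinj : ∀ i (T : Over S), Function.Injective fun h : T ⟶ W i => rigPull f hσ h (u₀ i)) :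
    PicF.RigRepresentable f σ hσ := by
  haveI : ∀ T, Small.{u} (PicF.Rig f σ hσ T) := small_rig f hσ ha W u₀ hopen
  let F : (Over S)ᵒᵖ ⥤ Type u :=
    { obj := fun T => Shrink.{u} (PicF.Rig f σ hσ T.unop)
      map := fun g => ↾ fun c => equivShrink _ (rigPull f hσ g.unop ((equivShrink _).symm c))
      map_id := fun T => by
        refine ConcreteCategory.hom_ext _ _ fun c => ?_
        show equivShrink _ (rigPull f hσ (𝟙 _) _) = c
        rw [rigPull_id, Equiv.apply_symm_apply]
      map_comp := fun g h => by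
        refine ConcreteCategory.hom_ext _ _ fun c => ?_
        show equivShrink _ (rigPull f hσ _ _) =
          equivShrink _ (rigPull f hσ _ ((equivShrink _).symm (equivShrink _ _)))
        rw [Equiv.symm_apply_apply, rigPull_comp]
        rfl }
  have hmap : ∀ {T T' : Over S} (g : T' ⟶ T) (c : PicF.Rig f σ hσ T),
      F.map g.op (equivShrink _ c) = equivShrink _ (rigPull f hσ g c) := fun g c => by
    show equivShrink _ (rigPull f hσ g ((equivShrink _).symm (equivShrink _ c))) = _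
    rw [Equiv.symm_apply_apply]
  have hF : H8Props.WeilRes.IsZariskiGluing F := by
    intro T κ C π ho hc s hs
    obtain ⟨t, ht, hu⟩ := existsUnique_rig_glue f hσ ha T κ C π ho hc (fun i => (equivShrink _).symm (s i))
      (fun i j Z a b e => (equivShrink.{u} (PicF.Rig f σ hσ _)).injective (hs i j Z a b e))
    refine ⟨equivShrink _ t, fun i => by rw [hmap, ht i]; exact Equiv.apply_symm_apply _ _, fun t' ht' => ?_⟩
    rw [← hu ((equivShrink _).symm t') fun i => (equivShrink _).injective (by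
      rw [← hmap, Equiv.apply_symm_apply, ht' i]; exact (Equiv.apply_symm_apply _ _).symm), Equiv.apply_symm_apply]
  have hrep : F.IsRepresentable := by
    refine H8Props.WeilRes.isRepresentable_of_open_cover (F := F) hF W (fun i => equivShrink _ (u₀ i))
      (fun i T h h' e => hinj i T ((equivShrink.{u} (PicF.Rig f σ hσ _)).injective ((hmap h _).symm.trans (e.trans (hmap h' _)))))
      fun T c => ?_
    obtain ⟨c, rfl⟩ := (equivShrink.{u} (PicF.Rig f σ hσ T)).surjective c
    obtain ⟨O, h1, h2⟩ := hopen T c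
    refine ⟨O, h1, fun i T' p => (Iff.trans ?_ (h2 i T' p))⟩
    simp only [hmap, EmbeddingLike.apply_eq_iff_eq]
  obtain ⟨P, ⟨E⟩⟩ := hrep
  let ξ : PicF.Rig f σ hσ P := (equivShrink _).symm (E.homEquiv (𝟙 P))
  refine ⟨P, ξ, fun T c => ?_⟩
  have he : ∀ g : T ⟶ P, E.homEquiv g = equivShrink _ (rigPull f hσ g ξ) := fun g =>
    ((congrArg E.homEquiv (Category.comp_id g).symm).trans (E.homEquiv_comp g (𝟙 P))).trans rfl
  obtain ⟨g, hg⟩ := E.homEquiv.surjective (equivShrink _ c)
  refine ⟨g, congrArg Subtype.val ((equivShrink.{u} (PicF.Rig f σ hσ _)).injective ((he g).symm.trans hg)), fun g' hg' => ?_⟩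
  refine E.homEquiv.injective ?_
  rw [hg, he g']
  exact congrArg _ (Subtype.ext hg')

end Groth.Agent.H12Pic.PicCurve
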