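import Groth.Agent.H12Pic.PicCurve.Divisor
import Groth.Agent.H12Pic.PicCurve.Family
import Groth.Agent.H12Pic.PicCurve.Functor
import Groth.Agent.H12Pic.RigDescent
import Groth.Agent.H27CurveDiv.Curve
import Groth.Agent.H27HilbOps.Basic

/-!
# The open piece of the Picard functor of a curve given by divisors of degree the genus
-/

set_option autoImplicit false
set_option linter.style.haveILetI false
set_option linter.unusedSectionVars false
set_option maxHeartbeats 1600000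
set_option backward.isDefEq.respectTransparency.types false

noncomputable section

universe u

open CategoryTheory CategoryTheory.Limits AlgebraicGeometry TopologicalSpace Opposite

namespace Groth.Agent.H12Pic.PicCurve

open Groth.Agent.H17.PullCl Groth.Agent.H12Pic.RigPoints Groth.Agent.H28Mero
attribute [local instance] fibreOverField
open Groth.Agent.H25Theta (pb pT pC pI tI pO)

theorem exists_trivialising_open {T : Scheme.{u}} {N : T.Modules} (hN : PicF.IsInvertible N) (t : T) :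
    ∃ U : T.Opens, t ∈ U ∧ Nonempty (pb U.ι N ≅ Coh.structureModule U) := by
  obtain ⟨U, ht, ⟨e⟩⟩ := hN t
  exact ⟨U, ht, ⟨((Scheme.Modules.restrictFunctorIsoPullback U.ι).app N).symm ≪≫ e⟩⟩

section

variable {X S : Scheme.{u}} (f : X ⟶ S) {σ : S ⟶ X} (hσ : σ ≫ f = 𝟙 S)
  {H : Over S} {M M' : (PicF.XT f H).Modules}
  (hM' : ∀ {P : Scheme.{u}} (h : P ⟶ PicF.XT f H),
      Nonempty ((Scheme.Modules.pullback (h ≫ PicF.XTproj f H)).obj
        ((Scheme.Modules.pullback (PicF.secT f σ hσ H)).obj M) ≅ Coh.structureModule P) →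
      Nonempty ((Scheme.Modules.pullback h).obj M' ≅ (Scheme.Modules.pullback h).obj M))

include hM' in
theorem nonempty_iso_of_trivialised {T : Over S} (g : T ⟶ H)
    (h : Nonempty (pb g.left (pb (PicF.secT f σ hσ H) M) ≅ Coh.structureModule T.left)) :
    Nonempty (pb (PicF.XTmap f g) M' ≅ pb (PicF.XTmap f g) M) := by
  obtain ⟨e⟩ := h
  exact hM' _ ⟨(pC _ _ (XTmap_snd f g).symm _).symm ≪≫
    (Scheme.Modules.pullback (PicF.XTproj f T)).mapIso e ≪≫ pO _⟩

theorem nonempty_inverse_pullback {T : Over S} (g : T ⟶ H) {I : (PicF.XT f H).IdealSheafData}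
    (hI : BlowUp.IsEffCartierIdeal I) (hg : BlowUp.IsEffCartierIdeal (I.comap (PicF.XTmap f g)))
    (e : CohB1.tensorMod M (ClSub.idealMod I) ≅ Coh.structureModule _) :
    Nonempty (CohB1.tensorMod (ClSub.idealMod (I.comap (PicF.XTmap f g))) (pb (PicF.XTmap f g) M) ≅
      Coh.structureModule _) := by
  obtain ⟨eI⟩ := H12Pic.CurveFam.nonempty_pullback_idealMod_comap (PicF.XTmap f g) hI hg
  exact ⟨tI eI.symm (Iso.refl _) ≪≫ H10Coh.Tw.commIso _ _ ≪≫ (pT _ M _).symm ≪≫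
    (Scheme.Modules.pullback _).mapIso e ≪≫ pO _⟩

end

variable {k : Type u} [Field k] [IsSepClosed k] {X : Scheme.{u}} {f : X ⟶ Spec (CommRingCat.of k)}
  {σ : Spec (CommRingCat.of k) ⟶ X}

/-- The classes good on every fibre are parametrised by an open part of the Hilbert scheme of
divisors of degree the genus. -/
theorem exists_good_family_lfp (hX : Curve.IsSmoothProperCurve k X f) (hσ : σ ≫ f = 𝟙 _) :
    ∃ (W : Over (Spec (CommRingCat.of k))) (u₀ : PicF.Rig f σ hσ W),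
      LocallyOfFinitePresentation W.hom ∧
      (∀ (T : Over (Spec (CommRingCat.of k))) (c : PicF.Rig f σ hσ T) (L : (PicF.XT f T).Modules),
        PicF.IsInvertible L → PicF.cl L = c.1 →
        ((∃ h : T ⟶ W, rigPull f hσ h u₀ = c) ↔ IsGood (PicF.XTproj f T) L)) ∧
      ∀ T, Function.Injective fun h : T ⟶ W => rigPull f hσ h u₀ := by
  have ha := fun T U => isIso_app_family hX T U
  have hp := fun T => isProper_family hX T
  have hs := fun T => smooth_family hX T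
  have hs' : ∀ T, Smooth (PicF.XTproj f T) := fun T => haveI := hs T; SmoothOfRelativeDimension.smooth 1 _
  obtain ⟨γ, hγ⟩ := exists_genus hX
  obtain ⟨H, Z, hZ, -, hHs⟩ := H27CurveDiv.exists_proper_smooth f hX γ
  let πH := PicF.XTproj f H
  haveI := hp H; haveI := hs H; haveI := hs' H
  obtain ⟨⟨hfin, hfl, hlfp⟩, -⟩ := id Z.2
  haveI := hfin; haveI := hfl; haveI := hlfp
  have hI : BlowUp.IsEffCartierIdeal Z.1 :=
    ((H27CurveDiv.cartier_iff πH Z.1).2 ⟨inferInstance, hfl, hlfp⟩).1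
  obtain ⟨M, hM, ⟨eM⟩⟩ := H11Sym.exists_inverse (H29Blow.isInvertible_of_isEffCartierIdeal _ hI)
  obtain ⟨M', hM'i, ⟨rM'⟩, hM'⟩ := RigDescent.exists_rigidified (PicF.XTproj f H) (PicF.secT f σ hσ H)
    (RigDescent.secT_snd f hσ H) hM
  let cH : PicF.Rig f σ hσ H := ⟨PicF.cl M', ⟨_, rfl, hM'i⟩, Quot.sound ⟨rM'⟩⟩
  let G := goodLocus πH hM'i
  let W := AbDual.ovr H G.ι
  let j : W ⟶ H := AbDual.ovrHom H G.ι
  let u₀ := rigPull f hσ j cH
  haveI : IsOpenImmersion j.left := inferInstanceAs (IsOpenImmersion G.ι)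
  have hgood : ∀ {T : Over (Spec (CommRingCat.of k))} (g : T ⟶ H) (L : (PicF.XT f T).Modules),
      PicF.cl L = (rigPull f hσ g cH).1 → (IsGood (PicF.XTproj f T) L ↔ Set.range g.left ⊆ (G : Set H.left)) := by
    intro T g L hL
    obtain ⟨e⟩ := Sep.iso_of_cl_eq (L' := pb (PicF.XTmap f g) M') hL
    haveI := hp T
    rw [← isGood_pullback_iff πH hM'i (H27HilbOps.isPullback_XTmap f g)]
    exact forall_congr' fun t => by
      have hr : ∀ p, CohIII.fiberRank (PicF.XTproj f T) L p t =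
          CohIII.fiberRank (PicF.XTproj f T) (pb (PicF.XTmap f g) M') p t := fun p =>
        (H29RR.hhIso (k := T.left.residueField t) ((Scheme.Modules.pullback _).mapIso e) p).finrank_eq
      rw [hr 0, hr 1]
  have hrange : ∀ {T : Over (Spec (CommRingCat.of k))} (h : T ⟶ W), Set.range (h ≫ j).left ⊆ (G : Set H.left) := by
    rintro T h _ ⟨x, rfl⟩
    exact (h.left x).2
  have hcart : ∀ {T : Over (Spec (CommRingCat.of k))} (g : T ⟶ H),
      BlowUp.IsEffCartierIdeal (Z.1.comap (PicF.XTmap f g)) ∧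
        ∀ t, BlowUp.IsEffCartierIdeal ((Z.1.comap (PicF.XTmap f g)).comap ((PicF.XTproj f T).fiberι t)) := by
    intro T g
    refine ⟨H13Cartier.isEffCartierIdeal_comap_of_relative (H27HilbOps.isPullback_XTmap f g) hI, fun t => ?_⟩
    rw [← Scheme.IdealSheafData.comap_comp]
    exact H13Cartier.isEffCartierIdeal_comap_of_relative
      ((IsPullback.of_hasPullback (PicF.XTproj f T) (T.left.fromSpecResidueField t)).paste_horiz
        (H27HilbOps.isPullback_XTmap f g)) hI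
  have hobj : ∀ {T : Over (Spec (CommRingCat.of k))} (g : T ⟶ H),
      Mor2.IsFinLocFreeOfDeg γ ((Z.1.comap (PicF.XTmap f g)).subschemeι ≫ PicF.XTproj f T) := fun g =>
    H27CurveDiv.divOfDeg_comap (H27HilbOps.isPullback_XTmap f g) Z.2
  have hinj : ∀ T, Function.Injective fun h : T ⟶ W => rigPull f hσ h u₀ := by
    intro T h₁ h₂ heq
    replace heq : rigPull f hσ (h₁ ≫ j) cH = rigPull f hσ (h₂ ≫ j) cH := by
      rw [← rigPull_comp, ← rigPull_comp]; exact heq
    ext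
    rw [← cancel_mono j.left, ← Over.comp_left, ← Over.comp_left]
    have hU : ∀ t : T.left, ∃ U : T.left.Opens, t ∈ U ∧
        Nonempty (pb U.ι (pb (h₁ ≫ j).left (pb (PicF.secT f σ hσ H) M)) ≅ Coh.structureModule U) ∧
        Nonempty (pb U.ι (pb (h₂ ≫ j).left (pb (PicF.secT f σ hσ H) M)) ≅ Coh.structureModule U) := by
      intro t
      have hi := fun h : T ⟶ W =>
        H11Ample.isInvertible_pullback (h ≫ j).left (H11Ample.isInvertible_pullback (PicF.secT f σ hσ H) hM)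
      obtain ⟨U₁, h₁', ⟨e₁⟩⟩ := exists_trivialising_open (hi h₁) t
      obtain ⟨U₂, h₂', ⟨e₂⟩⟩ := exists_trivialising_open (hi h₂) t
      refine ⟨U₁ ⊓ U₂, ⟨h₁', h₂'⟩, ⟨(pC _ _ (T.left.homOfLE_ι inf_le_left) _).symm ≪≫ ?_⟩,
        ⟨(pC _ _ (T.left.homOfLE_ι inf_le_right) _).symm ≪≫ ?_⟩⟩
      · exact (Scheme.Modules.pullback _).mapIso e₁ ≪≫ pO _
      · exact (Scheme.Modules.pullback _).mapIso e₂ ≪≫ pO _
    choose U hxU e₁ e₂ using hU
    refine Scheme.Cover.hom_ext (T.left.openCoverOfIsOpenCover U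
      (eq_top_iff.2 fun x _ => TopologicalSpace.Opens.mem_iSup.2 ⟨x, hxU x⟩)) _ _ fun t => ?_
    let q := AbDual.ovrHom T (U t).ι
    let g₁ := q ≫ h₁ ≫ j
    let g₂ := q ≫ h₂ ≫ j
    have hcl : rigPull f hσ g₁ cH = rigPull f hσ g₂ cH :=
      (rigPull_comp f hσ q (h₁ ≫ j) cH).symm.trans
        ((congrArg (rigPull f hσ q) heq).trans (rigPull_comp f hσ q (h₂ ≫ j) cH))
    obtain ⟨a₁⟩ := nonempty_iso_of_trivialised f hσ hM' g₁
      ⟨(pC _ _ rfl _).symm ≪≫ (e₁ t).some⟩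
    obtain ⟨a₂⟩ := nonempty_iso_of_trivialised f hσ hM' g₂
      ⟨(pC _ _ rfl _).symm ≪≫ (e₂ t).some⟩
    obtain ⟨e⟩ := Sep.iso_of_cl_eq (L := pb (PicF.XTmap f g₁) M') (L' := pb (PicF.XTmap f g₂) M')
      (congrArg Subtype.val hcl)
    haveI := hp (AbDual.ovr T (U t).ι); haveI := hs' (AbDual.ovr T (U t).ι)
    have hg : IsGood (PicF.XTproj f (AbDual.ovr T (U t).ι)) (pb (PicF.XTmap f g₁) M') :=
      (hgood g₁ _ rfl).2 (by rw [show g₁ = (q ≫ h₁) ≫ j from (Category.assoc _ _ _).symm]; exact hrange _)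
    obtain ⟨b₁⟩ := nonempty_inverse_pullback f g₁ hI (hcart g₁).1 eM
    obtain ⟨b₂⟩ := nonempty_inverse_pullback f g₂ hI (hcart g₂).1 eM
    have hdiv := divisor_unique (PicF.XTproj f (AbDual.ovr T (U t).ι)) (H11Ample.isInvertible_pullback _ hM'i)
      (fun s => (fibre_family hX _ s).1) hg (hcart g₁).1 (hcart g₂).1 (hcart g₁).2 (hcart g₂).2
      (tI (Iso.refl _) a₁ ≪≫ b₁) (tI (Iso.refl _) (e ≪≫ a₂) ≪≫ b₂)
    have hg12 : g₁ = g₂ := (hZ _ ⟨_, hobj g₁⟩).unique (H27HilbOne.pull_eq_comap f g₁ Z.1)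
      ((H27HilbOne.pull_eq_comap f g₂ Z.1).trans hdiv.symm)
    exact congrArg CommaMorphism.left hg12
  have hloc : ∀ (T : Over (Spec (CommRingCat.of k))) (c : PicF.Rig f σ hσ T) (L : (PicF.XT f T).Modules),
      PicF.IsInvertible L → PicF.cl L = c.1 → IsGood (PicF.XTproj f T) L → ∀ t : T.left,
      ∃ (T' : Over (Spec (CommRingCat.of k))) (p : T' ⟶ T) (h : T' ⟶ W), IsOpenImmersion p.left ∧
        t ∈ Set.range p.left ∧ rigPull f hσ h u₀ = rigPull f hσ p c := by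
    intro T c L hL hLc hg t
    let π := PicF.XTproj f T
    haveI := hp T; haveI := hs' T
    obtain ⟨V, hV, htV, he, -⟩ := exists_nhd_of_fiberRank_one_eq_zero π hL (hg t).2
    obtain ⟨hex, -⟩ := good_sections π (fun s => (fibre_family hX T s).1) hL hg hV he
    obtain ⟨m, y, hy, hyt⟩ := hex t htV
    let U₀ : T.left.Opens := ⟨π '' genAt L m ∩ V, (π.isOpenMap _ (isOpen_genAt hL m)).inter V.2⟩
    let T₁ := AbDual.ovr T U₀.ι
    let q : T₁ ⟶ T := AbDual.ovrHom T U₀.ι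
    let g' := PicF.XTmap f q
    let π' := PicF.XTproj f T₁
    haveI := hp T₁; haveI := hs T₁; haveI := hs' T₁
    have hsq : IsPullback g' π' π U₀.ι := H27HilbOps.isPullback_XTmap f q
    have hle : (⊤ : (PicF.XT f T₁).Opens) ≤ g' ⁻¹ᵁ (π ⁻¹ᵁ V) := fun z _ => by
      show π (g' z) ∈ V
      rw [← Scheme.Hom.comp_apply, hsq.w, Scheme.Hom.comp_apply]
      exact (π' z).2.2
    let L' := pb g' L
    have hL' : PicF.IsInvertible L' := H11Ample.isInvertible_pullback g' hL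
    let m' : Γ(L', ⊤) := L'.presheaf.map (homOfLE hle).op (OmegaSh.pullSect g' L (π ⁻¹ᵁ V) m)
    have hm' : ∀ s : T₁.left, ∃ z, π' z = s ∧ zeroGerm L' (H11Tilde.homOfGlobal L' m') z = ⊤ := by
      intro s
      obtain ⟨⟨x, hx, hxs⟩, -⟩ := s.2
      obtain ⟨z, hz, hzs⟩ := Scheme.exists_preimage_of_isPullback hsq x s hxs
      refine ⟨z, hzs, zeroGerm_homOfGlobal_eq_top m' ⟨trivial, ?_⟩⟩
      have hb := bijective_germ_pullSect g' hL m z (hz.symm ▸ hx)
      rw [TopCat.Presheaf.germ_res_apply]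
      exact hb
    obtain ⟨J, hJd, ⟨eJ⟩⟩ := exists_divisor_of_section π' hL' (fun s => (fibre_family hX T₁ s).1)
      (fun s => (fibre_family hX T₁ s).2) γ (hγ T₁) (hg.pullback π hL hsq) _ hm'
    obtain ⟨g, hgJ, -⟩ := hZ T₁ ⟨J, hJd⟩
    rw [H27HilbOne.pull_eq_comap] at hgJ
    obtain ⟨b⟩ := nonempty_inverse_pullback f g hI (hcart g).1 eM
    change Z.1.comap (PicF.XTmap f g) = J at hgJ
    rw [hgJ] at b
    obtain ⟨e'⟩ := H25Theta.cancel_right (A := pb (PicF.XTmap f g) M) (B := L')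
      (C := ClSub.idealMod J) (hgJ ▸ H29Blow.isInvertible_of_isEffCartierIdeal _ (hcart g).1)
      ⟨H10Coh.Tw.commIso _ _ ≪≫ b ≪≫ eJ.symm ≪≫ H10Coh.Tw.commIso _ _⟩
    let t₁ : T₁.left := ⟨t, ⟨y, hy, hyt⟩, htV⟩
    obtain ⟨U, htU, ⟨eU⟩⟩ := exists_trivialising_open
      (H11Ample.isInvertible_pullback g.left (H11Ample.isInvertible_pullback (PicF.secT f σ hσ H) hM)) t₁
    let T₂ := AbDual.ovr T₁ U.ι
    let q₂ : T₂ ⟶ T₁ := AbDual.ovrHom T₁ U.ι
    obtain ⟨a⟩ := nonempty_iso_of_trivialised f hσ hM' (q₂ ≫ g)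
      ⟨(pC _ _ rfl _).symm ≪≫ eU⟩
    have hcl : rigPull f hσ (q₂ ≫ g) cH = rigPull f hσ (q₂ ≫ q) c := by
      rw [← rigPull_comp (a := q₂) (b := q)]
      refine Subtype.ext ?_
      show PicF.pullCl _ (PicF.cl M') = PicF.pullCl _ (PicF.pullCl _ c.1)
      rw [← hLc]
      refine Quot.sound ⟨a ≪≫ ((Scheme.Modules.pullbackCongr (H27HilbOps.XTmap_comp f q₂ g)).app M) ≪≫
        ((Scheme.Modules.pullbackComp _ _).app M).symm ≪≫ (Scheme.Modules.pullback _).mapIso e'⟩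
    haveI := hp T₂
    have hg₂ : IsGood (PicF.XTproj f T₂) (pb (PicF.XTmap f (q₂ ≫ q)) L) :=
      hg.pullback π hL (H27HilbOps.isPullback_XTmap f (q₂ ≫ q))
    have hrg := (hgood (q₂ ≫ g) (pb (PicF.XTmap f (q₂ ≫ q)) L) (by rw [hcl]; show _ = PicF.pullCl _ c.1; rw [← hLc]; rfl)).1 hg₂
    let hleft : T₂.left ⟶ W.left := IsOpenImmersion.lift G.ι (q₂ ≫ g).left (by rw [Scheme.Opens.range_ι]; exact hrg)
    let h : T₂ ⟶ W := Over.homMk hleft (by
      show hleft ≫ G.ι ≫ H.hom = _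
      rw [← Category.assoc, IsOpenImmersion.lift_fac]
      exact Over.w (q₂ ≫ g))
    have hh : h ≫ j = q₂ ≫ g := Over.OverMorphism.ext (IsOpenImmersion.lift_fac _ _ _)
    refine ⟨T₂, q₂ ≫ q, h, ?_, ?_, ?_⟩
    · rw [Over.comp_left]
      exact inferInstanceAs (IsOpenImmersion (U.ι ≫ U₀.ι))
    · exact ⟨⟨t₁, htU⟩, rfl⟩
    · rw [← hcl, ← hh, ← rigPull_comp]
  refine ⟨W, u₀, by haveI := hHs; exact inferInstanceAs (LocallyOfFinitePresentation (G.ι ≫ H.hom)),
    fun T c L hL hLc => ⟨?_, fun hg => ?_⟩, hinj⟩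
  · rintro ⟨h, rfl⟩
    refine (hgood (h ≫ j) L ?_).2 (hrange h)
    rw [← rigPull_comp]
    exact hLc
  · choose T' p h hpo hpr hp' using hloc T c L hL hLc hg
    let 𝒰 : T.left.OpenCover := Scheme.Cover.mkOfCovers T.left (fun t => (T' t).left) (fun t => (p t).left)
      (fun x => ⟨x, hpr x⟩) (fun t => hpo t)
    let hl : T.left ⟶ W.left := Scheme.Cover.glueMorphisms 𝒰 (fun t => (h t).left) fun a b => by
      let Z' : Over (Spec (CommRingCat.of k)) := Over.mk (pullback.fst (p a).left (p b).left ≫ (T' a).hom)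
      let i₁ : Z' ⟶ T' a := Over.homMk (pullback.fst _ _) rfl
      let i₂ : Z' ⟶ T' b := Over.homMk (pullback.snd _ _) (by
        show pullback.snd _ _ ≫ (T' b).hom = pullback.fst _ _ ≫ (T' a).hom
        rw [← Over.w (p a), ← Over.w (p b), pullback.condition_assoc])
      have hi : i₁ ≫ p a = i₂ ≫ p b := Over.OverMorphism.ext pullback.condition
      have := hinj Z' (a₁ := i₁ ≫ h a) (a₂ := i₂ ≫ h b) (by
        show rigPull f hσ (i₁ ≫ h a) u₀ = rigPull f hσ (i₂ ≫ h b) u₀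
        rw [← rigPull_comp, ← rigPull_comp, hp', hp', rigPull_comp, rigPull_comp, hi])
      exact congrArg CommaMorphism.left this
    have hfac : ∀ t, (p t).left ≫ hl = (h t).left := fun t => Scheme.Cover.ι_glueMorphisms 𝒰 _ _ t
    let hh : T ⟶ W := Over.homMk hl (by
      refine Scheme.Cover.hom_ext 𝒰 _ _ fun t => ?_
      show (p t).left ≫ hl ≫ W.hom = (p t).left ≫ T.hom
      rw [← Category.assoc, hfac, Over.w, Over.w])
    refine ⟨hh, rig_ext_of_cover f hσ ha T T' p hpo (fun x => ⟨x, hpr x⟩) _ _ fun t => ?_⟩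
    rw [rigPull_comp, show p t ≫ hh = h t from Over.OverMorphism.ext (hfac t), hp']

/-- The classes good on every fibre are parametrised by a scheme. -/
theorem exists_good_family (hX : Curve.IsSmoothProperCurve k X f) (hσ : σ ≫ f = 𝟙 _) :
    ∃ (W : Over (Spec (CommRingCat.of k))) (u₀ : PicF.Rig f σ hσ W),
      (∀ (T : Over (Spec (CommRingCat.of k))) (c : PicF.Rig f σ hσ T) (L : (PicF.XT f T).Modules),
        PicF.IsInvertible L → PicF.cl L = c.1 →
        ((∃ h : T ⟶ W, rigPull f hσ h u₀ = c) ↔ IsGood (PicF.XTproj f T) L)) ∧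
      ∀ T, Function.Injective fun h : T ⟶ W => rigPull f hσ h u₀ :=
  let ⟨W, u₀, _, h⟩ := exists_good_family_lfp hX hσ
  ⟨W, u₀, h⟩

end Groth.Agent.H12Pic.PicCurve
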