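import Groth.Agent.H12Pic.RigPoints
import Groth.Agent.H25Theta.Cls
import Mathlib.CategoryTheory.Monoidal.Cartesian.Grp
import Mathlib.CategoryTheory.Monoidal.Cartesian.Over

/-!
# The group structure of a scheme representing the relative Picard sheaf of a morphism with a section
-/

set_option autoImplicit false
set_option linter.style.haveILetI false
set_option linter.unusedSectionVars false
set_option backward.isDefEq.respectTransparency.types false

noncomputable section

universe u

open CategoryTheory CategoryTheory.Limits AlgebraicGeometry Opposite MonoidalCategory CartesianMonoidalCategory MonObj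

namespace Groth.Agent.H12Pic.PicCurve.PicGroup

open Groth.Agent.H17.PullCl Groth.Agent.H12Pic.RigPoints
open Groth.Agent.H25Theta (Cls cls pull pullU pull_pull pull_id isUnit_cls)

variable {X S : Scheme.{u}} (f : X ⟶ S) {σ : S ⟶ X} (hσ : σ ≫ f = 𝟙 S)

/-- The rigidified classes inside the group of units of the classes. -/
def rigSub (T : Over S) : Subgroup (Cls (PicF.XT f T))ˣ where
  carrier := {u | PicF.IsInvertibleCl (u.1 : PicF.Cl (PicF.XT f T)) ∧ pull (PicF.secT f σ hσ T) u.1 = 1}
  one_mem' := ⟨⟨_, rfl, H11Ample.isInvertible_structureModule⟩, map_one _⟩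
  mul_mem' := by
    rintro a b ⟨⟨L, hL, hL'⟩, ha⟩ ⟨⟨M, hM, hM'⟩, hb⟩
    refine ⟨⟨CohB1.tensorMod L M, ?_, H11Ample.isInvertible_tensor hL' hM'⟩, ?_⟩
    · rw [Units.val_mul]
      show cls L * cls M = _
      rw [show cls L = a.1 from hL, show cls M = b.1 from hM]
    · rw [Units.val_mul, map_mul, ha, hb, _root_.mul_one]
  inv_mem' := by
    rintro a ⟨⟨L, hL, hL'⟩, ha⟩
    obtain ⟨N, hN, hNL⟩ := H11Sym.exists_inverse hL'
    have e : cls N = (a⁻¹ : (Cls (PicF.XT f T))ˣ).1 := by
      refine (Units.inv_eq_of_mul_eq_one_left ?_).symm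
      rw [← show cls L = a.1 from hL]
      exact Quot.sound hNL
    refine ⟨⟨N, e, hN⟩, ?_⟩
    have h1 := map_mul (pull (PicF.secT f σ hσ T)) (a⁻¹ : (Cls (PicF.XT f T))ˣ).1 a.1
    rw [Units.inv_mul, map_one, ha, _root_.mul_one] at h1
    exact h1.symm

/-- An element of the group as a rigidified class. -/
def toRig {T : Over S} (u : rigSub f hσ T) : PicF.Rig f σ hσ T := ⟨u.1.1, u.2.1, u.2.2⟩

theorem toRig_bijective (T : Over S) : Function.Bijective (toRig f hσ (T := T)) := by
  refine ⟨fun a b h => Subtype.ext (Units.ext (congrArg Subtype.val h)), fun c => ?_⟩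
  obtain ⟨L, hL, hL'⟩ := c.2.1
  exact ⟨⟨(isUnit_cls hL').unit, ⟨L, rfl, hL'⟩, (congrArg (PicF.pullCl _) hL).trans c.2.2⟩, Subtype.ext hL⟩

/-- Pullback of rigidified units. -/
def rigMap {T T' : Over S} (h : T' ⟶ T) : rigSub f hσ T →* rigSub f hσ T' :=
  ((pullU (PicF.XTmap f h)).comp (rigSub f hσ T).subtype).codRestrict _ fun u =>
    (rigPull f hσ h (toRig f hσ u)).2

theorem toRig_rigMap {T T' : Over S} (h : T' ⟶ T) (u : rigSub f hσ T) :
    toRig f hσ (rigMap f hσ h u) = rigPull f hσ h (toRig f hσ u) := rfl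

/-- The rigidified Picard functor as a functor to groups. -/
def picFunctor : (Over S)ᵒᵖ ⥤ GrpCat.{u + 1} where
  obj T := GrpCat.of (rigSub f hσ T.unop)
  map h := GrpCat.ofHom (rigMap f hσ h.unop)
  map_id T := GrpCat.hom_ext (MonoidHom.ext fun u => (toRig_bijective f hσ _).1 (Subtype.ext (by
    show PicF.pullCl (PicF.XTmap f (𝟙 T.unop)) u.1.1 = u.1.1
    refine (pullCl_congr (pullback.hom_ext ?_ ?_) _).trans (pullCl_id _)
    · rw [XTmap_fst, Category.id_comp]
    · rw [XTmap_snd, Category.id_comp]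
      exact Category.comp_id _)))
  map_comp a b := GrpCat.hom_ext (MonoidHom.ext fun u => (toRig_bijective f hσ _).1 (Subtype.ext (by
    show PicF.pullCl (PicF.XTmap f (b.unop ≫ a.unop)) u.1.1 = PicF.pullCl _ (PicF.pullCl _ u.1.1)
    rw [XTmap_comp, pullCl_comp])))

variable (P : Over S) {φ : ∀ T : Over S, PicF.Cl (PicF.XT f T) → (T ⟶ P)}
  (hP : AbDual.IsRelPicK Scheme.fppfPrecoverage f P φ)
  (ha : ∀ (T : Over S) (U : T.left.Opens), IsIso ((PicF.XTproj f T).app U))

include hP ha in
theorem point_bijective (T : Over S) : Function.Bijective fun u : rigSub f hσ T => φ T u.1.1 := by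
  have h : Function.Bijective fun c : PicF.Rig f σ hσ T => φ T c.1 :=
    ⟨point_injective f hσ P hP ha T, fun g => point_surjective f hσ P hP ha T g⟩
  exact h.comp (toRig_bijective f hσ T)

/-- Points and classes. -/
def pointEquiv (T : Over S) : rigSub f hσ T ≃ (T ⟶ P) :=
  Equiv.ofBijective _ (point_bijective f hσ P hP ha T)

theorem pointEquiv_natural {T T' : Over S} (h : T' ⟶ T) (u : rigSub f hσ T) :
    pointEquiv f hσ P hP ha T' (rigMap f hσ h u) = h ≫ pointEquiv f hσ P hP ha T u :=
  hP.natural T T' h u.1.1 u.2.1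

/-- The representing scheme represents the functor to groups. -/
def picRep : (picFunctor f hσ ⋙ forget GrpCat).RepresentableBy P where
  homEquiv {T} := (pointEquiv f hσ P hP ha T).symm
  homEquiv_comp {T T'} k a := by
    apply (pointEquiv f hσ P hP ha T).injective
    refine (Equiv.apply_symm_apply _ _).trans ?_
    refine Eq.trans ?_ (pointEquiv_natural f hσ P hP ha k _).symm
    exact (congrArg (k ≫ ·) (Equiv.apply_symm_apply _ a)).symm

/-- The group structure on the representing scheme. -/
@[instance_reducible]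
def grpObj : GrpObj P := GrpObj.ofRepresentableBy P (picFunctor f hσ) (picRep f hσ P hP ha)

/-- The point of a product of classes is the product of the points. -/
theorem pointEquiv_mul (T : Over S) (u v : rigSub f hσ T) :
    letI := grpObj f hσ P hP ha
    pointEquiv f hσ P hP ha T (u * v) = pointEquiv f hσ P hP ha T u * pointEquiv f hσ P hP ha T v := by
  letI := grpObj f hσ P hP ha
  let E := fun T => pointEquiv f hσ P hP ha T
  have hμ : μ[P] = E (P ⊗ P) ((E (P ⊗ P)).symm (fst P P) * (E (P ⊗ P)).symm (snd P P)) := rfl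
  have hh : ∀ {T T' : Over S} (h : T' ⟶ T) (a : T ⟶ P), rigMap f hσ h ((E T).symm a) = (E T').symm (h ≫ a) := by
    intro T T' h a
    rw [Equiv.eq_symm_apply]
    exact (pointEquiv_natural f hσ P hP ha h _).trans (by rw [Equiv.apply_symm_apply])
  rw [Hom.mul_def, hμ]
  refine Eq.trans ?_ (pointEquiv_natural f hσ P hP ha _ _)
  rw [(rigMap f hσ _).map_mul, hh, hh, lift_fst, lift_snd, Equiv.symm_apply_apply, Equiv.symm_apply_apply]

end Groth.Agent.H12Pic.PicCurve.PicGroup
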