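import Groth.Agent.H12Pic.PicCurve.AbelSurj
import Groth.Agent.H22Alg.FibreCount
import Groth.Agent.H8Props.FieldDimSmooth
import Groth.Agent.H29RR.Choice

/-!
# The dimension of the algebraically trivial part of the Picard scheme of a curve is the genus
-/

set_option autoImplicit false
set_option linter.style.haveILetI false
set_option linter.unusedSectionVars false
set_option maxHeartbeats 1600000
set_option backward.isDefEq.respectTransparency.types false

noncomputable section

universe u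

open CategoryTheory CategoryTheory.Limits AlgebraicGeometry TopologicalSpace Opposite

namespace Groth.Agent.H12Pic.PicCurve

open Groth.Agent.H17.PullCl Groth.Agent.H12Pic.RigPoints
open Groth.Agent.H25Theta (pb pT pC pI tI pO)
open Groth.Agent.H8Props.FieldDim (cdim)

attribute [local instance] fibreOverField fieldPointOver

/-- A map from a Noetherian space hitting the closed points of a Jacobson space is surjective. -/
theorem surjective_of_closedPoints {A B : Type u} [TopologicalSpace A] [TopologicalSpace B] [NoetherianSpace A]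
    [QuasiSober A] [T0Space B] [JacobsonSpace B] {g : A → B} (hg : Continuous g)
    (h : ∀ z : B, IsClosed ({z} : Set B) → z ∈ Set.range g) : Function.Surjective g := by
  intro z
  let T := closure ({z} : Set B)
  obtain ⟨𝒮, h𝒮, hcl, hirr, hA⟩ :=
    NoetherianSpace.exists_finite_set_isClosed_irreducible (isClosed_closure.preimage hg : IsClosed (g ⁻¹' T))
  have hsub : T ⊆ ⋃ t ∈ 𝒮, closure (g '' t) := by
    have hc : IsClosed (⋃ t ∈ 𝒮, closure (g '' t)) := h𝒮.isClosed_biUnion fun t _ => isClosed_closure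
    refine (closure_inter_closedPoints isClosed_closure).symm.subset.trans ((IsClosed.closure_subset_iff hc).2 ?_)
    rintro w ⟨hwT, hw⟩
    obtain ⟨a, rfl⟩ := h w hw
    have : a ∈ ⋃₀ 𝒮 := hA ▸ hwT
    obtain ⟨t, ht, hat⟩ := this
    exact Set.mem_biUnion ht (subset_closure ⟨a, hat, rfl⟩)
  obtain ⟨t, ht, hzt⟩ := Set.mem_iUnion₂.1 (hsub (subset_closure (Set.mem_singleton z)))
  refine ⟨(hirr t ht).genericPoint, ?_⟩
  have hgt := (hirr t ht).closure_genericPoint (hcl t ht)
  have hmem : (hirr t ht).genericPoint ∈ t := by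
    have := subset_closure (Set.mem_singleton (hirr t ht).genericPoint)
    rwa [hgt] at this
  have hz2 : g (hirr t ht).genericPoint ∈ T := by
    have : (hirr t ht).genericPoint ∈ g ⁻¹' T := hA ▸ Set.mem_sUnion.2 ⟨t, ht, hmem⟩
    exact this
  have hz1 : z ∈ closure ({g (hirr t ht).genericPoint} : Set B) := by
    refine closure_minimal ?_ isClosed_closure hzt
    calc g '' t = g '' closure {(hirr t ht).genericPoint} := congrArg (g '' ·) hgt.symm
      _ ⊆ closure (g '' {(hirr t ht).genericPoint}) := image_closure_subset_closure_image hg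
      _ = closure {g (hirr t ht).genericPoint} := by rw [Set.image_singleton]
  exact ((specializes_iff_mem_closure.2 hz2).antisymm (specializes_iff_mem_closure.2 hz1)).eq.symm

/-- A set closed in a Jacobson space with finitely many closed points is discrete of dimension zero. -/
theorem dim_le_zero_of_finite_closedPoints {A : Type u} [TopologicalSpace A] [JacobsonSpace A] {Z : Set A}
    (hZ : IsClosed Z) (h : (Z ∩ closedPoints A).Finite) : topologicalKrullDim Z ≤ 0 := by
  have hc : IsClosed (Z ∩ closedPoints A) := by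
    rw [← Set.biUnion_of_singleton (Z ∩ closedPoints A)]
    exact h.isClosed_biUnion fun x hx => hx.2
  have e : Z = Z ∩ closedPoints A := by
    conv_lhs => rw [← closure_inter_closedPoints hZ, hc.closure_eq]
  haveI : DiscreteTopology Z := by
    rw [e]
    exact (h.isDiscrete_of_subset_closedPoints Set.inter_subset_right).to_subtype
  exact topologicalKrullDim_zero_of_discreteTopology Z

variable {C S : Scheme.{u}} (f : C ⟶ S) [IsProper f] [SmoothOfRelativeDimension 1 f] [GeometricallyConnected f]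
  (P₀ : Over S) (φ₀ : ∀ T : Over S, PicF.Cl (PicF.XT f T) → (T ⟶ P₀))
  (hP₀ : AbDual.IsRelPicZeroK Scheme.fppfPrecoverage f P₀ φ₀)

include hP₀ in
/-- Over an algebraically closed field, classes with the same point are isomorphic. -/
theorem iso_of_point_eq {Ω : Type u} [Field Ω] [IsAlgClosed Ω] (x : Spec (CommRingCat.of Ω) ⟶ S)
    {L L' : (PicF.XT f (Over.mk x)).Modules} (hL : AbDual.IsPicZeroCl f (Over.mk x) (PicF.cl L))
    (hL' : AbDual.IsPicZeroCl f (Over.mk x) (PicF.cl L'))
    (h : φ₀ _ (PicF.cl L) = φ₀ _ (PicF.cl L')) : Nonempty (L ≅ L') := by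
  obtain ⟨R, hR, hR'⟩ := hP₀.locallyInjective _ _ _ hL hL' h
  obtain ⟨U, v, hv, hz, -, -, -⟩ := exists_member hR
  let t₀ : Spec (CommRingCat.of Ω) := IsLocalRing.closedPoint Ω
  let v₀ : U t₀ ⟶ Spec (CommRingCat.of Ω) := v t₀
  haveI : LocallyOfFinitePresentation v₀ := (hR.2 (hv t₀)).2
  haveI : JacobsonSpace (U t₀) := LocallyOfFiniteType.jacobsonSpace v₀
  obtain ⟨z₀, hz₀⟩ := hz t₀
  obtain ⟨z, -, hz'⟩ := nonempty_inter_closedPoints (Z := (Set.univ : Set (U t₀))) ⟨z₀, trivial⟩
    isOpen_univ.isLocallyClosed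
  rw [mem_closedPoints_iff] at hz'
  let σ := pointOfClosedPoint v₀ z hz'
  have hσ : σ ≫ v₀ = 𝟙 _ := pointOfClosedPoint_comp _ _ _
  let g : Over.mk x ⟶ AbDual.ovr (Over.mk x) (v t₀) := Over.homMk σ (by
    show σ ≫ v₀ ≫ x = x
    rw [← Category.assoc, hσ, Category.id_comp])
  have hg : g ≫ AbDual.ovrHom (Over.mk x) (v t₀) = 𝟙 _ := Over.OverMorphism.ext hσ
  let q := PicF.XTmap f (AbDual.ovrHom (Over.mk x) (v t₀))
  have hq : PicF.XTmap f g ≫ q = 𝟙 _ := by
    rw [← H27HilbOps.XTmap_comp, hg]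
    apply pullback.hom_ext
    · rw [XTmap_fst, Category.id_comp]
    · rw [XTmap_snd, Category.id_comp]
      exact Category.comp_id _
  obtain ⟨θ⟩ := Sep.iso_of_cl_eq (L := pb q L) (L' := pb q L') (hR' (v t₀) (hv t₀))
  exact ⟨(pC (PicF.XTmap f g) q hq L ≪≫ pI _ rfl L).symm ≪≫ (Scheme.Modules.pullback _).mapIso θ ≪≫
    pC (PicF.XTmap f g) q hq L' ≪≫ pI _ rfl L'⟩

include hP₀ in
/-- The fibres of the algebraically trivial part have dimension equal to the genus. -/
theorem picZero_fiber_dim [LocallyOfFiniteType P₀.hom] (s : S) :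
    topologicalKrullDim ↥(P₀.hom.fiber s) = (CohIII.fiberRank f (Coh.structureModule C) 1 s : WithBot ℕ∞) := by
  classical
  let n := CohIII.fiberRank f (Coh.structureModule C) 1 s
  obtain ⟨_, _, _⟩ := family_facts f (Over.mk f)
  obtain ⟨LΔ, hLΔ, ⟨eΔ⟩⟩ := H11Sym.exists_inverse
    (H29Blow.isInvertible_of_isEffCartierIdeal _ (H12Pic.CurveFam.isEffCartierIdeal_section
      (PicF.XTproj f (Over.mk f)) (pullback.diagonal f) (pullback.diagonal_snd f)))
  have hΔ : ClSub.IsInverseOf LΔ (ClSub.idealMod (pullback.diagonal f).ker) :=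
    (by first | exact ⟨eΔ⟩ | exact ⟨H10Coh.Tw.commIso _ _ ≪≫ eΔ⟩)
  obtain ⟨W, y, L, hWp, -, -, hWn, hL, hL0, hcatch, -, hfin⟩ := exists_stage f hLΔ hΔ n
  haveI := hWp; haveI := hWn
  haveI := smoothOfRelativeDimension_isStableUnderBaseChange.{u} (n := n)
  have hc : AbDual.IsPicZeroCl f W (PicF.cl L) := (isPicZeroCl_iff_degAt f _ hL).2 hL0
  let h := φ₀ W (PicF.cl L)
  let Ω := AlgebraicClosure (S.residueField s)
  let σ : Spec (CommRingCat.of Ω) ⟶ Spec (S.residueField s) :=
    Spec.map (CommRingCat.ofHom (algebraMap (S.residueField s) Ω))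
  let x := σ ≫ S.fromSpecResidueField s
  haveI := H8Props.FieldDim.locallyOfFiniteType_fiberToSpec P₀.hom s
  let Z := pullback (P₀.hom.fiberToSpecResidueField s) σ
  let qZ : Z ⟶ Spec (CommRingCat.of Ω) := pullback.snd _ _
  let gZ : Z ⟶ P₀.left := pullback.fst _ _ ≫ P₀.hom.fiberι s
  have hsq : IsPullback gZ qZ P₀.hom x :=
    (IsPullback.of_hasPullback _ σ).paste_horiz (IsPullback.of_hasPullback P₀.hom (S.fromSpecResidueField s))
  have hdimZ : topologicalKrullDim Z = topologicalKrullDim ↥(P₀.hom.fiber s) :=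
    H8Props.FieldDim.dim_baseChange (k := S.residueField s) (K := Ω) _ _ _
      (IsPullback.of_hasPullback (P₀.hom.fiberToSpecResidueField s) σ)
  rw [← hdimZ]
  haveI : LocallyOfFiniteType qZ := MorphismProperty.of_isPullback hsq inferInstance
  haveI : IsLocallyNoetherian Z := LocallyOfFiniteType.isLocallyNoetherian qZ
  haveI : JacobsonSpace Z := LocallyOfFiniteType.jacobsonSpace qZ
  -- the curve over `Ω`
  obtain ⟨_, _, _, _, hdim⟩ := xtPoint_facts f x
  let F := PicF.XT f (Over.mk x)
  haveI := H29RR.isNoetherian_of_proper (k := Ω) (X := F)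
  haveI : Smooth (F ↘ Spec (CommRingCat.of Ω)) := SmoothOfRelativeDimension.smooth 1 _
  have hg : Curv2.genus Ω F = n := by
    rw [genus_point f x]
    show CohIII.fiberRank f _ 1 ((σ ≫ S.fromSpecResidueField s) _) = n
    rw [Scheme.Hom.comp_apply, Scheme.fromSpecResidueField_apply]
  haveI : JacobsonSpace F := LocallyOfFiniteType.jacobsonSpace (F ↘ Spec (CommRingCat.of Ω))
  obtain ⟨q₀, -, hq₀⟩ := nonempty_inter_closedPoints (Z := (Set.univ : Set F)) Set.univ_nonempty
    isOpen_univ.isLocallyClosed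
  rw [mem_closedPoints_iff] at hq₀
  let q := pointOfClosedPoint (F ↘ Spec (CommRingCat.of Ω)) q₀ hq₀
  have hq : q ≫ PicF.XTproj f (Over.mk x) = 𝟙 _ := pointOfClosedPoint_comp _ _ _
  let b : Over.mk x ⟶ Over.mk f := Over.homMk (q ≫ pullback.fst f x) (by
    show (q ≫ pullback.fst f x) ≫ f = x
    rw [Category.assoc, pullback.condition, ← Category.assoc]
    erw [hq, Category.id_comp])
  -- the family through `b`
  let bl : Spec (CommRingCat.of Ω) ⟶ C := b.left
  let yl : W.left ⟶ C := y.left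
  haveI : SmoothOfRelativeDimension n yl := hWn
  haveI : IsProper yl := by
    haveI : IsProper (yl ≫ f) := by
      have e : yl ≫ f = W.hom := Over.w y
      exact e.symm ▸ hWp
    exact IsProper.of_comp yl f
  let A := pullback yl bl
  let qA : A ⟶ Spec (CommRingCat.of Ω) := pullback.snd yl bl
  haveI : SmoothOfRelativeDimension n qA :=
    MorphismProperty.pullback_snd (P := @SmoothOfRelativeDimension n) _ _ inferInstance
  haveI : IsProper qA := MorphismProperty.pullback_snd (P := @IsProper) _ _ inferInstance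
  haveI : IsLocallyNoetherian A := LocallyOfFiniteType.isLocallyNoetherian qA
  haveI : CompactSpace A := QuasiCompact.compactSpace_of_compactSpace qA
  haveI : IsNoetherian A := {}
  have hyf : yl ≫ f = W.hom := Over.w y
  have hbf : bl ≫ f = x := Over.w b
  let g : A ⟶ Z := hsq.lift (pullback.fst yl bl ≫ h.left) qA (by
    rw [Category.assoc, Over.w h, ← hyf, pullback.condition_assoc, hbf])
  have hgq : g ≫ qZ = qA := hsq.lift_snd _ _ _
  have hgg : g ≫ gZ = pullback.fst yl bl ≫ h.left := hsq.lift_fst _ _ _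
  -- points of `A` from points of the stage
  let pA : ∀ a : Over.mk x ⟶ W, a ≫ y = b → (Spec (CommRingCat.of Ω) ⟶ A) := fun a ha =>
    pullback.lift (a.left : Spec (CommRingCat.of Ω) ⟶ W.left) (𝟙 _)
      ((congrArg CommaMorphism.left ha).trans (Category.id_comp _).symm)
  have pt_of : ∀ (a : Over.mk x ⟶ W) (ha : a ≫ y = b) (τ : Spec (CommRingCat.of Ω) ⟶ Z),
      τ ≫ qZ = 𝟙 _ → τ ≫ gZ = a.left ≫ h.left →
      g (pA a ha (IsLocalRing.closedPoint Ω)) = τ (IsLocalRing.closedPoint Ω) := by
    intro a ha τ h₁ h₂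
    have e : pA a ha ≫ g = τ := hsq.hom_ext
      (by rw [Category.assoc, hgg, pullback.lift_fst_assoc, h₂])
      (by rw [Category.assoc, hgq, pullback.lift_snd, h₁])
    rw [← Scheme.Hom.comp_apply, e]
  -- surjectivity on closed points
  have hsurj : ∀ z : Z, IsClosed ({z} : Set Z) → z ∈ Set.range g := by
    intro z hz
    let τ := pointOfClosedPoint qZ z hz
    let pt : Over.mk x ⟶ P₀ := Over.homMk (τ ≫ gZ) (by
      show (τ ≫ gZ) ≫ P₀.hom = x
      rw [Category.assoc, hsq.w, ← Category.assoc, pointOfClosedPoint_comp]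
      exact Category.id_comp x)
    obtain ⟨M₀, hM₀, hM₀c, hφ⟩ := exists_class_of_point f P₀ φ₀ hP₀ x pt
    have hd0 : Curv2.deg Ω F M₀ 1 = 0 := by
      rw [← degAt_point f x hM₀ (IsLocalRing.closedPoint Ω)]
      exact (isPicZeroCl_iff_degAt f _ hM₀).1 hM₀c _
    let Q := ClSub.idealMod (sec f b).ker
    let N := pb (PicF.XTmap f b) LΔ
    have hQ : PicF.IsInvertible Q := isInvertible_sec f b
    have hN : PicF.IsInvertible N := H11Ample.isInvertible_pullback _ hLΔ
    obtain ⟨eN⟩ := pullback_diag f hLΔ hΔ b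
    have hdN : Curv2.deg Ω F N 1 = 1 := by
      have h := H29RR.deg_congr (k := Ω) eN
      rw [H29RR.deg_tensor hdim.le hN hQ, H29RR.deg_structureModule, deg_ideal_sec] at h
      have h' : Curv2.deg Ω F N 1 + (-1) = 0 := h
      omega
    have hdpow : ∀ j : ℕ, Curv2.deg Ω F (CohB1.tensorPow N j) 1 = j := fun j => by
      induction j with
      | zero => exact H29RR.deg_structureModule
      | succ j ih =>
        show Curv2.deg Ω F (CohB1.tensorMod _ N) 1 = _
        rw [H29RR.deg_tensor hdim.le (H11Ample.isInvertible_tensorPow hN j) hN, ih, hdN]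
        push_cast; ring
    let M := CohB1.tensorMod M₀ (CohB1.tensorPow N n)
    have hM : PicF.IsInvertible M := H11Ample.isInvertible_tensor hM₀ (H11Ample.isInvertible_tensorPow hN n)
    have hdM : Curv2.deg Ω F M 1 = n := by
      show Curv2.deg Ω F (CohB1.tensorMod _ _) 1 = _
      rw [H29RR.deg_tensor hdim.le hM₀ (H11Ample.isInvertible_tensorPow hN n), hd0, hdpow, zero_add]
    have h0 : 0 < Module.finrank Ω (Coh.HH F M 0) := by
      have h : (Module.finrank Ω (Coh.HH F M 0) : ℤ) - Module.finrank Ω (Coh.HH F M 1) =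
          Curv2.deg Ω F M 1 + Module.finrank Ω (Coh.HH F (Coh.structureModule F) 0) - Curv2.genus Ω F :=
        H29RR.riemann_roch (k := Ω) hdim.le M
      rw [hdM, H29RR.finrank_h0_structure Ω F, hg] at h
      show 0 < Module.finrank Ω (Coh.HH F M 0)
      omega
    obtain ⟨a, ha, ⟨e⟩⟩ := hcatch Ω x b M hM hdM h0
    obtain ⟨φ⟩ := H10Coh.Tw.nonempty_tensorPow_inverse eN hN hQ n
    have hcl : PicF.pullCl (PicF.XTmap f a) (PicF.cl L) = PicF.cl M₀ :=
      Quot.sound ⟨e ≪≫ H10Coh.Tw.assoc M₀ _ _ ≪≫ tI (Iso.refl M₀) φ ≪≫ H10Coh.Tw.rightUnitIso M₀⟩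
    have hn := hP₀.natural _ _ a _ hc
    rw [hcl, hφ] at hn
    refine ⟨_, (pt_of a ha τ (pointOfClosedPoint_comp _ _ _) ?_).trans (pointOfClosedPoint_apply _ _ _ _)⟩
    exact congrArg CommaMorphism.left hn
  have hs := surjective_of_closedPoints g.continuous hsurj
  have hA : ∀ w : A, FlatMor.localDim A w = n := H8Props.FieldDim.localDim_eq_of_smooth qA n
  haveI : LocallyOfFiniteType g := H8Props.FieldDim.locallyOfFiniteType_of_over (k := Ω) qA qZ g hgq
  refine le_antisymm ?_ ?_
  · rw [H8Props.FieldDim.dim_eq_iSup_cdim]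
    refine iSup_le fun z => ?_
    obtain ⟨w, rfl⟩ := hs z
    calc cdim (g w) = 0 + cdim (g w) := (zero_add _).symm
      _ ≤ cdim (g.asFiber w) + cdim (g w) := add_le_add (H22Alg.FibreCount.cdim_nonneg _) le_rfl
      _ = cdim w := (H8Props.FieldDim.cdim_eq_add qA qZ g hgq w).symm
      _ ≤ FlatMor.localDim A w := by
          rw [H8Props.FieldDim.localDim_eq qA w]
          exact le_iSup_of_le ⟨w, specializes_rfl⟩ le_rfl
      _ = n := hA w
  · -- a rigid divisor gives a finite fibre
    obtain ⟨M₁, hM₁, hd₁, h₁⟩ := H29RR.exists_deg_h0_eq_one (k := Ω) (X := F) hdim n hg.ge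
    obtain ⟨a₁, ha₁, ⟨e₁⟩⟩ := hcatch Ω x b M₁ hM₁ hd₁
      (show 0 < Module.finrank Ω (Coh.HH F M₁ 0) from h₁ ▸ one_pos)
    let τ₁ : Spec (CommRingCat.of Ω) ⟶ Z := hsq.lift (a₁.left ≫ h.left) (𝟙 _) (by
      rw [Category.assoc, Over.w h, Over.w a₁]
      exact (Category.id_comp x).symm)
    let w₁ : A := pA a₁ ha₁ (IsLocalRing.closedPoint Ω)
    have hgw₁ : g w₁ = τ₁ (IsLocalRing.closedPoint Ω) := pt_of a₁ ha₁ τ₁ (hsq.lift_snd _ _ _) (hsq.lift_fst _ _ _)
    let z₁ := g w₁
    have hz₁ : IsClosed ({z₁} : Set Z) := by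
      show IsClosed ({g w₁} : Set Z)
      rw [hgw₁]
      exact mem_closedPoints_iff.1 (pointEquivClosedPoint qZ ⟨τ₁, hsq.lift_snd _ _ _⟩).2
    haveI : JacobsonSpace A := LocallyOfFiniteType.jacobsonSpace qA
    have hfib : ((g ⁻¹' {z₁}) ∩ closedPoints A).Finite := by
      let bad : Set (Over.mk x ⟶ W) := {a | a ≫ y = b ∧ Nonempty (pb (PicF.XTmap f a) L ≅
        CohB1.tensorMod M₁ (CohB1.tensorPow (ClSub.idealMod (sec f b).ker) n))}
      have hbad : bad.Finite := hfin Ω x b M₁ hM₁ h₁
      let toA : (Over.mk x ⟶ W) → A := fun a =>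
        if ha : a ≫ y = b then pA a ha (IsLocalRing.closedPoint Ω) else w₁
      refine (hbad.image toA).subset ?_
      rintro w ⟨hwz, hwc⟩
      let ρ := pointOfClosedPoint qA w hwc
      let a : Over.mk x ⟶ W := Over.homMk (ρ ≫ pullback.fst yl bl) (by
        show (ρ ≫ pullback.fst yl bl) ≫ W.hom = x
        rw [← hyf, Category.assoc, pullback.condition_assoc, hbf, ← Category.assoc,
          pointOfClosedPoint_comp]
        exact Category.id_comp x)
      have hay : a ≫ y = b := Over.OverMorphism.ext (by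
        show (ρ ≫ pullback.fst yl bl) ≫ yl = bl
        rw [Category.assoc, pullback.condition, ← Category.assoc, pointOfClosedPoint_comp, Category.id_comp])
      have hρg : ρ ≫ g = τ₁ := ext_of_apply_closedPoint_eq qZ
        (by rw [Category.assoc, hgq, pointOfClosedPoint_comp]) (hsq.lift_snd _ _ _)
        (by rw [Scheme.Hom.comp_apply, pointOfClosedPoint_apply]; exact (Set.mem_singleton_iff.1 hwz).trans hgw₁)
      have hah : a ≫ h = a₁ ≫ h := Over.OverMorphism.ext (by
        show (ρ ≫ pullback.fst yl bl) ≫ h.left = a₁.left ≫ h.left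
        rw [Category.assoc, ← hgg, ← Category.assoc, hρg]
        exact hsq.lift_fst _ _ _)
      have key : ∀ a' : Over.mk x ⟶ W, AbDual.IsPicZeroCl f (Over.mk x) (PicF.cl (pb (PicF.XTmap f a') L)) :=
        fun a' => (isPicZeroCl_iff_degAt f _ (H11Ample.isInvertible_pullback _ hL)).2 fun t => by
          rw [degAt_pullback f a' hL]
          exact hL0 _
      obtain ⟨θ⟩ := iso_of_point_eq f P₀ φ₀ hP₀ x (key a) (key a₁)
        ((hP₀.natural _ _ a _ hc).trans (hah.trans (hP₀.natural _ _ a₁ _ hc).symm))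
      refine ⟨a, ⟨hay, ⟨θ ≪≫ e₁⟩⟩, ?_⟩
      show (if ha : a ≫ y = b then pA a ha (IsLocalRing.closedPoint Ω) else w₁) = w
      rw [dif_pos hay, show pA a hay = ρ from pullback.hom_ext (pullback.lift_fst _ _ _)
        ((pullback.lift_snd _ _ _).trans (pointOfClosedPoint_comp _ _ _).symm)]
      exact pointOfClosedPoint_apply _ _ _ _
    have hd0 : topologicalKrullDim (g ⁻¹' {z₁} : Set A) ≤ 0 :=
      dim_le_zero_of_finite_closedPoints (hz₁.preimage g.continuous) hfib
    have hle : ∀ {T : Type u} [TopologicalSpace T] (t : T), FlatMor.localDim T t ≤ topologicalKrullDim T :=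
      fun {T} _ t => iInf_le_of_le ⟨⊤, trivial⟩ (topologicalKrullDim_subspace_le T _)
    calc (n : WithBot ℕ∞) = FlatMor.localDim A w₁ := (hA w₁).symm
      _ ≤ FlatMor.fibreDimAt g w₁ + FlatMor.localDim Z (g w₁) :=
          (H8Props.FieldDim.localDim_le_fibreDimAt_add qA qZ g hgq w₁).1
      _ ≤ 0 + topologicalKrullDim Z := add_le_add
          ((hle _).trans ((H22Alg.FibreCount.dim_fiber_eq_preimage g (g w₁)).le.trans hd0)) (hle _)
      _ = topologicalKrullDim Z := zero_add _

end Groth.Agent.H12Pic.PicCurve
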