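import Groth.Agent.H12Pic.PicCurve.SqZeroPic
import Groth.Agent.H12Pic.PicCurve.VanishLocal
import Groth.Agent.H12Pic.PicCurve.BaseChangePic
import Groth.Agent.H12Pic.RigPoints
import Groth.Agent.H12Pic.FibreConst
import Groth.Agent.LeadBC.GenBC.AppIso
import Groth.Agent.H14IsoNat.SHCritSch
import Groth.Agent.H17.LocusBC
import Groth.Agent.H17.OmegaLocal
import Groth.Agent.H17.RegPres.Chart
import Groth.Agent.H19Grp.SepPoints
import Groth.Agent.H8Props.FieldDimScheme
import Groth.Agent.H7Flat.ThickeningFinite
import Groth.Agent.S1549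
import Groth.Agent.S5038

/-!
# The Picard scheme of a proper relative curve is smooth
-/

set_option autoImplicit false
set_option linter.style.haveILetI false
set_option backward.isDefEq.respectTransparency.types false

noncomputable section

universe u

open CategoryTheory CategoryTheory.Limits AlgebraicGeometry Opposite TopologicalSpace

namespace Groth.Agent.H12Pic.PicCurve.SmoothPic

open Groth.Agent.H17.PullCl

/-- The dimension of a fibre is unchanged by base change. -/
theorem dim_fiber_baseChange {X S S' : Scheme.{u}} (f : X ⟶ S) [LocallyOfFiniteType f] (b : S' ⟶ S) (t : S') :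
    topologicalKrullDim ↥((pullback.snd f b).fiber t) = topologicalKrullDim ↥(f.fiber (b t)) := by
  have hsq : IsPullback (pullback.fst f b) (pullback.snd f b) f b := IsPullback.of_hasPullback f b
  have h := isPullback_fiberToSpecResidueField_of_isPullback hsq t
  haveI : LocallyOfFiniteType (f.fiberToSpecResidueField (b t)) :=
    MorphismProperty.of_isPullback (IsPullback.of_hasPullback f (S.fromSpecResidueField (b t))) inferInstance
  letI := (b.residueFieldMap t).hom.toAlgebra
  exact H8Props.FieldDim.dim_baseChange (k := S.residueField (b t)) (K := S'.residueField t) _ _ _ h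

/-- A point of a fibre at which the fibre is smooth is a smooth point of a flat morphism. -/
theorem mem_smoothLocus_of_fibre {X S : Scheme.{u}} (f : X ⟶ S) [LocallyOfFinitePresentation f] [Flat f]
    (y : S) [LocallyOfFinitePresentation (f.fiberToSpecResidueField y)] (z : f.fiber y)
    (hz : z ∈ (f.fiberToSpecResidueField y).smoothLocus) : f.fiberι y z ∈ f.smoothLocus := by
  obtain ⟨x, hx⟩ : ∃ x, x = f.fiberι y z := ⟨_, rfl⟩
  have hy : f x = y := by
    have h : x ∈ Set.range (f.fiberι y) := ⟨z, hx.symm⟩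
    rwa [f.range_fiberι] at h
  rw [← hx]
  subst hy
  refine H17.LocusBC.mem_smoothLocus_of_flat_of_fiber f _ (Flat.stalkMap f _) ?_
  have hz' : f.asFiber x = z :=
    (f.fiberι _).isEmbedding.injective ((f.fiberι_asFiber _).trans hx)
  rwa [hz']

/-- Smooth points of a base change to a field are smooth points. -/
theorem mem_smoothLocus_of_field_baseChange {X S Z : Scheme.{u}} {k : Type u} [Field k] {f : X ⟶ S}
    [Flat f] [LocallyOfFinitePresentation f] {ι : Spec (CommRingCat.of k) ⟶ S} {a : Z ⟶ X}
    {g : Z ⟶ Spec (CommRingCat.of k)} [LocallyOfFinitePresentation g] (hsq : IsPullback a g f ι) (w : Z)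
    (hw : w ∈ g.smoothLocus) : a w ∈ f.smoothLocus := by
  haveI i1 : LocallyOfFinitePresentation (g.fiberToSpecResidueField (g w)) :=
    MorphismProperty.of_isPullback (IsPullback.of_hasPullback g _) ‹LocallyOfFinitePresentation g›
  haveI i2 : LocallyOfFinitePresentation (f.fiberToSpecResidueField (ι (g w))) :=
    MorphismProperty.of_isPullback (IsPullback.of_hasPullback f _) ‹LocallyOfFinitePresentation f›
  have hwt : g.asFiber w ∈ (g.fiberToSpecResidueField (g w)).smoothLocus :=
    H17.LocusBC.preimage_smoothLocus_le (IsPullback.of_hasPullback g (Scheme.fromSpecResidueField _ (g w)))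
      (show g.fiberι (g w) (g.asFiber w) ∈ g.smoothLocus by rw [g.fiberι_asFiber]; exact hw)
  haveI : Flat (Spec.map (ι.residueFieldMap (g w))) := by
    rw [HasRingHomProperty.Spec_iff (P := @Flat)]
    letI := (ι.residueFieldMap (g w)).hom.toAlgebra
    show Module.Flat (S.residueField (ι (g w))) ((Spec (CommRingCat.of k)).residueField (g w))
    infer_instance
  have h3' := H17.LocusBC.mem_smoothLocus_of_flat_baseChange (f := f.fiberToSpecResidueField (ι (g w)))
      (f' := g.fiberToSpecResidueField (g w))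
      (isPullback_fiberToSpecResidueField_of_isPullback hsq (g w)) _ hwt
  have h3 := mem_smoothLocus_of_fibre f (ι (g w)) _ h3'
  have hfib : ∀ (q : g.fiber (g w) ⟶ f.fiber (ι (g w))), q ≫ f.fiberι (ι (g w)) = g.fiberι (g w) ≫ a →
      f.fiberι (ι (g w)) (q (g.asFiber w)) = a w := fun q hq => by
    rw [← Scheme.Hom.comp_apply, hq, Scheme.Hom.comp_apply, g.fiberι_asFiber]
  exact (hfib _ (pullback.lift_fst _ _ _)) ▸ h3

/-- A flat finitely presented morphism to the spectrum of a henselian local ring with separably closed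
residue field whose closed fibre is geometrically reduced and nonempty has a section. -/
theorem exists_section {R : Type u} [CommRing R] [HenselianLocalRing R]
    [IsSepClosed (IsLocalRing.ResidueField R)] {X : Scheme.{u}} (f : X ⟶ Spec (CommRingCat.of R))
    [Flat f] [LocallyOfFinitePresentation f] [GeometricallyReduced f] [GeometricallyConnected f] :
    ∃ u : Spec (CommRingCat.of R) ⟶ X, u ≫ f = 𝟙 _ := by
  let k := IsLocalRing.ResidueField R
  let ι : Spec (CommRingCat.of k) ⟶ Spec (CommRingCat.of R) := Spec.map (CommRingCat.ofHom (IsLocalRing.residue R))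
  let Z := pullback f ι
  letI : Z.Over (Spec (CommRingCat.of k)) := ⟨pullback.snd f ι⟩
  haveI : GeometricallyReduced (Z ↘ Spec (CommRingCat.of k)) := MorphismProperty.pullback_snd _ _ ‹GeometricallyReduced f›
  haveI : GeometricallyConnected (Z ↘ Spec (CommRingCat.of k)) := MorphismProperty.pullback_snd _ _ ‹GeometricallyConnected f›
  haveI : LocallyOfFiniteType (Z ↘ Spec (CommRingCat.of k)) := MorphismProperty.pullback_snd _ _ (inferInstance : LocallyOfFiniteType f)
  haveI : IsReduced Z :=
    GeometricallyReduced.geometrically_isReduced (f := f) _ _ _ (IsPullback.of_hasPullback f ι)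
  haveI : ConnectedSpace Z :=
    GeometricallyConnected.geometrically_connectedSpace (f := f) _ _ _ (IsPullback.of_hasPullback f ι)
  obtain ⟨U, hU, hUs⟩ := (Groth.Agent.S1549.result k Z).1 ‹_›
  haveI : Nonempty Z := inferInstance
  obtain ⟨z, hz⟩ := hU.nonempty
  haveI : Smooth (U.ι ≫ (Z ↘ Spec (CommRingCat.of k))) := hUs
  obtain ⟨s, hs, -⟩ := H19Grp.exists_section_mem (U.ι ≫ (Z ↘ Spec (CommRingCat.of k))) (⊤ : U.toScheme.Opens)
    (x := ⟨z, hz⟩) trivial
  let u₀ : Spec (CommRingCat.of k) ⟶ X := s ≫ U.ι ≫ pullback.fst f ι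
  have hu₀ : u₀ ≫ f = ι := by
    refine Eq.trans ?_ (Category.id_comp ι)
    rw [← hs]
    simp only [u₀, Category.assoc]
    exact congrArg (fun m => s ≫ U.ι ≫ m) pullback.condition
  -- the image is a smooth point
  let q : Spec (CommRingCat.of k) := IsLocalRing.closedPoint k
  let w : Z := U.ι (s q)
  haveI : LocallyOfFinitePresentation (pullback.snd f ι) :=
    MorphismProperty.pullback_snd _ _ ‹LocallyOfFinitePresentation f›
  haveI : Smooth (U.ι ≫ pullback.snd f ι) := hUs
  have hw : w ∈ (pullback.snd f ι).smoothLocus :=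
    H17.LocusBC.subset_smoothLocus_of_smooth _ U (s q).2
  let x : X := pullback.fst f ι w
  have hx : x ∈ f.smoothLocus :=
    mem_smoothLocus_of_field_baseChange (IsPullback.of_hasPullback f ι) w hw
  let V := f.smoothLocus
  haveI : Smooth (V.ι ≫ f) := H17.LocusBC.smooth_restrict_smoothLocus f
  have hr : Set.range u₀ ⊆ Set.range V.ι := by
    rintro _ ⟨p, rfl⟩
    rw [Scheme.Opens.range_ι, show p = q from Subsingleton.elim _ _]
    exact hx
  obtain ⟨u, hu, -⟩ := Groth.Agent.S5038.result R (V.ι ≫ f) (IsOpenImmersion.lift V.ι u₀ hr)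
    (by rw [IsOpenImmersion.lift_fac_assoc]; exact hu₀)
  exact ⟨u ≫ V.ι, by rw [Category.assoc]; exact hu⟩

/-- invertible classes lift along a square-zero closed immersion when `H²` of its ideal vanishes -/
theorem exists_lift_cl {Y Z : Scheme.{u}} (i : Z ⟶ Y) [IsClosedImmersion i] (hi : i.ker * i.ker = ⊥)
    (h2 : Subsingleton (Coh.HH Y (ClSub.idealMod i.ker) 2)) (c : PicF.Cl Z) (hc : PicF.IsInvertibleCl c) :
    ∃ d : PicF.Cl Y, PicF.IsInvertibleCl d ∧ PicF.pullCl i d = c := by
  obtain ⟨d, hd, hdc⟩ := SqZeroPic.pullCl_surjective hi h2 (PicF.pullCl (inv i.toImage) c)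
    (isInvertibleCl_pullCl _ hc)
  refine ⟨d, hd, ?_⟩
  have e := congrArg (PicF.pullCl i.toImage) hdc
  rw [← pullCl_comp, ← pullCl_comp, IsIso.hom_inv_id] at e
  rw [pullCl_congr i.toImage_imageι.symm]
  exact e.trans (pullCl_id c)

/-- the kernel of a square-zero thickening squares to zero -/
theorem ker_thick_mul_self {R : Type u} [CommRing R] {I : Ideal R} (hI : I ^ 2 = ⊥) :
    (H14IsoNat.SHCrit.thick I).ker * (H14IsoNat.SHCrit.thick I).ker = ⊥ := by
  refine Scheme.IdealSheafData.ext_of_isAffine ?_
  rw [Scheme.IdealSheafData.ideal_mul, Scheme.IdealSheafData.ideal_bot, Pi.mul_apply, Pi.bot_apply, eq_bot_iff]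
  haveI : IsClosedImmersion (H14IsoNat.SHCrit.thick I) :=
    IsClosedImmersion.spec_of_surjective _ Ideal.Quotient.mk_surjective
  have h1 : (H14IsoNat.SHCrit.thick I).ker.ideal ⟨⊤, isAffineOpen_top _⟩ =
      Ideal.map (Scheme.ΓSpecIso (CommRingCat.of R)).inv.hom I := by
    rw [Scheme.Hom.ker_apply]
    exact H17.RegPres.ker_appTop_spec I
  rw [h1, ← Ideal.map_mul, ← pow_two, hI, Ideal.map_bot]

/-- The Picard scheme of a proper relative curve with geometrically reduced and connected fibres is smooth. -/
theorem smooth_pic {C S : Scheme.{u}} (f : C ⟶ S)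
    [IsProper f] [Flat f] [LocallyOfFinitePresentation f] [GeometricallyReduced f] [GeometricallyConnected f]
    (hdim : ∀ s : S, topologicalKrullDim ↥(f.fiber s) ≤ 1)
    (P : Over S) (φ : ∀ T : Over S, PicF.Cl (PicF.XT f T) → (T ⟶ P))
    (hP : AbDual.IsRelPicK Scheme.fppfPrecoverage f P φ) [LocallyOfFinitePresentation P.hom] :
    Smooth P.hom := by
  refine H14IsoNat.SHCrit.smooth_of_lifting P.hom fun R _ _ _ I hI a b hab => ?_
  let g := pullback.snd f b
  haveI : IsProper g := MorphismProperty.pullback_snd _ _ ‹IsProper f›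
  haveI : Flat g := MorphismProperty.pullback_snd _ _ ‹Flat f›
  haveI : LocallyOfFinitePresentation g := MorphismProperty.pullback_snd _ _ ‹LocallyOfFinitePresentation f›
  haveI : GeometricallyReduced g := MorphismProperty.pullback_snd _ _ ‹GeometricallyReduced f›
  haveI : GeometricallyConnected g := MorphismProperty.pullback_snd _ _ ‹GeometricallyConnected f›
  obtain ⟨σ, hσ⟩ := exists_section g
  have hK := isIso_appTop_fiber_of_geomConnected_geomReduced g
  have ha : ∀ (T : Over (Spec (CommRingCat.of R))) (U : T.left.Opens), IsIso ((PicF.XTproj g T).app U) :=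
    fun T U => LeadBC.GenBC.isIso_app_of_fibres (pullback.snd g T.hom)
      (LeadBC.GenBC.isIso_appTop_fibre_baseChange g (IsPullback.of_hasPullback g T.hom) hK) U
  have hP' := BaseChangePic.isRelPicK_bc f b hP
  let T : Over (Spec (CommRingCat.of R)) := Over.mk (H14IsoNat.SHCrit.thick I)
  let Q : Over (Spec (CommRingCat.of R)) := Over.mk (𝟙 _)
  let a' : T ⟶ BaseChangePic.bcP b P :=
    Over.homMk (pullback.lift a (H14IsoNat.SHCrit.thick I) hab.symm) (pullback.lift_snd _ _ _)
  obtain ⟨c, hc⟩ := RigPoints.point_surjective g hσ _ hP' ha T a'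
  let e : PicF.XT g Q ≅ pullback f b := asIso (pullback.fst g (𝟙 _))
  let j : T ⟶ Q := Over.homMk (H14IsoNat.SHCrit.thick I) (Category.comp_id _)
  haveI : IsClosedImmersion (H14IsoNat.SHCrit.thick I) :=
    IsClosedImmersion.spec_of_surjective _ Ideal.Quotient.mk_surjective
  let i := pullback.fst g (H14IsoNat.SHCrit.thick I)
  have hi : i.ker * i.ker = ⊥ := by
    rw [Scheme.IdealSheafData.ker_fst_of_isClosedImmersion, ← H29Blow.comap_mul, ker_thick_mul_self hI,
      eq_bot_iff, ← Scheme.IdealSheafData.le_map_iff_comap_le]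
    exact bot_le
  have hd1 : topologicalKrullDim ↥(g.fiber (IsLocalRing.closedPoint R : Spec (CommRingCat.of R))) ≤ 1 :=
    (dim_fiber_baseChange f b _).trans_le (hdim _)
  have h2 := VanishLocal.subsingleton_HH g 1 (by exact_mod_cast hd1) (ClSub.idealMod i.ker)
    (H17.OmegaLocal.isQuasicoherent_idealMod _) 2 one_lt_two
  obtain ⟨d, hd, hdc⟩ := exists_lift_cl i hi h2 c.1 c.2.1
  let h' := BaseChangePic.bcφ f b P φ Q (PicF.pullCl e.hom d)
  refine ⟨h'.left ≫ pullback.fst P.hom b, ?_, ?_⟩
  · have hn := hP'.natural Q T j (PicF.pullCl e.hom d) (isInvertibleCl_pullCl _ hd)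
    rw [← pullCl_comp] at hn
    have he : PicF.XTmap g j ≫ e.hom = i := XTmap_fst g j
    rw [he, hdc, hc] at hn
    have hn' := congrArg (fun m => m.left ≫ pullback.fst P.hom b) hn
    simp only [Over.comp_left, Category.assoc] at hn'
    exact hn'.symm.trans (pullback.lift_fst _ _ _)
  · rw [Category.assoc, pullback.condition, ← Category.assoc]
    exact (congrArg (· ≫ b) (Over.w h')).trans (Category.id_comp b)

end Groth.Agent.H12Pic.PicCurve.SmoothPic
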