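import Groth.Agent.H12Pic.PicCurve.DegreePic
import Groth.Agent.H12Pic.PicCurve.DegreeClass
import Groth.Agent.H12Pic.PicCurve.EllipticPic
import Groth.Agent.H12Pic.PicCurve.SmoothPic

/-!
# Degree zero: the algebraically trivial part of the Picard scheme of a smooth curve is open and closed
-/

set_option autoImplicit false
set_option linter.style.haveILetI false
set_option linter.unusedSectionVars false
set_option maxHeartbeats 1200000
set_option backward.isDefEq.respectTransparency.types false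

noncomputable section

universe u

open CategoryTheory CategoryTheory.Limits AlgebraicGeometry TopologicalSpace Opposite

namespace Groth.Agent.H12Pic.PicCurve

open Groth.Agent.H12Pic.RigPoints
open Groth.Agent.H25Theta (pb)

variable {C S : Scheme.{u}} (f : C ⟶ S) [IsProper f] [SmoothOfRelativeDimension 1 f] [GeometricallyConnected f]

theorem hdim_family (T : Over S) (t : T.left) :
    topologicalKrullDim ((PicF.XTproj f T).fiber t) ≤ 1 := by
  obtain ⟨_, _, _⟩ := family_facts f T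
  haveI := smoothOfRelativeDimension_isStableUnderBaseChange.{u} (n := 1)
  let π := PicF.XTproj f T
  letI : (π.fiber t).Over (Spec (CommRingCat.of (T.left.residueField t))) := ⟨π.fiberToSpecResidueField t⟩
  have hsq := IsPullback.of_hasPullback π (T.left.fromSpecResidueField t)
  haveI : IsProper (π.fiber t ↘ Spec (CommRingCat.of (T.left.residueField t))) :=
    MorphismProperty.of_isPullback hsq inferInstance
  haveI : SmoothOfRelativeDimension 1 (π.fiber t ↘ Spec (CommRingCat.of (T.left.residueField t))) :=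
    MorphismProperty.of_isPullback hsq inferInstance
  haveI : GeometricallyConnected (π.fiber t ↘ Spec (CommRingCat.of (T.left.residueField t))) :=
    MorphismProperty.of_isPullback hsq inferInstance
  exact (curve_facts (T.left.residueField t) (π.fiber t)).2.le

/-- A class is algebraically trivial on the geometric fibres iff it has degree zero on the fibres. -/
theorem isPicZeroCl_iff_degAt (T : Over S) {L : (PicF.XT f T).Modules} (hL : PicF.IsInvertible L) :
    AbDual.IsPicZeroCl f T (PicF.cl L) ↔ ∀ t, degAt f T L t = 0 := by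
  obtain ⟨_, _, _⟩ := family_facts f T
  have key : ∀ t, degAt f T L t =
      fibEuler (PicF.XTproj f T) L t - fibEuler (PicF.XTproj f T) (Coh.structureModule _) t := fun t => by
    rw [fibEuler_eq, fibEuler_eq]
    rfl
  constructor
  · rintro ⟨M, hMc, hM, hM0⟩ t
    obtain ⟨e⟩ := Sep.iso_of_cl_eq hMc
    rw [← degAt_congr f e]
    rw [show degAt f T M t = fibEuler (PicF.XTproj f T) M t -
      fibEuler (PicF.XTproj f T) (Coh.structureModule _) t by rw [fibEuler_eq, fibEuler_eq]; rfl,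
      (forall_isAlgTrivialAt_iff _ hM).1 hM0 t, sub_self]
  · intro h
    refine ⟨L, rfl, hL, (forall_isAlgTrivialAt_iff _ hL).2 fun t => ?_⟩
    have := h t
    rw [key] at this
    omega

/-- Two morphisms are equal when they are equal on the members of an fppf covering. -/
theorem hom_eq_of_members {T Z : Scheme.{u}} {R : Presieve T} (hR : R ∈ Scheme.fppfPrecoverage T)
    {a b : T ⟶ Z} (h : ∀ ⦃U : Scheme.{u}⦄ (v : U ⟶ T), R v → v ≫ a = v ≫ b) : a = b := by
  obtain ⟨U, v, hv, -, hfl, -, hsurj⟩ := exists_member hR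
  haveI := hfl; haveI := hsurj
  haveI : Epi (Sigma.desc v) := Flat.epi_of_flat_of_surjective _
  rw [← cancel_epi (Sigma.desc v)]
  refine Sigma.hom_ext _ _ fun t => ?_
  rw [Sigma.ι_desc_assoc, Sigma.ι_desc_assoc]
  exact h _ (hv t)

variable (P : Over S) (φ : ∀ T : Over S, PicF.Cl (PicF.XT f T) → (T ⟶ P))
  (hP : AbDual.IsRelPicK Scheme.fppfPrecoverage f P φ)
  (P₀ : Over S) (φ₀ : ∀ T : Over S, PicF.Cl (PicF.XT f T) → (T ⟶ P₀))
  (hP₀ : AbDual.IsRelPicZeroK Scheme.fppfPrecoverage f P₀ φ₀)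
  (j : P₀ ⟶ P) (hj : ∀ (T : Over S) (c : PicF.Cl (PicF.XT f T)), AbDual.IsPicZeroCl f T c → φ₀ T c ≫ j = φ T c)

include hP hP₀ hj in
/-- `j` is a monomorphism. -/
theorem mono_picZeroHom : Mono j.left := by
  refine ⟨fun {Z} x y hxy => ?_⟩
  let T : Over S := Over.mk (x ≫ P₀.hom)
  have hy : y ≫ P₀.hom = x ≫ P₀.hom := by
    rw [← Over.w j, ← Category.assoc, ← Category.assoc, hxy]
  let a : T ⟶ P₀ := Over.homMk x rfl
  let b : T ⟶ P₀ := Over.homMk y hy
  have hab : a ≫ j = b ≫ j := Over.OverMorphism.ext hxy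
  obtain ⟨R₁, hR₁, hR₁'⟩ := hP₀.locallySurjective T a
  refine hom_eq_of_members hR₁ fun U v hv => ?_
  obtain ⟨c, hc, hca⟩ := hR₁' v hv
  let q := AbDual.ovrHom T v
  obtain ⟨R₂, hR₂, hR₂'⟩ := hP₀.locallySurjective (AbDual.ovr T v) (q ≫ b)
  refine hom_eq_of_members hR₂ fun U₂ v₂ hv₂ => ?_
  obtain ⟨c', hc', hcb⟩ := hR₂' v₂ hv₂
  let q₂ := AbDual.ovrHom (AbDual.ovr T v) v₂
  obtain ⟨L, hLc, hL, hL0⟩ := id hc
  subst hLc
  have hL2 : AbDual.IsPicZeroCl f (AbDual.ovr (AbDual.ovr T v) v₂) (PicF.cl (pb (PicF.XTmap f q₂) L)) :=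
    (isPicZeroCl_iff_degAt f _ (H11Ample.isInvertible_pullback _ hL)).2 fun t => by
      rw [degAt_pullback f q₂ hL]
      exact (isPicZeroCl_iff_degAt f _ hL).1 hc _
  have ea : φ₀ _ (PicF.cl (pb (PicF.XTmap f q₂) L)) = q₂ ≫ q ≫ a :=
    (hP₀.natural _ _ q₂ _ hc).trans (congrArg (q₂ ≫ ·) hca)
  have hφ : φ _ (PicF.cl (pb (PicF.XTmap f q₂) L)) = φ _ c' := by
    rw [← hj _ _ hL2, ← hj _ _ hc', ea, hcb]
    simp only [Category.assoc, hab]
    rfl
  obtain ⟨M, hMc, hM, -⟩ := id hc'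
  obtain ⟨R₃, hR₃, hR₃'⟩ := hP.locallyInjective _ _ c' ⟨_, rfl, H11Ample.isInvertible_pullback _ hL⟩
    ⟨M, hMc, hM⟩ hφ
  refine hom_eq_of_members hR₃ fun U₃ v₃ hv₃ => ?_
  let q₃ := AbDual.ovrHom (AbDual.ovr (AbDual.ovr T v) v₂) v₃
  have e := congrArg (φ₀ _) (hR₃' v₃ hv₃)
  rw [hP₀.natural _ _ q₃ _ hL2, hP₀.natural _ _ q₃ _ hc', ea, hcb] at e
  exact congrArg CommaMorphism.left e

include hP hP₀ hj in
/-- The algebraically trivial part is the open and closed degree zero part. -/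
theorem picZero_openClosed :
    IsOpenImmersion j.left ∧ IsClosedImmersion j.left := by
  haveI : Smooth f := SmoothOfRelativeDimension.smooth 1 f
  obtain ⟨d, hdc, hd⟩ := exists_degree f P φ hP (hdim_family f)
  let O : P.left.Opens := ⟨d ⁻¹' {0}, hdc.isOpen_fiber 0⟩
  have hrange : Set.range j.left ⊆ Set.range O.ι := by
    rw [Scheme.Opens.range_ι]
    rintro _ ⟨p, rfl⟩
    obtain ⟨R, hR, hR'⟩ := hP₀.locallySurjective P₀ (𝟙 P₀)
    obtain ⟨U, v, hv, hz, -, -, -⟩ := exists_member hR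
    obtain ⟨z, hzp⟩ := hz p
    obtain ⟨c, hc, hφ⟩ := hR' (v p) (hv p)
    obtain ⟨L, rfl, hL, -⟩ := id hc
    show d (j.left p) = 0
    have h := hd _ L hL z
    rw [← hj _ _ hc, hφ] at h
    rw [(isPicZeroCl_iff_degAt f _ hL).1 hc z] at h
    refine Eq.trans ?_ h
    exact (congrArg (fun q => d (j.left q)) hzp).symm
  let α : P₀.left ⟶ O.toScheme := IsOpenImmersion.lift O.ι j.left hrange
  have hα : α ≫ O.ι = j.left := IsOpenImmersion.lift_fac _ _ _
  haveI := mono_picZeroHom f P φ hP P₀ φ₀ hP₀ j hj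
  haveI : Mono α := mono_of_mono_fac hα
  let P₁ : Over S := Over.mk (O.ι ≫ P.hom)
  let i₁ : P₁ ⟶ P := Over.homMk O.ι rfl
  obtain ⟨R, hR, hR'⟩ := hP.locallySurjective P₁ i₁
  obtain ⟨U, v, hv, -, hfl, hlfp, hsurj⟩ := exists_member hR
  choose c hc hφ using fun t => hR' (v t) (hv t)
  choose L hLc hL using hc
  have hc0 : ∀ t, AbDual.IsPicZeroCl f _ (PicF.cl (L t)) := fun t =>
    (isPicZeroCl_iff_degAt f _ (hL t)).2 fun z => by
      rw [← hd _ _ (hL t) z, hLc t, hφ t]
      exact ((v t) z).2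
  let w : (∐ U) ⟶ P₀.left := Sigma.desc fun t => (φ₀ _ (PicF.cl (L t))).left
  have hw : w ≫ α = Sigma.desc v := Sigma.hom_ext _ _ fun t => by
    rw [Sigma.ι_desc_assoc, Sigma.ι_desc, ← cancel_mono O.ι, Category.assoc, hα]
    have h := congrArg CommaMorphism.left ((hj _ _ (hc0 t)).trans ((congrArg (φ _) (hLc t)).trans (hφ t)))
    exact h
  haveI : IsIso (pullback.snd α (Sigma.desc v)) := by
    haveI : IsSplitEpi (pullback.snd α (Sigma.desc v)) :=
      ⟨⟨⟨pullback.lift w (𝟙 _) (hw.trans (Category.id_comp _).symm), pullback.lift_snd _ _ _⟩⟩⟩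
    exact isIso_of_mono_of_isSplitEpi _
  haveI : IsIso α := MorphismProperty.of_pullback_snd_of_descendsAlong (P := MorphismProperty.isomorphisms Scheme.{u})
    (Q := @Surjective ⊓ @Flat ⊓ @LocallyOfFinitePresentation) (f := α) (g := Sigma.desc v)
    ⟨⟨hsurj, hfl⟩, hlfp⟩ (MorphismProperty.isomorphisms.infer_property _)
  have ho : IsOpenImmersion j.left := hα ▸ inferInstanceAs (IsOpenImmersion (α ≫ O.ι))
  refine ⟨ho, IsClosedImmersion.of_isPreimmersion _ ?_⟩
  have hr : Set.range j.left = d ⁻¹' {0} := by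
    refine subset_antisymm (hrange.trans O.range_ι.le) fun x hx => ?_
    refine ⟨inv α ⟨x, hx⟩, ?_⟩
    rw [← Scheme.Hom.comp_apply]
    rw [show inv α ≫ j.left = O.ι by rw [← hα, IsIso.inv_hom_id_assoc]]
    rfl
  rw [hr]
  exact hdc.isClosed_fiber 0

end Groth.Agent.H12Pic.PicCurve
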