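import Groth.Agent.H12Pic.PicCurve.FibrePic

/-!
# The algebraically trivial part of the Picard scheme is quasi-compact over the base
-/

set_option autoImplicit false
set_option linter.style.haveILetI false
set_option linter.unusedSectionVars false
set_option backward.isDefEq.respectTransparency.types false

noncomputable section

universe u

open CategoryTheory CategoryTheory.Limits AlgebraicGeometry TopologicalSpace

namespace Groth.Agent.H12Pic.PicCurve.PicZeroQC

open Groth.Agent.H17.PullCl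
open Groth.Agent.H25Theta (Cls cls cls_eq cls_tensor cls_structureModule pull pull_cls pull_pull pb pC pO)

section Transport

variable {k : Type u} [Field k] {Y Z : Scheme.{u}} (p : Y ⟶ Spec (CommRingCat.of k)) (p' : Z ⟶ Spec (CommRingCat.of k))

/-- Algebraic equivalence to zero is stable under pullback. -/
theorem algEquiv_pullback (ε : Z ⟶ Y) (hε : ε ≫ p = p') {L : Y.Modules}
    (h : @Pic13.IsAlgEquivZero k _ Y ⟨p⟩ L) : @Pic13.IsAlgEquivZero k _ Z ⟨p'⟩ (pb ε L) := by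
  letI : Y.Over (Spec (CommRingCat.of k)) := ⟨p⟩
  letI : Z.Over (Spec (CommRingCat.of k)) := ⟨p'⟩
  obtain ⟨T, q, h1, h2, h3, M, hM, t, t₀, ht, ht₀, ⟨e⟩, ⟨e₀⟩⟩ := h
  let m : Pic13.prodK k Z q ⟶ Pic13.prodK k Y q :=
    pullback.lift (pullback.fst _ _ ≫ ε) (pullback.snd _ _) (by
      rw [Category.assoc]
      exact (congrArg (pullback.fst _ _ ≫ ·) hε).trans pullback.condition)
  have key : ∀ (s : Spec (CommRingCat.of k) ⟶ T) (hs : s ≫ q = 𝟙 _),
      Pic13.sliceAt k Z q s hs ≫ m = ε ≫ Pic13.sliceAt k Y q s hs := by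
    intro s hs
    apply pullback.hom_ext
    · simp only [m, Pic13.sliceAt, Category.assoc, pullback.lift_fst, pullback.lift_fst_assoc,
        Category.id_comp, Category.comp_id]
    · simp only [m, Pic13.sliceAt, Category.assoc, pullback.lift_snd, pullback.lift_snd_assoc]
      rw [← Category.assoc]
      exact congrArg (· ≫ s) hε.symm
  exact ⟨T, q, h1, h2, h3, pb m M, H11Ample.isInvertible_pullback m hM, t, t₀, ht, ht₀,
    ⟨pC _ _ (key t ht) M ≪≫ (pC ε _ rfl M).symm ≪≫ (Scheme.Modules.pullback ε).mapIso e⟩,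
    ⟨pC _ _ (key t₀ ht₀) M ≪≫ (pC ε _ rfl M).symm ≪≫ (Scheme.Modules.pullback ε).mapIso e₀ ≪≫ pO ε⟩⟩

end Transport

/-- A point over an algebraically closed field in the image of a morphism locally of finite type lifts. -/
theorem exists_lift_point {U T : Scheme.{u}} (v : U ⟶ T) [LocallyOfFiniteType v] {Ω : Type u} [Field Ω]
    [IsAlgClosed Ω] (τ : Spec (CommRingCat.of Ω) ⟶ T) (h : τ (IsLocalRing.closedPoint Ω) ∈ Set.range v) :
    ∃ σ : Spec (CommRingCat.of Ω) ⟶ U, σ ≫ v = τ := by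
  obtain ⟨z, hz⟩ := h
  obtain ⟨w, -, -⟩ := Scheme.Pullback.exists_preimage_pullback (f := v) (g := τ) z (IsLocalRing.closedPoint Ω) hz
  haveI : JacobsonSpace ↥(pullback v τ) := LocallyOfFiniteType.jacobsonSpace (pullback.snd v τ)
  obtain ⟨y, -, hy⟩ := nonempty_inter_closedPoints (Z := (Set.univ : Set ↥(pullback v τ))) ⟨w, trivial⟩
    isOpen_univ.isLocallyClosed
  rw [mem_closedPoints_iff] at hy
  refine ⟨pointOfClosedPoint (pullback.snd v τ) y hy ≫ pullback.fst v τ, ?_⟩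
  rw [Category.assoc, pullback.condition, pointOfClosedPoint_comp_assoc]

variable {X S : Scheme.{u}} (f : X ⟶ S) (P : Over S) (φ : ∀ T : Over S, PicF.Cl (PicF.XT f T) → (T ⟶ P))
  (hP : AbDual.IsRelPicK Scheme.fppfPrecoverage f P φ)
  (P₀ : Over S) (φ₀ : ∀ T : Over S, PicF.Cl (PicF.XT f T) → (T ⟶ P₀))
  (hP₀ : AbDual.IsRelPicZeroK Scheme.fppfPrecoverage f P₀ φ₀)
  (j : P₀ ⟶ P) (hj : ∀ (T : Over S) (c : PicF.Cl (PicF.XT f T)), AbDual.IsPicZeroCl f T c → φ₀ T c ≫ j = φ T c)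

/-- The structure sheaf is algebraically trivial on all geometric fibres. -/
theorem isPicZeroCl_structure (T : Over S) :
    AbDual.IsPicZeroCl f T (PicF.cl (Coh.structureModule (PicF.XT f T))) := by
  refine ⟨_, rfl, H11Ample.isInvertible_structureModule, fun t Ω _ _ σ _ => ?_⟩
  letI : (pullback (PicF.XTproj f T) σ).Over (Spec (CommRingCat.of Ω)) := ⟨pullback.snd (PicF.XTproj f T) σ⟩
  exact CurveFam.algEquiv_congr (pO _).symm CurveFam.algEquiv_structure

include hP hP₀ hj in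
/-- A point over an algebraically closed field of the trivial part is a class algebraically equivalent to zero. -/
theorem exists_algEquiv_class {Ω : Type u} [Field Ω] [IsAlgClosed Ω] (x : Spec (CommRingCat.of Ω) ⟶ S)
    (b : Over.mk x ⟶ P₀) :
    ∃ L : (pullback f x).Modules, PicF.IsInvertible L ∧
      @Pic13.IsAlgEquivZero Ω _ (pullback f x) ⟨pullback.snd f x⟩ L ∧
      φ (Over.mk x) (PicF.cl L) = b ≫ j := by
  obtain ⟨R, hR, hR'⟩ := hP₀.locallySurjective _ b
  obtain ⟨U, v, hv, hz, -, -, -⟩ := RigPoints.exists_member hR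
  let t₀ : Spec (CommRingCat.of Ω) := IsLocalRing.closedPoint Ω
  let v₀ : U t₀ ⟶ Spec (CommRingCat.of Ω) := v t₀
  obtain ⟨c, hc, hφ⟩ := hR' (v t₀) (hv t₀)
  haveI : LocallyOfFinitePresentation v₀ := (hR.2 (hv t₀)).2
  obtain ⟨σ, hσ⟩ := exists_lift_point v₀ (𝟙 _) (by simpa using hz t₀)
  let g : Over.mk x ⟶ AbDual.ovr (Over.mk x) (v t₀) := Over.homMk σ (by
    show σ ≫ v₀ ≫ x = x
    rw [← Category.assoc, hσ, Category.id_comp])
  have hg : g ≫ AbDual.ovrHom (Over.mk x) (v t₀) = 𝟙 _ := Over.OverMorphism.ext hσ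
  obtain ⟨L, hLc, hL, hL0⟩ := id hc
  subst hLc
  let z := σ t₀
  have hrange : Set.range σ.base = {z} := by
    ext y
    refine ⟨?_, fun hy => ⟨t₀, hy.symm⟩⟩
    rintro ⟨w, rfl⟩
    exact congrArg σ (Subsingleton.elim w t₀)
  let m : pullback f x ⟶ pullback (PicF.XTproj f (AbDual.ovr (Over.mk x) (v t₀))) σ :=
    pullback.lift (PicF.XTmap f g) (pullback.snd f x) (XTmap_snd f g)
  let m₁ : pullback (PicF.XTproj f (AbDual.ovr (Over.mk x) (v t₀))) σ ⟶
      PicF.XT f (AbDual.ovr (Over.mk x) (v t₀)) := pullback.fst _ _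
  have hmm : m ≫ m₁ = PicF.XTmap f g := pullback.lift_fst _ _ _
  let L' : (pullback f x).Modules := pb (PicF.XTmap f g) L
  refine ⟨L', H11Ample.isInvertible_pullback _ hL, ?_, ?_⟩
  · have h := algEquiv_pullback _ (pullback.snd f x) m (pullback.lift_snd _ _ _) (hL0 z Ω σ hrange)
    letI : (pullback f x).Over (Spec (CommRingCat.of Ω)) := ⟨pullback.snd f x⟩
    exact CurveFam.algEquiv_congr (pC m m₁ hmm L) h
  · refine (hP.natural _ _ g _ ⟨L, rfl, hL⟩).trans ?_
    rw [← hj _ _ hc, hφ, ← Category.assoc, ← Category.assoc, hg, Category.id_comp]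

variable [IsProper f] [Smooth f] [GeometricallyConnected f] [LocallyOfFinitePresentation P.hom]
  [IsClosedImmersion j.left] [IsOpenImmersion j.left]

include hP hP₀ hj in
/-- The trivial part is quasi-compact over affine opens. -/
theorem isCompact_preimage {V : S.Opens} (hV : IsAffineOpen V) : IsCompact (P₀.hom ⁻¹ᵁ V : Set P₀.left) := by
  classical
  haveI : IsAffine V.toScheme := hV
  let O₀ : ∀ T : Over S, PicF.Cl (PicF.XT f T) := fun T => PicF.cl (Coh.structureModule (PicF.XT f T))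
  let B : Over S := Over.mk V.ι
  let a₀ : B ⟶ P₀ := φ₀ B (O₀ B)
  have ha₀ : ∀ y : B.left, a₀.left y ∈ P₀.hom ⁻¹ᵁ V := fun y => by
    show P₀.hom (a₀.left y) ∈ V
    rw [← Scheme.Hom.comp_apply, Over.w a₀]
    exact y.2
  -- a quasi-compact neighbourhood of the zero section
  haveI : CompactSpace B.left := inferInstanceAs (CompactSpace V.toScheme)
  have hnb : ∀ y : B.left, ∃ W : P₀.left.Opens, IsAffineOpen W ∧ a₀.left y ∈ W ∧ W ≤ P₀.hom ⁻¹ᵁ V := fun y => by
    obtain ⟨W, hW, hyW, hWV⟩ := exists_isAffineOpen_mem_and_subset (ha₀ y)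
    exact ⟨W, hW, hyW, hWV⟩
  choose W hW hyW hWV using hnb
  obtain ⟨F, hF⟩ := isCompact_univ.elim_finite_subcover (fun y => a₀.left ⁻¹' (W y : Set P₀.left))
    (fun y => (W y).isOpen.preimage a₀.left.continuous) fun y _ => Set.mem_iUnion.2 ⟨y, hyW y⟩
  let U₀ : P₀.left.Opens := ⨆ y ∈ F, W y
  have hU₀V : U₀ ≤ P₀.hom ⁻¹ᵁ V := iSup₂_le fun y _ => hWV y
  have hU₀c : IsCompact (U₀ : Set P₀.left) := by
    simp only [U₀, TopologicalSpace.Opens.coe_iSup]
    exact F.isCompact_biUnion fun y _ => (hW y).isCompact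
  have hU₀0 : ∀ y : B.left, a₀.left y ∈ U₀ := fun y => by
    obtain ⟨y', hy', h⟩ := Set.mem_iUnion₂.1 (hF (Set.mem_univ y))
    exact TopologicalSpace.Opens.mem_iSup.2 ⟨y', TopologicalSpace.Opens.mem_iSup.2 ⟨hy', h⟩⟩
  let U : P.left.Opens := j.left ''ᵁ U₀
  have hUV : ∀ p ∈ U, P.hom p ∈ V := by
    rintro _ ⟨q, hq, rfl⟩
    show (j.left ≫ P.hom) q ∈ V
    rw [Over.w j]
    exact hU₀V hq
  have hUc : IsCompact (U : Set P.left) := hU₀c.image j.left.continuous
  -- classes on finitely many affines covering the neighbourhood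
  let T₀ : Over S := Over.mk (U.ι ≫ P.hom)
  let g₀ : T₀ ⟶ P := Over.homMk U.ι rfl
  obtain ⟨R, hR, hR'⟩ := hP.locallySurjective T₀ g₀
  obtain ⟨Um, v, hv, hz, -, -, -⟩ := RigPoints.exists_member hR
  choose z hzp using hz
  choose A hA hzA using fun p => exists_isAffineOpen_mem_and_subset
    (U := (⊤ : (Um p).Opens)) (x := z p) trivial
  let v' : ∀ p, (A p).toScheme ⟶ U.toScheme := fun p => (A p).ι ≫ v p
  haveI hvf : ∀ p, Flat (v' p) := fun p => by
    haveI : Flat (v p) := (hR.2 (hv p)).1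
    infer_instance
  haveI hvp : ∀ p, LocallyOfFinitePresentation (v' p) := fun p => by
    haveI : LocallyOfFinitePresentation (v p) := (hR.2 (hv p)).2
    infer_instance
  haveI : CompactSpace U.toScheme := isCompact_iff_compactSpace.1 hUc
  obtain ⟨G, hG⟩ := isCompact_univ.elim_finite_subcover (fun p : U.toScheme => Set.range (v' p))
    (fun p => (v' p).isOpenMap.isOpen_range) fun p _ => Set.mem_iUnion.2 ⟨p, ⟨z p, (hzA p).1⟩, hzp p⟩
  -- the affines over the open of the base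
  let T : U.toScheme → Over S := fun p => Over.mk (v' p ≫ U.ι ≫ P.hom)
  let i : ∀ p, T p ⟶ AbDual.ovr T₀ (v p) := fun p => Over.homMk (A p).ι (Category.assoc _ _ _).symm
  choose c hc hφc using fun p => hR' (v p) (hv p)
  have hcT : ∀ p, PicF.IsInvertibleCl (PicF.pullCl (PicF.XTmap f (i p)) (c p)) :=
    fun p => isInvertibleCl_pullCl _ (hc p)
  choose L hLc hL using hcT
  choose N hN hNL using fun p => H11Sym.exists_inverse (hL p)
  have hφL : ∀ p, (φ (T p) (PicF.cl (L p))).left = v' p ≫ U.ι := fun p => by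
    rw [hLc p, hP.natural _ _ (i p) _ (hc p), hφc p]
    exact (Category.assoc _ _ _).symm
  let a : ∀ p, (A p).toScheme ⟶ V.toScheme := fun p => IsOpenImmersion.lift V.ι (T p).hom (by
    rintro _ ⟨y, rfl⟩
    rw [Scheme.Opens.range_ι]
    exact hUV _ (v' p y).2)
  have ha : ∀ p, a p ≫ V.ι = (T p).hom := fun p => IsOpenImmersion.lift_fac _ _ _
  let Tp : U.toScheme × U.toScheme → Over S := fun q =>
    Over.mk (pullback.fst (a q.1) (a q.2) ≫ a q.1 ≫ V.ι)
  let pr₁ : ∀ q, Tp q ⟶ T q.1 := fun q => Over.homMk (pullback.fst (a q.1) (a q.2)) (by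
    show pullback.fst (a q.1) (a q.2) ≫ (T q.1).hom = _
    rw [← ha q.1]
    rfl)
  let pr₂ : ∀ q, Tp q ⟶ T q.2 := fun q => Over.homMk (pullback.snd (a q.1) (a q.2)) (by
    show pullback.snd (a q.1) (a q.2) ≫ (T q.2).hom = _
    rw [← ha q.2, ← pullback.condition_assoc]
    rfl)
  let D : ∀ q, (PicF.XT f (Tp q)).Modules := fun q =>
    CohB1.tensorMod (pb (PicF.XTmap f (pr₁ q)) (L q.1)) (pb (PicF.XTmap f (pr₂ q)) (N q.2))
  have hD : ∀ q, PicF.IsInvertible (D q) := fun q =>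
    H11Ample.isInvertible_tensor (H11Ample.isInvertible_pullback _ (hL q.1)) (H11Ample.isInvertible_pullback _ (hN q.2))
  let H : ∀ q, Tp q ⟶ P := fun q => φ (Tp q) (PicF.cl (D q))
  let K : Set P.left := ⋃ q ∈ (G ×ˢ G), Set.range (H q).left
  have hK : IsCompact K := (G ×ˢ G).isCompact_biUnion fun q _ => by
    haveI : IsAffine (A q.1).toScheme := hA q.1
    haveI : IsAffine (A q.2).toScheme := hA q.2
    haveI : CompactSpace ↥(Tp q).left := inferInstanceAs (CompactSpace ↥(pullback (a q.1) (a q.2)))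
    exact isCompact_range (H q).left.continuous
  have hKV : ∀ p ∈ K, P.hom p ∈ V := by
    intro p hp
    obtain ⟨q, -, y, rfl⟩ := Set.mem_iUnion₂.1 hp
    rw [← Scheme.Hom.comp_apply, Over.w (H q)]
    exact (a q.1 (pullback.fst (a q.1) (a q.2) y)).2
  suffices h : (P₀.hom ⁻¹ᵁ V : Set P₀.left) = j.left ⁻¹' K by
    rw [h]; exact j.left.isClosedEmbedding.isCompact_preimage hK
  refine Set.Subset.antisymm (fun p₀ hp₀ => ?_) fun p₀ hp₀ => by
    show P₀.hom p₀ ∈ V
    rw [← Over.w j, Scheme.Hom.comp_apply]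
    exact hKV _ hp₀
  -- a geometric point
  let Ω := AlgebraicClosure (P₀.left.residueField p₀)
  let bl : Spec (CommRingCat.of Ω) ⟶ P₀.left :=
    Spec.map (CommRingCat.ofHom (algebraMap (P₀.left.residueField p₀) Ω)) ≫ P₀.left.fromSpecResidueField p₀
  let x : Spec (CommRingCat.of Ω) ⟶ S := bl ≫ P₀.hom
  let b : Over.mk x ⟶ P₀ := Over.homMk bl rfl
  let o : Spec (CommRingCat.of Ω) := IsLocalRing.closedPoint Ω
  have hbl : bl o = p₀ := by
    rw [show bl o = P₀.left.fromSpecResidueField p₀ _ from Scheme.Hom.comp_apply _ _ _]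
    exact Scheme.fromSpecResidueField_apply _ _
  have hxV : ∀ w, x w ∈ V := fun w => by
    rw [Subsingleton.elim w o, show x o = P₀.hom (bl o) from Scheme.Hom.comp_apply _ _ _, hbl]
    exact hp₀
  obtain ⟨L₀, hL₀, halg, hL₀b⟩ := exists_algEquiv_class f P φ hP P₀ φ₀ hP₀ j hj x b
  have h0 : (φ (Over.mk x) (PicF.cl (Coh.structureModule (pullback f x)))).left o ∈ U := by
    let e : Over.mk x ⟶ B := Over.homMk (IsOpenImmersion.lift V.ι x (by
      rintro _ ⟨w, rfl⟩
      rw [Scheme.Opens.range_ι]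
      exact hxV w)) (IsOpenImmersion.lift_fac _ _ _)
    have h1 : φ₀ (Over.mk x) (O₀ (Over.mk x)) = e ≫ a₀ := by
      rw [← hP₀.natural _ _ e _ (isPicZeroCl_structure f B)]
      exact congrArg (φ₀ _) (Quot.sound ⟨(pO _).symm⟩)
    rw [show φ (Over.mk x) (PicF.cl (Coh.structureModule (pullback f x))) = φ₀ (Over.mk x) (O₀ (Over.mk x)) ≫ j from
      (hj (Over.mk x) _ (isPicZeroCl_structure f (Over.mk x))).symm]
    refine ⟨_, ?_, (Scheme.Hom.comp_apply _ _ _).symm⟩
    show (φ₀ (Over.mk x) (O₀ (Over.mk x))).left o ∈ U₀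
    rw [h1]
    exact hU₀0 _
  obtain ⟨M, M', hM, hM', hMO, hMO', ⟨eM⟩⟩ := FibrePic.exists_difference f x P φ hP U h0 hL₀ halg
  -- lifts of the two points
  have lift : ∀ (M : (pullback f x).Modules), PicF.IsInvertible M → (φ (Over.mk x) (PicF.cl M)).left o ∈ U →
      ∃ p ∈ G, ∃ g : Over.mk x ⟶ T p, pull (PicF.XTmap f g) (cls (L p)) = cls M := by
    intro M hM hMU
    let τ : Spec (CommRingCat.of Ω) ⟶ P.left := (φ (Over.mk x) (PicF.cl M)).left
    let τ' : Spec (CommRingCat.of Ω) ⟶ U.toScheme := IsOpenImmersion.lift U.ι τ (by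
      rintro _ ⟨w, rfl⟩
      rw [Scheme.Opens.range_ι, Subsingleton.elim w o]
      exact hMU)
    have hτ' : τ' ≫ U.ι = τ := IsOpenImmersion.lift_fac _ _ _
    obtain ⟨p, hp, hpr⟩ := Set.mem_iUnion₂.1 (hG (Set.mem_univ (τ' o)))
    obtain ⟨σ, hσ⟩ := exists_lift_point (v' p) τ' hpr
    let g : Over.mk x ⟶ T p := Over.homMk σ (by
      show σ ≫ v' p ≫ U.ι ≫ P.hom = x
      rw [reassoc_of% hσ, reassoc_of% hτ']
      exact Over.w (φ (Over.mk x) (PicF.cl M)))
    refine ⟨p, hp, g, ?_⟩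
    refine FibrePic.phi_injective f x P φ hP (isInvertibleCl_pullCl _ ⟨L p, rfl, hL p⟩) ⟨M, rfl, hM⟩ ?_
    refine (hP.natural _ _ g _ ⟨L p, rfl, hL p⟩).trans (Over.OverMorphism.ext ?_)
    rw [Over.comp_left, hφL p]
    show σ ≫ v' p ≫ U.ι = τ
    rw [reassoc_of% hσ, hτ']
  obtain ⟨p₁, hp₁, g₁, hg₁⟩ := lift M' hM' hMO'
  obtain ⟨p₂, hp₂, g₂, hg₂⟩ := lift M hM hMO
  let g : Over.mk x ⟶ Tp (p₁, p₂) := Over.homMk (pullback.lift g₁.left g₂.left (by
      rw [← cancel_mono V.ι, Category.assoc, Category.assoc, ha p₁, ha p₂]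
      exact (Over.w g₁).trans (Over.w g₂).symm)) (by
    show pullback.lift _ _ _ ≫ pullback.fst (a p₁) (a p₂) ≫ a p₁ ≫ V.ι = x
    rw [pullback.lift_fst_assoc, ha p₁]
    exact Over.w g₁)
  have e₁ : PicF.XTmap f g ≫ PicF.XTmap f (pr₁ (p₁, p₂)) = PicF.XTmap f g₁ := by
    rw [← XTmap_comp, show g ≫ pr₁ (p₁, p₂) = g₁ from Over.OverMorphism.ext (pullback.lift_fst _ _ _)]
  have e₂ : PicF.XTmap f g ≫ PicF.XTmap f (pr₂ (p₁, p₂)) = PicF.XTmap f g₂ := by
    rw [← XTmap_comp, show g ≫ pr₂ (p₁, p₂) = g₂ from Over.OverMorphism.ext (pullback.lift_snd _ _ _)]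
  have hinv : pull (PicF.XTmap f g₂) (cls (N p₂)) * (cls M : Cls (PicF.XT f (Over.mk x))) = 1 := by
    rw [← hg₂, ← map_mul, ← cls_tensor, cls_eq.2 (hNL p₂), cls_structureModule, map_one]
  have hgD : pull (PicF.XTmap f g) (cls (D (p₁, p₂))) = cls L₀ := by
    simp only [D, cls_tensor, map_mul]
    rw [← pull_cls, ← pull_cls, pull_pull, pull_pull, e₁, e₂, hg₁, ← cls_eq.2 ⟨eM⟩, cls_tensor,
      mul_comm (cls M) (cls L₀), mul_assoc, mul_comm (cls M) _, hinv, mul_one]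
  refine Set.mem_iUnion₂.2 ⟨(p₁, p₂), Finset.mem_product.2 ⟨hp₁, hp₂⟩, g.left o, ?_⟩
  have hb : g ≫ H (p₁, p₂) = b ≫ j :=
    ((hP.natural _ _ g _ ⟨D (p₁, p₂), rfl, hD _⟩).symm.trans (congrArg (φ _) hgD)).trans hL₀b
  refine Eq.trans ?_ (congrArg j.left hbl)
  exact congrArg (fun m : Over.mk x ⟶ P => m.left o) hb

include hP hP₀ hj in
/-- The trivial part is quasi-compact over the base. -/
theorem quasiCompact : QuasiCompact P₀.hom :=
  quasiCompact_iff_forall_isAffineOpen.2 fun _ hV => isCompact_preimage f P φ hP P₀ φ₀ hP₀ j hj hV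

end Groth.Agent.H12Pic.PicCurve.PicZeroQC
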