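import Groth.Agent.H12Pic.PicCurve.PicZeroQC
import Groth.Agent.H12Pic.PicCurve.ValExtend
import Mathlib.RingTheory.Valuation.LocalSubring
import Mathlib.AlgebraicGeometry.ValuativeCriterion

/-!
# Properness of the algebraically trivial part of the Picard scheme
-/

set_option autoImplicit false
set_option linter.style.haveILetI false
set_option linter.unusedSectionVars false
set_option backward.isDefEq.respectTransparency.types false

noncomputable section

universe u

open CategoryTheory CategoryTheory.Limits AlgebraicGeometry TopologicalSpace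

namespace Groth.Agent.H12Pic.PicCurve.PicZeroVal

open Groth.Agent.H17.PullCl
open Groth.Agent.H25Theta (pb pC pI)
open ValExtend (genPt genMap genFib)

/-- A morphism from a local scheme factors through every affine open containing the image of the closed point. -/
theorem exists_factor {R : Type u} [CommRing R] [IsLocalRing R] {Y : Scheme.{u}}
    (a : Spec (CommRingCat.of R) ⟶ Y) {A : Y.Opens} (hA : IsAffineOpen A)
    (h : a (IsLocalRing.closedPoint R) ∈ A) : ∃ α : Γ(Y, A) ⟶ CommRingCat.of R, a = Spec.map α ≫ hA.fromSpec := by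
  let a' : Spec (CommRingCat.of R) ⟶ Spec Γ(Y, A) := IsOpenImmersion.lift hA.fromSpec a (by
    rintro _ ⟨t, rfl⟩
    rw [hA.range_fromSpec]
    exact ((IsLocalRing.specializes_closedPoint t).map a.continuous).mem_open A.isOpen h)
  refine ⟨Spec.preimage a', ?_⟩
  rw [Spec.map_preimage]
  exact (IsOpenImmersion.lift_fac _ _ _).symm

/-- Morphisms from a local scheme are determined after a local injective extension. -/
theorem hom_ext_local {R R' : Type u} [CommRing R] [IsLocalRing R] [CommRing R'] [IsLocalRing R'] (ι : R →+* R')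
    [IsLocalHom ι] (hι : Function.Injective ι) {Y : Scheme.{u}} {a b : Spec (CommRingCat.of R) ⟶ Y}
    (h : Spec.map (CommRingCat.ofHom ι) ≫ a = Spec.map (CommRingCat.ofHom ι) ≫ b) : a = b := by
  let c := IsLocalRing.closedPoint R
  have hc : Spec.map (CommRingCat.ofHom ι) (IsLocalRing.closedPoint R') = c := IsLocalRing.comap_closedPoint ι
  obtain ⟨A, hA, hcA, -⟩ := exists_isAffineOpen_mem_and_subset (U := (⊤ : Y.Opens)) (x := a c) trivial
  have hb : b c ∈ A := by
    rw [← hc, ← Scheme.Hom.comp_apply, ← h, Scheme.Hom.comp_apply, hc]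
    exact hcA
  obtain ⟨α, rfl⟩ := exists_factor a hA hcA
  obtain ⟨β, rfl⟩ := exists_factor b hA hb
  rw [← Category.assoc, ← Category.assoc, cancel_mono, ← Spec.map_comp, ← Spec.map_comp] at h
  have h' := Spec.map_injective h
  congr 2
  refine CommRingCat.hom_ext (RingHom.ext fun r => hι ?_)
  exact congrArg (fun g : Γ(Y, A) ⟶ CommRingCat.of R' => g.hom r) h'

/-- The generic point of a domain specializes to every point. -/
theorem specializes_genPt {V : Type u} [CommRing V] [IsDomain V] (t : Spec (CommRingCat.of V)) :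
    genPt V (IsLocalRing.closedPoint (FractionRing V)) ⤳ t := by
  refine (PrimeSpectrum.le_iff_specializes _ _).1 fun v hv => ?_
  have : algebraMap V (FractionRing V) v ∈ IsLocalRing.maximalIdeal (FractionRing V) := hv
  rw [IsLocalRing.mem_maximalIdeal, mem_nonunits_iff, isUnit_iff_ne_zero, not_not,
    map_eq_zero_iff _ (IsFractionRing.injective V (FractionRing V))] at this
  rw [this]
  exact t.asIdeal.zero_mem

variable {X S : Scheme.{u}} (f : X ⟶ S) [IsProper f] [Smooth f] [GeometricallyConnected f]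
  (P : Over S) (φ : ∀ T : Over S, PicF.Cl (PicF.XT f T) → (T ⟶ P))
  (hP : AbDual.IsRelPicK Scheme.fppfPrecoverage f P φ)

include hP in
/-- Points of the Picard scheme over the algebraically closed fraction field of a valuation ring extend. -/
theorem exists_extension_point {V : Type u} [CommRing V] [IsDomain V] [ValuationRing V]
    [IsAlgClosed (FractionRing V)] (s : Spec (CommRingCat.of V) ⟶ S)
    (y : Spec (CommRingCat.of (FractionRing V)) ⟶ P.left) (hy : y ≫ P.hom = genPt V ≫ s) :
    ∃ z : Spec (CommRingCat.of V) ⟶ P.left, z ≫ P.hom = s ∧ genPt V ≫ z = y := by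
  let x : Spec (CommRingCat.of (FractionRing V)) ⟶ S := genPt V ≫ s
  obtain ⟨c, hc, hφ⟩ := FibrePic.phi_surjective f x P φ hP (Over.homMk y hy)
  obtain ⟨L, rfl, hL⟩ := hc
  letI : (pullback f s).Over (Spec (CommRingCat.of V)) := ⟨pullback.snd f s⟩
  haveI : IsProper ((pullback f s) ↘ Spec (CommRingCat.of V)) := MorphismProperty.pullback_snd _ _ ‹IsProper f›
  haveI : Smooth ((pullback f s) ↘ Spec (CommRingCat.of V)) := MorphismProperty.pullback_snd _ _ ‹Smooth f›
  haveI : GeometricallyConnected ((pullback f s) ↘ Spec (CommRingCat.of V)) :=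
    MorphismProperty.pullback_snd _ _ ‹GeometricallyConnected f›
  let e : genFib ((pullback f s) ↘ Spec (CommRingCat.of V)) ≅ pullback f x := pullbackLeftPullbackSndIso f s (genPt V)
  obtain ⟨M, hM, ⟨η⟩⟩ := ValExtend.exists_extension (V := V) (X := pullback f s)
    (L := pb e.hom L) (H11Ample.isInvertible_pullback _ hL)
  let g : Over.mk x ⟶ Over.mk s := Over.homMk (genPt V) rfl
  have hm : e.inv ≫ genMap ((pullback f s) ↘ Spec (CommRingCat.of V)) = PicF.XTmap f g := by
    apply pullback.hom_ext
    · rw [Category.assoc]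
      exact (pullbackLeftPullbackSndIso_inv_fst f s (genPt V)).trans (XTmap_fst f g).symm
    · rw [Category.assoc]
      exact (pullbackLeftPullbackSndIso_inv_fst_snd f s (genPt V)).trans (XTmap_snd f g).symm
  refine ⟨(φ (Over.mk s) (PicF.cl M)).left, Over.w (φ (Over.mk s) (PicF.cl M)), ?_⟩
  have h1 : PicF.pullCl (PicF.XTmap f g) (PicF.cl M) = PicF.cl L :=
    Quot.sound ⟨(pC _ _ hm M).symm ≪≫ (Scheme.Modules.pullback e.inv).mapIso η ≪≫
      pC _ _ rfl L ≪≫ pI (e.inv ≫ e.hom) e.inv_hom_id L⟩
  exact congrArg CommaMorphism.left ((hP.natural _ _ g _ ⟨M, rfl, hM⟩).symm.trans ((congrArg (φ _) h1).trans hφ))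

variable (P₀ : Over S) (j : P₀ ⟶ P) [IsOpenImmersion j.left] [IsClosedImmersion j.left]

include hP j in
/-- The existence part of the valuative criterion for the trivial part. -/
theorem existence : ValuativeCriterion.Existence P₀.hom := by
  rintro ⟨R, K, i₁, i₂, ⟨hsq⟩⟩
  let Kb := AlgebraicClosure K
  let κ : K →+* Kb := algebraMap K Kb
  let ρ : R →+* Kb := κ.comp (algebraMap R K)
  obtain ⟨V', hle, hloc⟩ := LocalSubring.exists_le_valuationSubring (LocalSubring.range ρ)
  let ι : R →+* V' := (Subring.inclusion hle).comp ρ.rangeRestrict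
  haveI hrr : IsLocalHom ρ.rangeRestrict := by
    refine ⟨fun a ha => ?_⟩
    obtain ⟨⟨_, b, rfl⟩, hb⟩ := isUnit_iff_exists_inv.1 ha
    have h1 : ρ (a * b) = ρ 1 := by
      rw [map_mul, map_one]
      exact congrArg Subtype.val hb
    exact IsUnit.of_mul_eq_one b ((κ.injective.comp (IsFractionRing.injective R K)) h1)
  haveI hι : IsLocalHom ι := ⟨fun a ha => hrr.map_nonunit a (hloc.map_nonunit _ ha)⟩
  have hιρ : ∀ r, (ι r : Kb) = ρ r := fun _ => rfl
  have hιinj : Function.Injective ι := fun a b h =>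
    (κ.injective.comp (IsFractionRing.injective R K)) (congrArg Subtype.val h)
  -- elements of `K` in `V'` lie in `R`
  have hmem : ∀ k : K, κ k ∈ V' → k ∈ (algebraMap R K).range := by
    intro k hk
    obtain h | h := ValuationRing.isInteger_or_isInteger R k
    · exact h
    · obtain ⟨r, hr⟩ := h
      rcases eq_or_ne k 0 with rfl | hk0
      · exact ⟨0, map_zero _⟩
      have hu : IsUnit (ι r) := by
        refine IsUnit.of_mul_eq_one ⟨κ k, hk⟩ (Subtype.ext ?_)
        show κ (algebraMap R K r) * κ k = 1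
        rw [← map_mul, hr, inv_mul_cancel₀ hk0, map_one]
      have hru : IsUnit r := (IsLocalHom.map_nonunit (f := ι) r hu)
      refine ⟨((hru.unit⁻¹ : Rˣ) : R), ?_⟩
      have h2 := congrArg (algebraMap R K) hru.mul_val_inv
      rw [map_mul, hr, map_one] at h2
      exact (inv_mul_eq_one₀ hk0).1 h2 |>.symm
  -- the geometric generic point
  let ψ := (FractionRing.algEquiv V' Kb).symm.toRingEquiv
  haveI : IsAlgClosed (FractionRing V') := IsAlgClosed.of_ringEquiv _ _ ψ
  let y : Spec (CommRingCat.of (FractionRing V')) ⟶ P₀.left :=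
    Spec.map (CommRingCat.ofHom ψ.toRingHom) ≫ Spec.map (CommRingCat.ofHom κ) ≫ i₁
  let s : Spec (CommRingCat.of V') ⟶ S := Spec.map (CommRingCat.ofHom ι) ≫ i₂
  have hψ : ∀ v : V', ψ (v : Kb) = algebraMap V' (FractionRing V') v :=
    fun v => (FractionRing.algEquiv V' Kb).symm.commutes v
  have hy : y ≫ P₀.hom = genPt V' ≫ s := by
    have hr : CommRingCat.ofHom (algebraMap R K) ≫ CommRingCat.ofHom κ ≫ CommRingCat.ofHom ψ.toRingHom =
        CommRingCat.ofHom ι ≫ CommRingCat.ofHom (algebraMap V' (FractionRing V')) :=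
      CommRingCat.hom_ext (RingHom.ext fun r => hψ (ι r))
    simp only [y, s, genPt, Category.assoc, hsq, ← Spec.map_comp_assoc, hr]
  have hj : (y ≫ j.left) ≫ P.hom = genPt V' ≫ s := by rw [Category.assoc, Over.w j, hy]
  obtain ⟨z, hz, hzy⟩ := exists_extension_point f P φ hP s (y ≫ j.left) hj
  let w : Spec (CommRingCat.of V') ⟶ P₀.left := IsOpenImmersion.lift j.left z (by
    rintro _ ⟨t, rfl⟩
    refine ((specializes_genPt t).map z.continuous).mem_closed j.left.isClosedEmbedding.isClosed_range ?_
    rw [← Scheme.Hom.comp_apply, hzy, Scheme.Hom.comp_apply]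
    exact ⟨_, rfl⟩)
  have hwz : w ≫ j.left = z := IsOpenImmersion.lift_fac _ _ _
  have hwy : genPt V' ≫ w = y := by rw [← cancel_mono j.left, Category.assoc, hwz, hzy]
  have hws : w ≫ P₀.hom = s := by rw [← Over.w j, ← Category.assoc, hwz, hz]
  -- descent
  obtain ⟨W, hW, hwW, -⟩ := exists_isAffineOpen_mem_and_subset (U := (⊤ : P₀.left.Opens))
    (x := w (IsLocalRing.closedPoint V')) trivial
  obtain ⟨α, hα⟩ := exists_factor w hW hwW
  have hi : i₁ (IsLocalRing.closedPoint K) ∈ W := by
    have h1 : y (IsLocalRing.closedPoint (FractionRing V')) = i₁ (IsLocalRing.closedPoint K) := by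
      simp only [y, Scheme.Hom.comp_apply]
      exact congrArg i₁ (Subsingleton.elim _ _)
    rw [← h1, ← hwy, Scheme.Hom.comp_apply]
    exact ((IsLocalRing.specializes_closedPoint _).map w.continuous).mem_open W.isOpen hwW
  obtain ⟨β, hβ⟩ := exists_factor i₁ hW hi
  have hαβ : ∀ r, κ (β.hom r) = (α.hom r : Kb) := by
    intro r
    have h2 := hwy
    simp only [y, genPt, hα, hβ, ← Spec.map_comp_assoc] at h2
    rw [cancel_mono] at h2
    have h3 := congrArg (fun g : Γ(P₀.left, W) ⟶ CommRingCat.of (FractionRing V') => g.hom r) (Spec.map_injective h2)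
    refine ψ.injective ((Eq.trans ?_ h3.symm).trans (hψ (α.hom r)).symm)
    rfl
  have hrange : ∀ r, β.hom r ∈ (algebraMap R K).range := fun r => hmem _ (by rw [hαβ r]; exact (α.hom r).2)
  let eR : R ≃+* (algebraMap R K).range := RingEquiv.ofBijective (algebraMap R K).rangeRestrict
    ⟨fun a b h => IsFractionRing.injective R K (congrArg Subtype.val h), (algebraMap R K).rangeRestrict_surjective⟩
  let γ : Γ(P₀.left, W) ⟶ CommRingCat.of R :=
    CommRingCat.ofHom (eR.symm.toRingHom.comp (β.hom.codRestrict _ hrange))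
  have hγ : ∀ r, algebraMap R K (γ.hom r) = β.hom r := fun r =>
    congrArg Subtype.val (eR.apply_symm_apply ⟨β.hom r, hrange r⟩)
  have hγ₁ : γ ≫ CommRingCat.ofHom (algebraMap R K) = β := CommRingCat.hom_ext (RingHom.ext hγ)
  have hγ₂ : γ ≫ CommRingCat.ofHom ι = α := CommRingCat.hom_ext (RingHom.ext fun r => Subtype.ext (by
    show ρ (γ.hom r) = _
    rw [← hαβ r, ← hγ r]
    rfl))
  refine ⟨⟨⟨Spec.map γ ≫ hW.fromSpec, ?_, ?_⟩⟩⟩
  · rw [← Spec.map_comp_assoc, hγ₁, ← hβ]
  · refine hom_ext_local ι hιinj ?_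
    rw [← Category.assoc, ← Category.assoc, ← Spec.map_comp, hγ₂, ← hα]
    exact hws

end Groth.Agent.H12Pic.PicCurve.PicZeroVal
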