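import Groth.Agent.H8Props.FieldDimEquidim
import Groth.Agent.H8Props.FieldDimSmooth
import Groth.Agent.H8Props.Devissage.LocalFibre

/-!
# Smooth morphisms with irreducible fibres of one dimension
-/

set_option autoImplicit false
set_option linter.style.haveILetI false
set_option backward.isDefEq.respectTransparency.types false

noncomputable section

universe u

open CategoryTheory CategoryTheory.Limits AlgebraicGeometry TopologicalSpace Opposite

namespace Groth.Agent.H12Pic.PicCurve

/-- A smooth morphism whose fibres are irreducible of dimension `d` has relative dimension `d`. -/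
theorem smoothOfRelativeDimension_of_fibres {X S : Scheme.{u}} (f : X ⟶ S) [Smooth f] (d : ℕ)
    (hirr : ∀ s : S, IrreducibleSpace (f.fiber s)) (hdim : ∀ s : S, topologicalKrullDim (f.fiber s) = d) :
    SmoothOfRelativeDimension d f := by
  haveI h0 : ∀ n, MorphismProperty.IsStableUnderBaseChange (@SmoothOfRelativeDimension.{u} n) :=
    fun n => smoothOfRelativeDimension_isStableUnderBaseChange (n := n)
  refine ⟨fun x => ?_⟩
  obtain ⟨U, hU, V, hV, hxV, e, hs⟩ := Smooth.exists_isStandardSmooth f x
  obtain ⟨n, hn⟩ : ∃ n, (f.appLE U V e).hom.IsStandardSmoothOfRelativeDimension n := by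
    algebraize [(f.appLE U V e).hom]
    obtain ⟨ι, σ, hσ, hι, ⟨P⟩⟩ := (inferInstance : Algebra.IsStandardSmooth Γ(S, U) Γ(X, V)).out
    exact ⟨P.dimension, ⟨ι, σ, hσ, hι, P, rfl⟩⟩
  refine ⟨U, hU, V, hV, hxV, e, ?_⟩
  haveI : SmoothOfRelativeDimension n (Spec.map (f.appLE U V e)) :=
    (HasRingHomProperty.Spec_iff (P := @SmoothOfRelativeDimension n)).mpr
      (RingHom.locally_of RingHom.isStandardSmoothOfRelativeDimension_respectsIso _ hn)
  haveI := hU.isOpenImmersion_fromSpec
  haveI := hV.isOpenImmersion_fromSpec
  let q : Spec Γ(X, V) ⟶ S := hV.fromSpec ≫ f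
  haveI : SmoothOfRelativeDimension n q := by
    show SmoothOfRelativeDimension n (hV.fromSpec ≫ f)
    rw [← hU.SpecMap_appLE_fromSpec f hV e]
    exact inferInstanceAs (SmoothOfRelativeDimension (n + 0) (Spec.map (f.appLE U V e) ≫ hU.fromSpec))
  obtain ⟨p, hp⟩ : x ∈ Set.range hV.fromSpec := by rw [hV.range_fromSpec]; exact hxV
  let s := f x
  let P := pullback q (S.fromSpecResidueField s)
  haveI : SmoothOfRelativeDimension n (pullback.snd q (S.fromSpecResidueField s)) :=
    MorphismProperty.pullback_snd (P := @SmoothOfRelativeDimension n) _ _ inferInstance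
  let j : P ⟶ f.fiber s := pullback.map q (S.fromSpecResidueField s) f (S.fromSpecResidueField s)
    hV.fromSpec (𝟙 _) (𝟙 _) (by simp [q]) (by simp)
  haveI : IsOpenImmersion j := MorphismProperty.pullbackMap (P := @IsOpenImmersion) inferInstance inferInstance
    rfl (Category.id_comp _).symm
  obtain ⟨w, -, -⟩ := Scheme.Pullback.exists_preimage_pullback (f := q) (g := S.fromSpecResidueField s) p
    (IsLocalRing.closedPoint (S.residueField s)) (by
      rw [Scheme.fromSpecResidueField_apply]
      show (hV.fromSpec ≫ f) p = s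
      rw [Scheme.Hom.comp_apply, hp])
  haveI := hirr s
  haveI : Smooth (f.fiberToSpecResidueField s) :=
    MorphismProperty.pullback_snd (P := @Smooth) _ _ inferInstance
  have h1 := H8Props.FieldDim.localDim_eq_of_smooth (k := S.residueField s) (Z := P)
    (pullback.snd q (S.fromSpecResidueField s)) n w
  have h2 := H8Props.FieldDim.localDim_eq_dim_of_irreducible (k := S.residueField s) (Y := f.fiber s)
    (f.fiberToSpecResidueField s) (j w)
  rw [H8Props.Devissage.localDim_openEmbedding j.isOpenEmbedding w, h2, hdim] at h1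
  have : d = n := by exact_mod_cast h1
  exact this ▸ hn

end Groth.Agent.H12Pic.PicCurve
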